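import Cfsg.Agent.Lib.Blocks.ItoPSolvable
import Cfsg.Agent.Lib.PLocal.SolvableSeparable
import Cfsg.Agent.Lib.CharTheory.Gallagher
import Cfsg.Agent.Lib.CharTheory.ExtCriteria
import Cfsg.Agent.Lib.CharTheory.DegreeComplement
import Cfsg.Agent.Lib.CharTheory.More

/-!
Pálfy's three prime theorem, part 1: primes dividing degrees, and characters with two given subgroups outside
their kernels.
-/

set_option autoImplicit false
set_option linter.unusedSectionVars false
set_option linter.style.haveILetI false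

namespace CfsgLib.Palfy

open Cfsg CfsgLib CfsgLib.CharTheory
open scoped commutatorElement

universe u

/-- A normal abelian Sylow `p`-subgroup. -/
def NA (p : ℕ) (G : Type u) [Group G] : Prop :=
  ∃ P : Subgroup G, P.Normal ∧ (∀ x ∈ P, ∀ y ∈ P, x * y = y * x) ∧ IsPGroup p P ∧ ¬ p ∣ P.index

/-- Some irreducible degree is divisible by `n`. -/
def Deg (n : ℕ) (G : Type u) [Group G] : Prop :=
  ∃ χ : G → ℂ, IsIrrCharacter G χ ∧ n ∣ charDegree χ

variable {G : Type u} [Group G] [Finite G]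

theorem NA.map {p : ℕ} {H : Type u} [Group H] (h : NA p G) (f : G →* H) (hf : Function.Surjective f) :
    NA p H := by
  obtain ⟨P, hn, hc, hp, hi⟩ := h
  haveI := hn
  refine ⟨P.map f, Subgroup.Normal.map hn f hf, ?_, hp.map f, fun hd => hi (hd.trans ?_)⟩
  · rintro _ ⟨x, hx, rfl⟩ _ ⟨y, hy, rfl⟩
    rw [← map_mul, hc x hx y hy, map_mul]
  · exact Subgroup.index_map_dvd _ hf

theorem NA.not_deg {p : ℕ} (hp : p.Prime) (h : NA p G) : ¬ Deg p G := by
  rintro ⟨χ, hχ, hd⟩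
  obtain ⟨P, hn, hc, -, hi⟩ := h
  haveI := hn
  obtain ⟨n, ρ, hρ, rfl⟩ := hχ
  refine hi (hd.trans ?_)
  have h1 := (charDegree_spec' (⟨n, ρ, hρ, rfl⟩ : IsIrrCharacter G ρ.character)).1
  rw [ρ.char_one, Nat.cast_inj] at h1
  rw [← h1]
  exact degree_dvd_index_of_abelian_normal ρ P hc

theorem na_of_not_deg [Group.IsSolvable G] {p : ℕ} (hp : p.Prime) (h : ¬ Deg p G) : NA p G := by
  haveI := Fact.mk hp
  exact Blocks.ito_pSolvable hp (Nat.card G) le_rfl
    (PLocal.isPSolvable_of_isSolvable _ G rfl inferInstance) fun χ hd => h ⟨χ, χ.2, hd⟩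

theorem Deg.of_surjective {n : ℕ} {H : Type u} [Group H] (f : G →* H) (hf : Function.Surjective f)
    (h : Deg n H) : Deg n G := by
  obtain ⟨χ, hχ, hd⟩ := h
  refine ⟨fun g => χ (f g), isIrrCharacter_comp_surjective hχ f hf, ?_⟩
  have e : charDegree (fun g => χ (f g)) = charDegree χ := by simp [charDegree, map_one]
  rwa [e]

theorem Deg.of_dvd {m n : ℕ} (hmn : m ∣ n) (h : Deg n G) : Deg m G := by
  obtain ⟨χ, hχ, hd⟩ := h
  exact ⟨χ, hχ, hmn.trans hd⟩

/-- The degree of a product of two primes. -/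
theorem deg_mul {χ : G → ℂ} (hχ : IsIrrCharacter G χ) {a b : ℕ} (ha : a.Prime) (hb : b.Prime) (hab : a ≠ b)
    (h1 : a ∣ charDegree χ) (h2 : b ∣ charDegree χ) : Deg (a * b) G :=
  ⟨χ, hχ, ((Nat.coprime_primes ha hb).2 hab).mul_dvd_of_dvd_of_dvd h1 h2⟩

/-- A normal subgroup over an abelian normal subgroup of relative index prime to a degree has its derived
group in the kernel. -/
theorem char_eq_of_coprime [Fintype G] (S N : Subgroup G) [S.Normal] [N.Normal] (hNS : N ≤ S)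
    (hab : ∀ a ∈ N, ∀ b ∈ N, a * b = b * a) {χ : G → ℂ} (hχ : IsIrrCharacter G χ)
    (hco : (N.relIndex S).Coprime (charDegree χ)) {c : G} (hc : c ∈ ⁅S, S⁆) : χ c = χ 1 := by
  classical
  haveI := Fintype.ofFinite S
  have hres : IsCharacter S (fun s : S => χ s) := isCharacter_restrict (isCharacter_of_irr hχ) S
  have hcS : c ∈ S := Subgroup.commutator_le_left S S hc
  have hlin : ∀ ψ : IrrCharacter S, classInner (fun s : S => χ s) ψ ≠ 0 →
      (ψ : S → ℂ) ⟨c, hcS⟩ = (ψ : S → ℂ) 1 := by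
    intro ψ hne
    obtain ⟨e, he, -⟩ := degree_ratio_dvd hχ ψ.2 hne
    obtain ⟨n, σ, hσ, hσψ⟩ := id ψ.2
    have hd1 := (charDegree_spec' ψ.2).1
    have hn : Module.finrank ℂ (Fin n → ℂ) = charDegree (ψ : S → ℂ) := by
      rw [← hσψ, σ.char_one, Nat.cast_inj] at hd1
      rw [hd1, hσψ]
    have h1 : charDegree (ψ : S → ℂ) ∣ N.relIndex S := by
      rw [← hn]
      exact degree_dvd_index_of_abelian_normal σ (N.subgroupOf S) fun a ha b hb => Subtype.ext
        (hab a (Subgroup.mem_subgroupOf.mp ha) b (Subgroup.mem_subgroupOf.mp hb))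
    have h2 : charDegree (ψ : S → ℂ) ∣ charDegree χ := by
      refine Dvd.intro_left e ?_
      have h3 := he
      rw [(charDegree_spec' hχ).1, hd1, ← Nat.cast_mul, Nat.cast_inj] at h3
      exact h3.symm
    have h4 : (ψ : S → ℂ) 1 = 1 := by
      rw [hd1, Nat.eq_one_of_dvd_coprimes hco h1 h2, Nat.cast_one]
    obtain ⟨φ, hφ⟩ := exists_hom_of_degree_one (isCharacter_of_irr ψ.2) h4
    have hker : ⁅S, S⁆ ≤ φ.ker.map S.subtype := by
      rw [Subgroup.commutator_le]
      intro a ha b hb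
      refine ⟨⁅(⟨a, ha⟩ : S), ⟨b, hb⟩⁆, ?_, by simp [commutatorElement_def]⟩
      rw [SetLike.mem_coe, MonoidHom.mem_ker, map_commutatorElement, commutatorElement_eq_one_iff_mul_comm]
      exact mul_comm _ _
    obtain ⟨⟨c', hc'⟩, hk, e'⟩ := hker hc
    obtain rfl : c' = c := e'
    rw [hφ]
    show (φ ⟨c', hcS⟩ : ℂ) = (φ 1 : ℂ)
    rw [map_one, show φ ⟨c', hcS⟩ = 1 from MonoidHom.mem_ker.mp hk]
  have h := eq_sum_irr (isClassFunction_char hres)
  have e1 : χ c = (fun s : S => χ s) ⟨c, hcS⟩ := rfl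
  have e2 : χ 1 = (fun s : S => χ s) 1 := rfl
  rw [e1, e2, h]
  simp only [Finset.sum_apply, Pi.smul_apply]
  refine Finset.sum_congr rfl fun ψ _ => ?_
  by_cases hne : classInner (fun s : S => χ s) ψ = 0
  · rw [hne, zero_smul, zero_smul]
  · rw [hlin ψ hne]

/-- A linear constituent is trivial on the elements of the kernel. -/
theorem hom_eq_one [Fintype G] {N : Subgroup G} [Fintype N] {χ : G → ℂ} (hχ : IsCharacter G χ) {φ : N →* ℂˣ}
    (hc : classInner (fun n : N => χ n) (fun n => (φ n : ℂ)) ≠ 0) {a : N} (ha : χ a = χ 1) : φ a = 1 := by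
  obtain ⟨n, ρ, rfl⟩ := hχ
  have h1 : ρ (a : G) = 1 := rep_apply_eq_one_of_char_eq ρ ha
  have h2 : ∀ x : N, ρ.character ((a * x : N) : G) = ρ.character (x : G) := fun x => by
    show LinearMap.trace ℂ _ (ρ ((a : G) * x)) = LinearMap.trace ℂ _ (ρ (x : G))
    rw [map_mul, h1, one_mul]
  have h3 : classInner (fun n : N => ρ.character n) (fun n => (φ n : ℂ)) =
      (starRingEnd ℂ) (φ a : ℂ) * classInner (fun n : N => ρ.character n) (fun n => (φ n : ℂ)) := by
    simp only [classInner]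
    conv_rhs => rw [mul_left_comm, Finset.mul_sum]
    congr 1
    refine (Fintype.sum_equiv (Equiv.mulLeft a) _ _ fun x => ?_).symm
    simp only [Equiv.coe_mulLeft, h2, map_mul, Units.val_mul]
    ring
  have h4 : (starRingEnd ℂ) (φ a : ℂ) = 1 := by
    by_contra hne
    exact hc ((mul_left_eq_self₀.mp h3.symm).resolve_left hne)
  apply Units.ext
  rw [← Complex.conj_conj (φ a : ℂ), h4, map_one, Units.val_one]

/-- A prime dividing every degree over a linear character not killing a derived group. -/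
theorem dvd_degree [Fintype G] {x : ℕ} (hx : x.Prime) (S N : Subgroup G) [S.Normal] [N.Normal] (hNS : N ≤ S)
    (hab : ∀ a ∈ N, ∀ b ∈ N, a * b = b * a) (hrel : ∃ i, N.relIndex S = x ^ i) {M : Subgroup G} [Fintype M]
    {φ : M →* ℂˣ} {a : M} (ha : (a : G) ∈ ⁅S, S⁆) (hφa : φ a ≠ 1) {χ : G → ℂ} (hχ : IsIrrCharacter G χ)
    (hc : classInner (fun n : M => χ n) (fun n => (φ n : ℂ)) ≠ 0) : x ∣ charDegree χ := by
  by_contra hd
  obtain ⟨i, hi⟩ := hrel
  refine hφa (hom_eq_one (isCharacter_of_irr hχ) hc (char_eq_of_coprime S N hNS hab hχ ?_ ha))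
  rw [hi]
  exact Nat.Coprime.pow_left _ ((hx.coprime_iff_not_dvd).2 hd)

theorem isIrr_hom {M : Type u} [Group M] [Finite M] (φ : M →* ℂˣ) : IsIrrCharacter M fun n => (φ n : ℂ) :=
  isIrrCharacter_linear φ

/-- Two linear characters give one that is non-trivial at two given elements. -/
theorem exists_hom_avoid {M : Type u} [Group M] {a b : M} (ha : ∃ φ : M →* ℂˣ, φ a ≠ 1)
    (hb : ∃ φ : M →* ℂˣ, φ b ≠ 1) : ∃ φ : M →* ℂˣ, φ a ≠ 1 ∧ φ b ≠ 1 := by
  obtain ⟨φ, hφ⟩ := ha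
  obtain ⟨ψ, hψ⟩ := hb
  by_cases h1 : φ b = 1
  · by_cases h2 : ψ a = 1
    · exact ⟨φ * ψ, by simp [MonoidHom.mul_apply, h2, hφ], by simp [MonoidHom.mul_apply, h1, hψ]⟩
    · exact ⟨ψ, h2, hψ⟩
  · exact ⟨φ, hφ, h1⟩

/-- Separation in an abelian group. -/
theorem exists_hom_ne_one {M : Type u} [Group M] [Finite M] (hab : ∀ a b : M, a * b = b * a) {a : M}
    (ha : a ≠ 1) : ∃ φ : M →* ℂˣ, φ a ≠ 1 := by
  letI : CommGroup M := { ‹Group M› with mul_comm := hab }
  exact CommGroup.exists_apply_ne_one_of_hasEnoughRootsOfUnity M ℂ ha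

/-- Separation modulo the derived group. -/
theorem exists_hom_ne_one' {M : Type u} [Group M] [Finite M] {a : M} (ha : a ∉ commutator M) :
    ∃ φ : M →* ℂˣ, φ a ≠ 1 := by
  obtain ⟨φ, hφ⟩ := exists_hom_ne_one (M := Abelianization M) (fun x y => mul_comm x y)
    (a := Abelianization.of a) (fun e => ha (by
      rwa [← MonoidHom.mem_ker, Abelianization.ker_of] at e))
  exact ⟨φ.comp Abelianization.of, hφ⟩

/-- Two normal subgroups with abelian intersection section give a degree divisible by two primes. -/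
theorem two_primes {x z : ℕ} (hx : x.Prime) (hz : z.Prime) (hxz : x ≠ z) (N : Subgroup G) [N.Normal]
    (hab : ∀ a ∈ N, ∀ b ∈ N, a * b = b * a) (S1 S2 : Subgroup G) [S1.Normal] [S2.Normal] (h1 : N ≤ S1)
    (h2 : N ≤ S2) (hr1 : ∃ i, N.relIndex S1 = x ^ i) (hr2 : ∃ i, N.relIndex S2 = z ^ i) {a b : G}
    (haN : a ∈ N) (hbN : b ∈ N) (ha : a ∈ ⁅S1, S1⁆) (hb : b ∈ ⁅S2, S2⁆) (ha1 : a ≠ 1) (hb1 : b ≠ 1) :
    Deg (x * z) G := by
  haveI := Fintype.ofFinite G
  haveI := Fintype.ofFinite N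
  have hc : ∀ u v : N, u * v = v * u := fun u v => Subtype.ext (hab u u.2 v v.2)
  obtain ⟨φ, hφa, hφb⟩ := exists_hom_avoid (a := (⟨a, haN⟩ : N)) (b := ⟨b, hbN⟩)
    (exists_hom_ne_one hc fun e => ha1 (congrArg Subtype.val e))
    (exists_hom_ne_one hc fun e => hb1 (congrArg Subtype.val e))
  obtain ⟨χ, hχ, hne⟩ := exists_irr_above (isIrr_hom φ)
  exact deg_mul hχ hx hz hxz (dvd_degree hx S1 N h1 hab hr1 (a := ⟨a, haN⟩) ha hφa hχ hne)
    (dvd_degree hz S2 N h2 hab hr2 (a := ⟨b, hbN⟩) hb hφb hχ hne)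

/-- Extendable characters give all degrees of the inertia factor group. -/
theorem degrees_over [Fintype G] {Q : Subgroup G} [hQ : Q.Normal] [Fintype Q] {θ : Q → ℂ}
    (hθ : IsIrrCharacter Q θ) {T : Subgroup G} (hQT : Q ≤ T) (hT : T = inertia Q θ) {η : T → ℂ}
    (hη : IsCharacter T η) (hext : ∀ n : Q, η ⟨n, hQT n.2⟩ = θ n) {β : T ⧸ Q.subgroupOf T → ℂ}
    (hβ : IsIrrCharacter (T ⧸ Q.subgroupOf T) β) :
    ∃ χ : G → ℂ, IsIrrCharacter G χ ∧ classInner (fun n : Q => χ n) θ ≠ 0 ∧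
      charDegree χ = T.index * (charDegree β * charDegree θ) := by
  classical
  haveI := Fintype.ofFinite T
  haveI := Fintype.ofFinite (Q.subgroupOf T)
  let β' : T → ℂ := fun t => β (QuotientGroup.mk t)
  have hβ' : IsIrrCharacter T β' :=
    isIrrCharacter_comp_surjective hβ (QuotientGroup.mk' _) (QuotientGroup.mk'_surjective _)
  have hk : ∀ n ∈ Q.subgroupOf T, β' n = β' 1 := fun n hn => by
    show β _ = β _
    rw [(QuotientGroup.eq_one_iff n).mpr hn]
    rfl
  have hres : IsIrrCharacter (Q.subgroupOf T) fun n => η n := by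
    have := isIrr_subgroupOf Q hQT hθ
    rwa [show (fun n : Q.subgroupOf T => η n) = fun x : Q.subgroupOf T =>
      θ ⟨((x : T) : G), Subgroup.mem_subgroupOf.mp x.2⟩ from funext fun x =>
        hext ⟨((x : T) : G), Subgroup.mem_subgroupOf.mp x.2⟩]
  have hψ := (gallagher (Q.subgroupOf T) hη hres).1 β' hβ' hk
  have hb1 : β' 1 = (charDegree β : ℂ) := (charDegree_spec' hβ).1
  have hne : classInner (fun n : Q => (β' * η) ⟨n, hQT n.2⟩) θ ≠ 0 := by
    have : (fun n : Q => (β' * η) ⟨n, hQT n.2⟩) = (charDegree β : ℂ) • θ := funext fun n => by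
      show β' _ * η _ = _ * θ n
      rw [hext, hk _ (Subgroup.mem_subgroupOf.mpr n.2), hb1]
    rw [this, classInner_smul_left, classInner_irr_self hθ, mul_one, Nat.cast_ne_zero]
    exact (charDegree_spec' hβ).2.ne'
  obtain ⟨hirr, hm⟩ := clifford_correspondence Q hθ hQT hT hψ hne
  refine ⟨_, hirr, hm ▸ hne, ?_⟩
  have hd := (charDegree_spec' hirr).1
  have h1 : (β' * η) 1 = (charDegree β : ℂ) * (charDegree θ : ℂ) := by
    show β' 1 * η 1 = _
    rw [hb1, ← (charDegree_spec' hθ).1, ← hext 1]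
    rfl
  rw [indFun_apply_one, h1, ← Nat.cast_mul, ← Nat.cast_mul, Nat.cast_inj] at hd
  exact hd.symm

/-- A prime dividing no degree over an extendable character: the inertia group has index prime to it and
the inertia factor group has a normal abelian Sylow subgroup. -/
theorem inertia_of_not_dvd [Fintype G] [Group.IsSolvable G] {a : ℕ} (ha : a.Prime) {Q : Subgroup G} [Q.Normal]
    [Fintype Q] {θ : Q → ℂ} (hθ : IsIrrCharacter Q θ) {T : Subgroup G} (hQT : Q ≤ T) (hT : T = inertia Q θ)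
    {η : T → ℂ} (hη : IsCharacter T η) (hext : ∀ n : Q, η ⟨n, hQT n.2⟩ = θ n)
    (hov : ∀ χ : G → ℂ, IsIrrCharacter G χ → classInner (fun n : Q => χ n) θ ≠ 0 → ¬ a ∣ charDegree χ) :
    ¬ a ∣ T.index ∧ NA a (T ⧸ Q.subgroupOf T) := by
  refine ⟨fun hd => ?_, na_of_not_deg ha ?_⟩
  · obtain ⟨χ, hχ, hne, e⟩ := degrees_over hθ hQT hT hη hext (isIrrCharacter_one (G := T ⧸ Q.subgroupOf T))
    exact hov χ hχ hne (e ▸ hd.mul_right _)
  · rintro ⟨β, hβ, hd⟩
    obtain ⟨χ, hχ, hne, e⟩ := degrees_over hθ hQT hT hη hext hβ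
    exact hov χ hχ hne (e ▸ Dvd.dvd.mul_left (hd.mul_right _) _)

end CfsgLib.Palfy
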