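import Cfsg.Agent.Lib.Palfy.Cases
import Cfsg.Agent.Lib.Coprime
import Cfsg.Agent.Lib.Elementary

/-!
Pálfy's three prime theorem, part 5: the action on linear characters of a normal subgroup, and Sylow subgroups
over a normal subgroup.
-/

set_option autoImplicit false
set_option linter.unusedSectionVars false
set_option linter.style.haveILetI false
set_option maxHeartbeats 1000000

namespace CfsgLib.Palfy

open Cfsg CfsgLib CfsgLib.CharTheory
open scoped commutatorElement

universe u

variable {G : Type u} [Group G] [Finite G]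

/-- The action on linear characters. -/
def dualAct (N : Subgroup G) [N.Normal] : G →* MulAut (N →* ℂˣ) where
  toFun g :=
    { toFun := fun φ => φ.comp (MulAut.conjNormal (H := N) g⁻¹).toMonoidHom
      invFun := fun φ => φ.comp (MulAut.conjNormal (H := N) g).toMonoidHom
      left_inv := fun φ => MonoidHom.ext fun n => by
        show φ (MulAut.conjNormal g⁻¹ (MulAut.conjNormal g n)) = φ n
        rw [← MulAut.mul_apply, ← map_mul, inv_mul_cancel, map_one]
        rfl
      right_inv := fun φ => MonoidHom.ext fun n => by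
        show φ (MulAut.conjNormal g (MulAut.conjNormal g⁻¹ n)) = φ n
        rw [← MulAut.mul_apply, ← map_mul, mul_inv_cancel, map_one]
        rfl
      map_mul' := fun φ ψ => MonoidHom.ext fun n => rfl }
  map_one' := MulEquiv.ext fun φ => MonoidHom.ext fun n => by
    show φ (MulAut.conjNormal (1 : G)⁻¹ n) = φ n
    rw [inv_one, map_one]
    rfl
  map_mul' g k := MulEquiv.ext fun φ => MonoidHom.ext fun n => by
    show φ (MulAut.conjNormal (g * k)⁻¹ n) = φ (MulAut.conjNormal k⁻¹ (MulAut.conjNormal g⁻¹ n))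
    rw [← MulAut.mul_apply, ← map_mul, mul_inv_rev]

theorem dualAct_apply (N : Subgroup G) [hN : N.Normal] (g : G) (φ : N →* ℂˣ) (n : N) :
    dualAct N g φ n = φ ⟨g⁻¹ * n * g, by simpa using hN.conj_mem n n.2 g⁻¹⟩ :=
  congrArg φ (Subtype.ext (by simp [MulAut.conjNormal_apply]))

theorem stab_eq_inertia (N : Subgroup G) [N.Normal] (φ : N →* ℂˣ) :
    stab (dualAct N) φ = inertia N fun n => (φ n : ℂ) := by
  ext g
  rw [← Subgroup.inv_mem_iff (inertia N fun n => (φ n : ℂ)), mem_inertia, mem_stab]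
  constructor
  · intro h
    funext n
    have h1 := DFunLike.congr_fun h n
    rw [dualAct_apply] at h1
    show (φ _ : ℂ) = φ n
    rw [← h1]
    exact congrArg (fun z => (φ z : ℂ)) (Subtype.ext (by simp))
  · intro h
    ext n
    rw [dualAct_apply]
    have h1 : (φ _ : ℂ) = φ n := congrFun h n
    rw [← h1]
    exact congrArg (fun z => (φ z : ℂ)) (Subtype.ext (by simp))

theorem ker_dualAct (N : Subgroup G) [hN : N.Normal] (hab : ∀ a ∈ N, ∀ b ∈ N, a * b = b * a) :
    (dualAct N).ker = Subgroup.centralizer (N : Set G) := by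
  ext g
  rw [MonoidHom.mem_ker, Subgroup.mem_centralizer_iff]
  constructor
  · intro h n hn
    by_contra hne
    have h1 : (⟨g⁻¹ * n * g, by simpa using hN.conj_mem n hn g⁻¹⟩ : N) * (⟨n, hn⟩ : N)⁻¹ ≠ 1 := fun e => hne (by
      have e' : g⁻¹ * n * g = n := congrArg Subtype.val (mul_inv_eq_one.1 e)
      calc n * g = g * (g⁻¹ * n * g) := by group
        _ = g * n := by rw [e'])
    obtain ⟨φ, hφ⟩ := exists_hom_ne_one (fun u v : N => Subtype.ext (hab u u.2 v v.2)) h1
    refine hφ ?_
    rw [map_mul, map_inv, mul_inv_eq_one]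
    have h2 := DFunLike.congr_fun (DFunLike.congr_fun h φ) (⟨n, hn⟩ : N)
    rw [dualAct_apply] at h2
    exact h2
  · intro h
    ext φ n
    rw [dualAct_apply]
    refine congrArg (fun z => ((φ z : ℂˣ) : ℂ)) (Subtype.ext ?_)
    show g⁻¹ * (n : G) * g = n
    rw [mul_assoc, h n n.2, inv_mul_cancel_left]

theorem finite_hom (M : Type u) [Group M] [Finite M] : Finite (M →* ℂˣ) := by
  haveI : Finite (IrrCharacter M) := inferInstance
  exact Finite.of_injective (fun φ : M →* ℂˣ => (⟨fun m => (φ m : ℂ), isIrr_hom φ⟩ : IrrCharacter M))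
    fun φ ψ h => MonoidHom.ext fun m => Units.ext (congrFun (congrArg Subtype.val h) m)

instance instFiniteHom (M : Type u) [Group M] [Finite M] : Finite (M →* ℂˣ) := finite_hom M

theorem exists_hom_ne {M : Type u} [Group M] [Finite M] [Nontrivial M] (hab : ∀ a b : M, a * b = b * a) :
    ∃ φ : M →* ℂˣ, φ ≠ 1 := by
  obtain ⟨a, ha⟩ := exists_ne (1 : M)
  obtain ⟨φ, hφ⟩ := exists_hom_ne_one hab ha
  exact ⟨φ, fun e => hφ (e ▸ rfl)⟩

theorem card_hom {M : Type u} [Group M] [Finite M] (hab : ∀ a b : M, a * b = b * a) :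
    Nat.card (M →* ℂˣ) = Nat.card M := by
  letI : CommGroup M := { ‹Group M› with mul_comm := hab }
  exact CommGroup.card_monoidHom_of_hasEnoughRootsOfUnity M ℂ

/-- The linear lemma for an action on an elementary abelian group written multiplicatively. -/
theorem deg_linear_mul {H : Type u} [Group H] [Finite H] [Group.IsSolvable H] {M : Type u} [CommGroup M] [Finite M]
    [Nontrivial M] {q a b : ℕ} [Fact q.Prime] [Fact a.Prime] [Fact b.Prime] (hab : a ≠ b)
    (hexp : ∀ m : M, m ^ q = 1) (act : H →* MulAut M) (hinj : Function.Injective act)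
    (hirr : ∀ S : Subgroup M, (∀ h : H, ∀ m ∈ S, act h m ∈ S) → S = ⊥ ∨ S = ⊤)
    (hga : Good act a) (hgb : Good act b) (hda : a ∣ Nat.card H) (hdb : b ∣ Nat.card H) :
    Deg (a * b) H := by
  have : Module (ZMod q) (Additive M) := AddCommGroup.zmodModule (n := q) (G := Additive M) fun x => by
    apply Additive.toMul.injective
    show (Additive.toMul x) ^ q = 1
    exact hexp _
  haveI : Finite (Additive M) := Finite.of_equiv _ Additive.ofMul
  let lin : H → (Additive M ≃ₗ[ZMod q] Additive M) := fun h =>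
    { (MulEquiv.toAdditive (act h) : Additive M ≃+ Additive M) with
      map_smul' := fun c x => ZMod.map_smul (MulEquiv.toAdditive (act h) : Additive M ≃+ Additive M) c x }
  have hlin : ∀ (h : H) (x : Additive M), lin h x = Additive.ofMul (act h (Additive.toMul x)) := fun h x => rfl
  let ρ : H →* (Additive M ≃ₗ[ZMod q] Additive M) :=
    MonoidHom.mk' lin fun g k => LinearEquiv.ext fun x => by
      rw [LinearEquiv.mul_apply, hlin, hlin, hlin, map_mul]
      rfl
  have hstab : ∀ m : Multiplicative (Additive M),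
      stab (actM ρ) m = stab act (Additive.toMul (Multiplicative.toAdd m)) := fun m => Subgroup.ext fun h =>
    ⟨fun hh => congrArg (fun z => Additive.toMul (Multiplicative.toAdd z)) hh,
      fun hh => congrArg (fun z => Multiplicative.ofAdd (Additive.ofMul z)) hh⟩
  have hgood : ∀ {c : ℕ}, Good act c → Good (actM ρ) c := fun hc m hm => by
    rw [hstab]
    exact hc _ fun e => hm (Multiplicative.toAdd.injective (Additive.toMul.injective e))
  refine deg_linear ρ hab (fun g k h => hinj (MulEquiv.ext fun m =>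
    congrArg Additive.toMul (LinearEquiv.congr_fun h (Additive.ofMul m)))) ?_ (hgood hga) (hgood hgb) hda hdb
  intro W hW
  let S0 : Subgroup M :=
    { carrier := {m | Additive.ofMul m ∈ W}
      one_mem' := W.zero_mem
      mul_mem' := fun hx hy => W.add_mem hx hy
      inv_mem' := fun hx => W.neg_mem hx }
  rcases hirr S0 (fun h m hm => hW h _ hm) with h | h
  · refine Or.inl ((Submodule.eq_bot_iff W).2 fun x hx => Additive.toMul.injective ?_)
    have hx' : Additive.toMul x ∈ S0 := hx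
    rw [h, Subgroup.mem_bot] at hx'
    exact hx'
  · refine Or.inr (Submodule.eq_top_iff'.2 fun x => ?_)
    have hx' : Additive.toMul x ∈ S0 := h.symm ▸ Subgroup.mem_top _
    exact hx'

/-- The dual of a minimal normal subgroup with two spreads. -/
theorem deg_dual [Group.IsSolvable G] {q a b : ℕ} [Fact q.Prime] [Fact a.Prime] [Fact b.Prime] (hab' : a ≠ b)
    (N : Subgroup G) [hNn : N.Normal] (hN : N ≠ ⊥) (hab : ∀ x ∈ N, ∀ y ∈ N, x * y = y * x)
    (hexp : ∀ x ∈ N, x ^ q = 1) (hmin : ∀ M : Subgroup G, M.Normal → M ≤ N → M = ⊥ ∨ M = N)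
    (hda : a ∣ (Subgroup.centralizer (N : Set G)).index) (hdb : b ∣ (Subgroup.centralizer (N : Set G)).index)
    (hga : ∀ φ : N →* ℂˣ, φ ≠ 1 → ¬ a ∣ (stab (dualAct N) φ).index ∧
      NA a ((stab (dualAct N) φ).map (dualAct N).rangeRestrict))
    (hgb : ∀ φ : N →* ℂˣ, φ ≠ 1 → ¬ b ∣ (stab (dualAct N) φ).index ∧
      NA b ((stab (dualAct N) φ).map (dualAct N).rangeRestrict)) :
    Deg (a * b) G := by
  classical
  set H := (dualAct N).range
  refine Deg.of_surjective (dualAct N).rangeRestrict (dualAct N).rangeRestrict_surjective ?_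
  haveI : Group.IsSolvable H := Group.isSolvable_of_surjective (f := (dualAct N).rangeRestrict)
    (dualAct N).rangeRestrict_surjective
  haveI : Nontrivial N := (Subgroup.nontrivial_iff_ne_bot N).2 hN
  have hc : ∀ u v : N, u * v = v * u := fun u v => Subtype.ext (hab u u.2 v v.2)
  haveI : Nontrivial (N →* ℂˣ) := by
    obtain ⟨φ, hφ⟩ := exists_hom_ne hc
    exact ⟨φ, 1, hφ⟩
  have hker : (dualAct N).rangeRestrict.ker = Subgroup.centralizer (N : Set G) := by
    rw [MonoidHom.ker_rangeRestrict, ker_dualAct N hab]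
  have hgood : ∀ {c : ℕ}, (∀ φ : N →* ℂˣ, φ ≠ 1 → ¬ c ∣ (stab (dualAct N) φ).index ∧
      NA c ((stab (dualAct N) φ).map (dualAct N).rangeRestrict)) → Good (M := N →* ℂˣ) H.subtype c := by
    intro c hc' φ hφ
    obtain ⟨h1, h2⟩ := hc' φ hφ
    have e : stab H.subtype φ = (stab (dualAct N) φ).map (dualAct N).rangeRestrict := by
      ext h
      obtain ⟨g, rfl⟩ := (dualAct N).rangeRestrict_surjective h
      rw [Subgroup.mem_map]
      exact ⟨fun hh => ⟨g, hh, rfl⟩, fun ⟨g', hg', he⟩ => he ▸ hg'⟩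
    rw [e, Subgroup.index_map_eq _ (dualAct N).rangeRestrict_surjective fun g hg => ?_]
    · exact ⟨h1, h2⟩
    · rw [MonoidHom.ker_rangeRestrict] at hg
      exact mem_stab.2 (DFunLike.congr_fun (MonoidHom.mem_ker.1 hg) _)
  have hcard : (Subgroup.centralizer (N : Set G)).index = Nat.card H := by
    rw [← hker, Subgroup.index_ker, MonoidHom.range_eq_top.2 (dualAct N).rangeRestrict_surjective,
      Subgroup.card_top]
  refine deg_linear_mul (M := N →* ℂˣ) (q := q) hab' (fun φ => ?_) H.subtype Subtype.val_injective ?_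
    (hgood hga) (hgood hgb) (hcard ▸ hda) (hcard ▸ hdb)
  · ext n
    have h1 : (n : N) ^ q = 1 := Subtype.ext (hexp n n.2)
    rw [MonoidHom.pow_apply, ← map_pow, h1, map_one]
    rfl
  intro S hW
  let A : Subgroup G :=
    { carrier := {n | ∃ hn : n ∈ N, ∀ φ ∈ S, φ ⟨n, hn⟩ = 1}
      one_mem' := ⟨one_mem N, fun φ _ => map_one φ⟩
      mul_mem' := by
        rintro x y ⟨hx, hx'⟩ ⟨hy, hy'⟩
        refine ⟨mul_mem hx hy, fun φ hφ => ?_⟩
        show φ (⟨x, hx⟩ * ⟨y, hy⟩) = 1
        rw [map_mul, hx' φ hφ, hy' φ hφ, one_mul]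
      inv_mem' := by
        rintro x ⟨hx, hx'⟩
        refine ⟨inv_mem hx, fun φ hφ => ?_⟩
        show φ ⟨x, hx⟩⁻¹ = 1
        rw [map_inv, hx' φ hφ, inv_one] }
  have hA : A.Normal := ⟨by
    rintro x ⟨hx, hx'⟩ g
    refine ⟨hNn.conj_mem x hx g, fun φ hφ => ?_⟩
    have h1 : dualAct N g⁻¹ φ ∈ S := hW ⟨dualAct N g⁻¹, ⟨g⁻¹, rfl⟩⟩ _ hφ
    have h2 := hx' _ h1
    rw [dualAct_apply] at h2
    rw [← h2]
    exact congrArg φ (Subtype.ext (by simp))⟩
  rcases hmin A hA (fun n hn => hn.1) with h | h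
  · right
    let ev : N →* (S →* ℂˣ) :=
      { toFun := fun n => { toFun := fun φ => (φ : N →* ℂˣ) n, map_one' := rfl, map_mul' := fun _ _ => rfl }
        map_one' := MonoidHom.ext fun φ => map_one (φ : N →* ℂˣ)
        map_mul' := fun x y => MonoidHom.ext fun φ => map_mul (φ : N →* ℂˣ) x y }
    have hev : Function.Injective ev := (injective_iff_map_eq_one ev).2 fun n hn => by
      have : (n : G) ∈ A := ⟨n.2, fun φ hφ => DFunLike.congr_fun hn ⟨φ, hφ⟩⟩
      rw [h, Subgroup.mem_bot] at this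
      exact Subtype.ext this
    have hle := Nat.card_le_card_of_injective ev hev
    rw [card_hom (fun x y : S => mul_comm x y), ← card_hom hc] at hle
    exact Subgroup.eq_top_of_card_eq S (le_antisymm (Subgroup.card_le_card_group S) hle)
  · left
    refine (Subgroup.eq_bot_iff_forall S).2 fun φ hφ => MonoidHom.ext fun n => ?_
    have : (n : G) ∈ A := h.symm ▸ n.2
    obtain ⟨_, h'⟩ := this
    exact h' φ hφ

/-- A `p`-element of a group whose image in a `p'`-section is trivial. -/
theorem mem_of_coprime_image {N : Subgroup G} [N.Normal] {y : G} {k : ℕ}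
    (h1 : (Nat.card ((Subgroup.zpowers y).map (QuotientGroup.mk' N))).Coprime k) (h2 : orderOf y ∣ k) : y ∈ N := by
  rw [← QuotientGroup.eq_one_iff, ← orderOf_eq_one_iff]
  rw [MonoidHom.map_zpowers, Nat.card_zpowers] at h1
  exact Nat.eq_one_of_dvd_coprimes h1 dvd_rfl ((orderOf_map_dvd (QuotientGroup.mk' N) y).trans h2)

/-- A normal abelian Sylow subgroup of a factor group by a normal subgroup of order prime to it. -/
theorem quot_data {x : ℕ} [Fact x.Prime] (N : Subgroup G) [N.Normal] (hNx : ¬ x ∣ Nat.card N)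
    (h : NA x (G ⧸ N)) (X : Sylow x G) :
    (N ⊔ (X : Subgroup G)).Normal ∧ (∀ a ∈ (X : Subgroup G), ∀ b ∈ (X : Subgroup G), a * b = b * a) ∧
      (∃ i, N.relIndex (N ⊔ (X : Subgroup G)) = x ^ i) ∧ N ⊓ (X : Subgroup G) = ⊥ := by
  obtain ⟨P, hPn, hPc, hPp, hPi⟩ := h
  haveI := hPn
  have hle : (X : Subgroup G).map (QuotientGroup.mk' N) ≤ P := le_of_index hPi (X.isPGroup'.map _)
  have hi : ¬ x ∣ ((X : Subgroup G).map (QuotientGroup.mk' N)).index := fun hd =>
    X.not_dvd_index (hd.trans (Subgroup.index_map_dvd _ (QuotientGroup.mk'_surjective N)))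
  have heq : (X : Subgroup G).map (QuotientGroup.mk' N) = P :=
    (((X.isPGroup'.map _).toSylow hi).is_maximal' hPp hle).symm
  have hsup : N ⊔ (X : Subgroup G) = P.comap (QuotientGroup.mk' N) := by
    rw [← heq, Subgroup.comap_map_eq, QuotientGroup.ker_mk', sup_comm]
  have hinf : N ⊓ (X : Subgroup G) = ⊥ := by
    refine Subgroup.inf_eq_bot_of_coprime ?_
    obtain ⟨i, hi⟩ := IsPGroup.iff_card.1 X.isPGroup'
    rw [hi]
    exact ((Fact.out : x.Prime).coprime_iff_not_dvd.2 hNx).symm.pow_right i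
  refine ⟨hsup ▸ hPn.comap _, ?_, ?_, hinf⟩
  · intro a ha b hb
    have h1 : ⁅a, b⁆ ∈ N ⊓ (X : Subgroup G) := by
      refine ⟨?_, (Subgroup.commutator_le_self (X : Subgroup G)) (Subgroup.commutator_mem_commutator ha hb)⟩
      show ⁅a, b⁆ ∈ N
      rw [← QuotientGroup.eq_one_iff]
      show QuotientGroup.mk' N ⁅a, b⁆ = 1
      rw [map_commutatorElement, commutatorElement_eq_one_iff_mul_comm]
      exact hPc _ (hle ⟨a, ha, rfl⟩) _ (hle ⟨b, hb, rfl⟩)
    rw [hinf, Subgroup.mem_bot, commutatorElement_eq_one_iff_mul_comm] at h1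
    exact h1
  · obtain ⟨i, hi⟩ := IsPGroup.iff_card.1 X.isPGroup'
    refine ⟨i, ?_⟩
    rw [Subgroup.relIndex_sup_left, ← hi, ← Subgroup.inf_relIndex_right, hinf, Subgroup.relIndex_bot_left]

/-- A Sylow subgroup with a normal join that is centralised. -/
theorem sylow_normal_of_centralized {x : ℕ} [Fact x.Prime] (N : Subgroup G) [N.Normal] (X : Sylow x G)
    (hS : (N ⊔ (X : Subgroup G)).Normal) (hc : ∀ n ∈ N, ∀ y ∈ (X : Subgroup G), n * y = y * n) :
    (X : Subgroup G).Normal := by
  have hXn : N ⊔ (X : Subgroup G) ≤ Subgroup.normalizer ((X : Subgroup G) : Set G) := by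
    refine sup_le (fun n hn => ?_) Subgroup.le_normalizer
    rw [Subgroup.mem_normalizer_iff]
    intro y
    constructor
    · intro hy
      rwa [hc n hn y hy, mul_inv_cancel_right]
    · intro hy
      have h1 := hc n hn _ hy
      have h2 : n * y * n⁻¹ = y := by
        have : n * (n * y * n⁻¹) * n⁻¹ = n * y * n⁻¹ := by rw [h1, mul_inv_cancel_right]
        calc n * y * n⁻¹ = n⁻¹ * (n * (n * y * n⁻¹) * n⁻¹) * n := by group
          _ = n⁻¹ * (n * y * n⁻¹) * n := by rw [this]
          _ = y := by group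
      rwa [h2] at hy
  haveI := hS
  haveI hn' : ((X : Subgroup G).subgroupOf (N ⊔ (X : Subgroup G))).Normal :=
    (Subgroup.normal_subgroupOf_iff_le_normalizer le_sup_right).2 hXn
  refine ⟨fun y hy g => ?_⟩
  have hmem : g * y * g⁻¹ ∈ N ⊔ (X : Subgroup G) := hS.conj_mem y (Subgroup.mem_sup_right hy) g
  have hidx : ¬ x ∣ ((X : Subgroup G).subgroupOf (N ⊔ (X : Subgroup G))).index := fun hd =>
    X.not_dvd_index (hd.trans (Subgroup.relIndex_dvd_index_of_le le_sup_right))
  have hpz : IsPGroup x (Subgroup.zpowers (⟨g * y * g⁻¹, hmem⟩ : (N ⊔ (X : Subgroup G) : Subgroup G))) := by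
    obtain ⟨k, hk⟩ := X.isPGroup' ⟨y, hy⟩
    have hk' : y ^ x ^ k = 1 := congrArg Subtype.val hk
    rintro ⟨z, j, rfl⟩
    refine ⟨k, Subtype.ext (Subtype.ext ?_)⟩
    show ((g * y * g⁻¹) ^ j) ^ x ^ k = 1
    rw [← zpow_natCast, ← zpow_mul, mul_comm, zpow_mul, zpow_natCast, conj_pow, hk', mul_one, mul_inv_cancel,
      one_zpow]
  exact Subgroup.mem_subgroupOf.1 (le_of_index hidx hpz (Subgroup.mem_zpowers _))

/-- A normal Sylow subgroup that is abelian. -/
theorem na_of_sylow {x : ℕ} [Fact x.Prime] (X : Sylow x G) (hn : (X : Subgroup G).Normal)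
    (hc : ∀ a ∈ (X : Subgroup G), ∀ b ∈ (X : Subgroup G), a * b = b * a) : NA x G :=
  ⟨X, hn, hc, X.isPGroup', X.not_dvd_index⟩

end CfsgLib.Palfy
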