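import Cfsg.Agent.Lib.Palfy.Radical

/-!
Pálfy's three prime theorem, part 8: a normal Sylow subgroup of class two with the derived group a minimal normal
subgroup.
-/

set_option autoImplicit false
set_option linter.unusedSectionVars false
set_option linter.style.haveILetI false
set_option maxHeartbeats 1000000

namespace CfsgLib.Palfy

open Cfsg CfsgLib CfsgLib.CharTheory
open scoped commutatorElement

universe u

variable {G : Type u} [Group G] [Finite G] {Q : Subgroup G} [hQn : Q.Normal]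

theorem stab_lift {M : Type u} [CommGroup M] [Finite M] (f : G →* MulAut M) (hf : Q ≤ f.ker) (m : M) :
    stab (QuotientGroup.lift Q f hf) m = (stab f m).map (QuotientGroup.mk' Q) := by
  ext h
  obtain ⟨g, rfl⟩ := QuotientGroup.mk'_surjective Q h
  rw [Subgroup.mem_map]
  constructor
  · exact fun hh => ⟨g, hh, rfl⟩
  · rintro ⟨g', hg', he⟩
    rw [mem_stab, ← he]
    exact hg'

theorem good_lift {M : Type u} [CommGroup M] [Finite M] (f : G →* MulAut M) (hf : Q ≤ f.ker) {c : ℕ} {m : M}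
    (hi : ¬ c ∣ (stab f m).index) (hn : NA c (↥(stab f m) ⧸ Q.subgroupOf (stab f m))) :
    ¬ c ∣ (stab (QuotientGroup.lift Q f hf) m).index ∧ NA c (stab (QuotientGroup.lift Q f hf) m) := by
  rw [stab_lift]
  refine ⟨?_, hn.map (QuotientGroup.lift (Q.subgroupOf (stab f m)) ((QuotientGroup.mk' Q).subgroupMap (stab f m))
    fun t ht => ?_) ?_⟩
  · rw [Subgroup.index_map_eq _ (QuotientGroup.mk'_surjective Q) (by
      rw [QuotientGroup.ker_mk']
      exact fun g hg => mem_stab.2 (DFunLike.congr_fun (MonoidHom.mem_ker.1 (hf hg)) m))]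
    exact hi
  · rw [MonoidHom.mem_ker]
    exact Subtype.ext ((QuotientGroup.eq_one_iff _).2 (Subgroup.mem_subgroupOf.1 ht))
  · intro z
    obtain ⟨t, rfl⟩ := (QuotientGroup.mk' Q).subgroupMap_surjective (stab f m) z
    exact ⟨QuotientGroup.mk t, rfl⟩

theorem le_ker_linear (hQ : Q.Normal) : Q ≤ (dualAct Q).ker := by
  intro u hu
  rw [MonoidHom.mem_ker]
  ext φ n
  rw [dualAct_apply, MulAut.one_apply]
  have e : (⟨u⁻¹ * n * u, by simpa using hQ.conj_mem n n.2 u⁻¹⟩ : Q) = ⟨u, hu⟩⁻¹ * n * ⟨u, hu⟩ := rfl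
  rw [e, map_mul, map_mul, map_inv, mul_comm _ (φ ⟨u, hu⟩), mul_inv_cancel_left]

theorem le_ker_derived (hcen : ⁅Q, Q⁆ ≤ Subgroup.centralizer (Q : Set G)) : Q ≤ (dualAct ⁅Q, Q⁆).ker := by
  intro u hu
  rw [MonoidHom.mem_ker]
  ext φ n
  rw [dualAct_apply]
  refine congrArg (fun z => ((φ z : ℂˣ) : ℂ)) (Subtype.ext ?_)
  show u⁻¹ * (n : G) * u = n
  rw [mul_assoc, ← central Q hcen n.2 hu, inv_mul_cancel_left]

/-- A linear character of `Q` moved by the Sylow subgroup. -/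
theorem dvd_linear [Fintype G] [Fintype Q] {q p : ℕ} [Fact q.Prime] [Fact p.Prime] (hQ : IsPGroup q Q)
    (hidx : ¬ q ∣ Q.index) (P : Sylow p G) [(Q ⊔ (P : Subgroup G)).Normal] {φ : Q →* ℂˣ} {a : Q}
    (ha : (a : G) ∈ ⁅Q, Q ⊔ (P : Subgroup G)⁆) (hφ : φ a ≠ 1) {χ : G → ℂ} (hχ : IsIrrCharacter G χ)
    (hne : classInner (fun n : Q => χ n) (fun n => (φ n : ℂ)) ≠ 0) : p ∣ charDegree χ := by
  by_contra hd
  obtain ⟨e, he, hedvd⟩ := degree_ratio_dvd hχ (isIrr_hom φ) hne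
  have hq : ¬ q ∣ charDegree χ := by
    rw [(charDegree_spec' hχ).1] at he
    simp only [map_one, Units.val_one, mul_one, Nat.cast_inj] at he
    exact fun h => hidx ((he ▸ h).trans hedvd)
  have hpq : ∀ c, c.Prime → c ∣ Nat.card (Q ⊔ (P : Subgroup G) : Subgroup G) → c = q ∨ c = p := by
    intro c hc hcd
    obtain ⟨i, hi⟩ := IsPGroup.iff_card.1 hQ
    obtain ⟨j, hj⟩ := IsPGroup.iff_card.1 P.isPGroup'
    have h1 := hcd.trans (sup_comm Q (P : Subgroup G) ▸ CfsgLib.card_sup_dvd_mul (P : Subgroup G) Q)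
    rw [hi, hj] at h1
    rcases hc.dvd_mul.1 h1 with h | h
    · exact Or.inr ((Nat.prime_dvd_prime_iff_eq hc Fact.out).1 (hc.dvd_of_dvd_pow h))
    · exact Or.inl ((Nat.prime_dvd_prime_iff_eq hc Fact.out).1 (hc.dvd_of_dvd_pow h))
  refine hφ (hom_eq_one (isCharacter_of_irr hχ) hne
    (char_eq_of_coprime (Q ⊔ (P : Subgroup G)) ⊥ bot_le
      (fun x hx y hy => by rw [Subgroup.mem_bot.1 hx, Subgroup.mem_bot.1 hy]) hχ ?_
      (Subgroup.commutator_mono le_sup_left le_rfl ha)))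
  rw [Subgroup.relIndex_bot_left]
  refine Nat.coprime_of_dvd fun c hc hcS hcd => ?_
  rcases hpq c hc hcS with rfl | rfl
  · exact hq hcd
  · exact hd hcd

/-- Two spreads with the same number of members have the same dimensions. -/
theorem exp_false {q n d D e E : ℕ} (hq : 2 ≤ q) (hD : 1 ≤ D) (hdD : d < D) (hDE : D < E)
    (h1 : n * (q ^ d - 1) = q ^ D - 1) (h2 : n * (q ^ e - 1) = q ^ E - 1) : False := by
  have hpos : ∀ k : ℕ, 1 ≤ k → 1 ≤ q ^ k - 1 := fun k hk => by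
    have : q ≤ q ^ k := Nat.le_self_pow (by omega) q
    omega
  have hd : 1 ≤ d := by
    by_contra hc
    rw [show d = 0 by omega] at h1
    have := hpos D hD
    simp only [pow_zero, Nat.sub_self, mul_zero] at h1
    omega
  have he : 1 ≤ e := by
    by_contra hc
    rw [show e = 0 by omega] at h2
    have := hpos E (by omega)
    simp only [pow_zero, Nat.sub_self, mul_zero] at h2
    omega
  have hn2 : 2 ≤ n := by
    by_contra hc
    have h5 : q ^ d < q ^ D := Nat.pow_lt_pow_right (by omega) hdD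
    have := hpos d hd
    interval_cases n <;> omega
  have heE : e < E := by
    by_contra hc
    have h5 : q ^ E ≤ q ^ e := Nat.pow_le_pow_right (by omega) (by omega)
    have := hpos E (by omega)
    have := Nat.mul_le_mul hn2 (show q ^ E - 1 ≤ q ^ e - 1 by omega)
    omega
  have hone : ∀ k, 1 ≤ q ^ k := fun k => Nat.one_le_pow _ _ (by omega)
  zify [hone] at h1 h2
  have h3 : ((q : ℤ) ^ D - 1) * ((q : ℤ) ^ e - 1) = ((q : ℤ) ^ E - 1) * ((q : ℤ) ^ d - 1) := by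
    rw [← h1, ← h2]
    ring
  have hnd : ∀ k : ℕ, ¬ (q : ℤ) ^ (k + 1) ∣ (q : ℤ) ^ k := fun k h => by
    have h5 : q ^ (k + 1) ∣ q ^ k := by exact_mod_cast h
    exact absurd ((Nat.pow_dvd_pow_iff_le_right (by omega)).1 h5) (by omega)
  rcases lt_trichotomy d e with h | h | h
  · apply hnd d
    have e1 : (q : ℤ) ^ d = (q : ℤ) ^ D * (1 - (q : ℤ) ^ e) + (q : ℤ) ^ e - (q : ℤ) ^ E * (1 - (q : ℤ) ^ d) := by
      linear_combination h3
    rw [e1]
    exact dvd_sub (dvd_add ((pow_dvd_pow _ (by omega)).mul_right _) (pow_dvd_pow _ (by omega)))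
      ((pow_dvd_pow _ (by omega)).mul_right _)
  · subst h
    have h5 : ((q : ℤ) ^ d - 1) ≠ 0 := by
      have : (2 : ℤ) ≤ (q : ℤ) ^ d := by
        have h6 : q ≤ q ^ d := Nat.le_self_pow (by omega) q
        exact_mod_cast hq.trans h6
      omega
    have h6 := mul_right_cancel₀ h5 h3
    have h7 : q ^ D = q ^ E := by
      have : (q : ℤ) ^ D = (q : ℤ) ^ E := by linarith
      exact_mod_cast this
    exact hDE.ne (Nat.pow_right_injective hq h7)
  · apply hnd e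
    have e1 : (q : ℤ) ^ e = (q : ℤ) ^ E * (1 - (q : ℤ) ^ d) + (q : ℤ) ^ d - (q : ℤ) ^ D * (1 - (q : ℤ) ^ e) := by
      linear_combination -h3
    rw [e1]
    exact dvd_sub (dvd_add ((pow_dvd_pow _ (by omega)).mul_right _) (pow_dvd_pow _ (by omega)))
      ((pow_dvd_pow _ (by omega)).mul_right _)

/-- The hypotheses of the reduced case. -/
structure Red (q p r : ℕ) (Q : Subgroup G) : Prop where
  hqp : q ≠ p
  hqr : q ≠ r
  hpr : p ≠ r
  hQ : IsPGroup q Q
  hidx : ¬ q ∣ Q.index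
  hcen : ⁅Q, Q⁆ ≤ Subgroup.centralizer (Q : Set G)
  hN : ⁅Q, Q⁆ ≠ ⊥
  hmin : ∀ M : Subgroup G, M.Normal → M ≤ ⁅Q, Q⁆ → M = ⊥ ∨ M = ⁅Q, Q⁆
  hexp : ∀ x ∈ ⁅Q, Q⁆, x ^ q = 1
  hnp : ¬ NA p G
  hnr : ¬ NA r G
  h1 : ¬ Deg (q * p) G
  h2 : ¬ Deg (q * r) G
  h3 : ¬ Deg (p * r) G
  hp : ¬ p ∣ (Subgroup.centralizer ((⁅Q, Q⁆ : Subgroup G) : Set G)).index

theorem qc {q c : ℕ} (hq : q.Prime) (hc : c.Prime) (hne : q ≠ c) (h : ¬ Deg (q * c) G) (χ : G → ℂ)
    (hχ : IsIrrCharacter G χ) (hd : q ∣ charDegree χ) : ¬ c ∣ charDegree χ :=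
  fun hd' => h (deg_mul hχ hq hc hne hd hd')

theorem nc (hcen : ⁅Q, Q⁆ ≤ Subgroup.centralizer (Q : Set G)) {a b : G} (ha : a ∈ ⁅Q, Q⁆) (hb : b ∈ ⁅Q, Q⁆) :
    a * b = b * a :=
  central Q hcen hb (Subgroup.commutator_le_left Q Q ha)

variable [Group.IsSolvable G] {q p r : ℕ} [Fact q.Prime] [Fact p.Prime] [Fact r.Prime]

/-- A Sylow subgroup centralising the derived group. -/
theorem sylow_over {c : ℕ} [Fact c.Prime] (hQ : IsPGroup q Q) (hidx : ¬ q ∣ Q.index)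
    (hcen : ⁅Q, Q⁆ ≤ Subgroup.centralizer (Q : Set G)) (hN : ⁅Q, Q⁆ ≠ ⊥) (hexp : ∀ x ∈ ⁅Q, Q⁆, x ^ q = 1)
    (hne : q ≠ c) (hdeg : ¬ Deg (q * c) G)
    (hK : ¬ c ∣ (Subgroup.centralizer ((⁅Q, Q⁆ : Subgroup G) : Set G)).index) (P : Sylow c G) :
    (∀ y ∈ (P : Subgroup G), y ∈ Subgroup.centralizer ((⁅Q, Q⁆ : Subgroup G) : Set G)) ∧
      (Q ⊔ (P : Subgroup G)).Normal ∧
      (∀ X : Sylow c G, (X : Subgroup G) ≤ Q ⊔ (P : Subgroup G)) ∧
      (∀ a ∈ (P : Subgroup G), ∀ b ∈ (P : Subgroup G), a * b = b * a) := by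
  set N := ⁅Q, Q⁆ with hNdef
  set K := Subgroup.centralizer (N : Set G) with hKdef
  have hNc : ∀ a ∈ N, ∀ b ∈ N, a * b = b * a := fun a ha b hb => nc hcen ha hb
  haveI : Nontrivial N := (Subgroup.nontrivial_iff_ne_bot N).2 hN
  obtain ⟨φ₀, hφ₀⟩ := exists_hom_ne (M := N) fun a b => Subtype.ext (hNc a a.2 b b.2)
  have hle : ∀ X : Sylow c G, (X : Subgroup G) ≤ K := fun X => le_of_index hK X.isPGroup'
  obtain ⟨hi, hna⟩ := good_stab hcen Fact.out hQ hidx hexp (qc Fact.out Fact.out hne hdeg) hφ₀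
  set T := stab (dualAct N) φ₀
  obtain ⟨A, hAn, hAc, hAp, hAi⟩ := hna
  haveI := hAn
  have hKT : K ≤ T := fun g hg => mem_stab.2 (by
    have : g ∈ (dualAct N).ker := by rw [ker_dualAct N hNc]; exact hg
    exact DFunLike.congr_fun (MonoidHom.mem_ker.1 this) φ₀)
  set B := (A.comap (QuotientGroup.mk' (Q.subgroupOf T))).map T.subtype
  have hXB : ∀ X : Sylow c G, (X : Subgroup G) ≤ B := fun X y hy => by
    refine ⟨⟨y, hKT (hle X hy)⟩, ?_, rfl⟩
    exact le_of_index hAi ((X.isPGroup'.comap_subtype (K := T)).map (QuotientGroup.mk' (Q.subgroupOf T)))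
      ⟨⟨y, hKT (hle X hy)⟩, Subgroup.mem_subgroupOf.2 hy, rfl⟩
  have heq : A = ((P : Subgroup G).subgroupOf T).map (QuotientGroup.mk' (Q.subgroupOf T)) := by
    have hXp : IsPGroup c (((P : Subgroup G).subgroupOf T).map (QuotientGroup.mk' (Q.subgroupOf T))) :=
      (P.isPGroup'.comap_subtype (K := T)).map _
    have hni : ¬ c ∣ (((P : Subgroup G).subgroupOf T).map (QuotientGroup.mk' (Q.subgroupOf T))).index := fun hd =>
      P.not_dvd_index ((hd.trans (Subgroup.index_map_dvd _ (QuotientGroup.mk'_surjective _))).trans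
        (Subgroup.relIndex_dvd_index_of_le ((hle P).trans hKT)))
    exact (hXp.toSylow hni).is_maximal' hAp (le_of_index hAi hXp)
  have hBQ : B ≤ Q ⊔ (P : Subgroup G) := by
    rintro _ ⟨t, ht, rfl⟩
    obtain ⟨y, hy, hye⟩ : QuotientGroup.mk' (Q.subgroupOf T) t ∈
        ((P : Subgroup G).subgroupOf T).map (QuotientGroup.mk' (Q.subgroupOf T)) := heq ▸ ht
    have h5 : y⁻¹ * t ∈ Q.subgroupOf T := QuotientGroup.eq.1 hye
    have h6 : ((y : T) : G) * ((y⁻¹ * t : T) : G) = (t : G) := by push_cast; group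
    rw [show T.subtype t = (t : G) from rfl, ← h6]
    exact mul_mem (Subgroup.mem_sup_right (Subgroup.mem_subgroupOf.1 hy))
      (Subgroup.mem_sup_left (Subgroup.mem_subgroupOf.1 h5))
  have hall : ∀ X : Sylow c G, (X : Subgroup G) ≤ Q ⊔ (P : Subgroup G) := fun X => (hXB X).trans hBQ
  refine ⟨fun y hy => hle P hy, ?_, hall, ?_⟩
  · refine ⟨fun y hy g => ?_⟩
    obtain ⟨u, hu, z, hz, e⟩ := Subgroup.mem_sup_of_normal_left.1 hy
    have e' : u * z = y := e
    rw [← e', show g * (u * z) * g⁻¹ = g * u * g⁻¹ * (g * z * g⁻¹) by group]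
    refine mul_mem (Subgroup.mem_sup_left (hQn.conj_mem u hu g)) (hall (g • P) ?_)
    rw [Sylow.coe_subgroup_smul]
    exact ⟨z, hz, rfl⟩
  · intro a ha b hb
    have h5 : ⁅a, b⁆ ∈ Q ⊓ (P : Subgroup G) := by
      refine Subgroup.mem_inf.2
        ⟨?_, (Subgroup.commutator_le_self (P : Subgroup G)) (Subgroup.commutator_mem_commutator ha hb)⟩
      have ha' := hKT (hle P ha)
      have hb' := hKT (hle P hb)
      have h6 : ⁅(⟨a, ha'⟩ : T), ⟨b, hb'⟩⁆ ∈ Q.subgroupOf T := by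
        rw [← QuotientGroup.eq_one_iff]
        show QuotientGroup.mk' (Q.subgroupOf T) _ = 1
        rw [map_commutatorElement, commutatorElement_eq_one_iff_mul_comm]
        exact hAc _ (heq ▸ ⟨_, Subgroup.mem_subgroupOf.2 ha, rfl⟩) _ (heq ▸ ⟨_, Subgroup.mem_subgroupOf.2 hb, rfl⟩)
      have h7 := Subgroup.mem_subgroupOf.1 h6
      simpa [commutatorElement_def] using h7
    have hdis : Q ⊓ (P : Subgroup G) = ⊥ :=
      disjoint_iff.1 (IsPGroup.disjoint_of_ne q c hne Q P hQ P.isPGroup')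
    rw [hdis, Subgroup.mem_bot, commutatorElement_eq_one_iff_mul_comm] at h5
    exact h5

/-- A moved element of `Q`. -/
theorem moved {c : ℕ} [Fact c.Prime] (hQ : IsPGroup q Q) (P : Sylow c G) (hne : q ≠ c) (hna : ¬ NA c G)
    (hPK : ∀ y ∈ (P : Subgroup G), y ∈ Subgroup.centralizer ((⁅Q, Q⁆ : Subgroup G) : Set G))
    (hn : (Q ⊔ (P : Subgroup G)).Normal) (hPc : ∀ a ∈ (P : Subgroup G), ∀ b ∈ (P : Subgroup G), a * b = b * a) :
    ∃ a : Q, (a : G) ∈ ⁅Q, (P : Subgroup G)⁆ ∧ a ∉ commutator Q := by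
  by_contra hh
  push Not at hh
  have hle : ⁅Q, (P : Subgroup G)⁆ ≤ ⁅Q, Q⁆ := fun y hy => by
    have hyQ : y ∈ Q := Subgroup.commutator_le_left Q ⊤ (Subgroup.commutator_mono le_rfl le_top hy)
    have h5 := hh ⟨y, hyQ⟩ hy
    rw [← Subgroup.map_subtype_commutator]
    exact ⟨_, h5, rfl⟩
  have hz : ⁅⁅Q, (P : Subgroup G)⁆, (P : Subgroup G)⁆ = ⊥ := by
    rw [Subgroup.eq_bot_iff_forall]
    have : ⁅⁅Q, (P : Subgroup G)⁆, (P : Subgroup G)⁆ ≤ ⊥ := by
      rw [Subgroup.commutator_le]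
      intro a ha y hy
      rw [Subgroup.mem_bot, commutatorElement_eq_one_iff_mul_comm]
      exact Subgroup.mem_centralizer_iff.1 (hPK y hy) a (hle ha)
    exact fun z hz => Subgroup.mem_bot.1 (this hz)
  have hcop : (Nat.card (P : Subgroup G)).Coprime (Nat.card Q) := by
    obtain ⟨i, hi⟩ := IsPGroup.iff_card.1 hQ
    obtain ⟨j, hj⟩ := IsPGroup.iff_card.1 P.isPGroup'
    rw [hi, hj]
    exact ((Nat.coprime_primes Fact.out Fact.out).2 (Ne.symm hne)).pow j i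
  rw [CfsgLib.coprime_commutator_commutator
    (le_trans le_top (Subgroup.normalizer_eq_top_iff.2 hQn).ge) hcop (Or.inr inferInstance)] at hz
  refine hna (na_of_sylow P (sylow_normal_of_centralized Q P hn fun u hu y hy => ?_) hPc)
  rw [← commutatorElement_eq_one_iff_mul_comm, ← Subgroup.mem_bot, ← hz]
  exact Subgroup.commutator_mem_commutator hu hy

/-- The part of `Q` centralised by the Sylow subgroup. -/
def Q0 (Q : Subgroup G) [Q.Normal] (P : Subgroup G) : Subgroup G :=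
  { carrier := {u | u ∈ Q ∧ ∀ y ∈ Q ⊔ P, ⁅u, y⁆ ∈ ⁅Q, Q⁆}
    one_mem' := ⟨one_mem Q, fun y _ => by rw [commutatorElement_one_left]; exact one_mem _⟩
    mul_mem' := by
      rintro u v ⟨hu, hu'⟩ ⟨hv, hv'⟩
      refine ⟨mul_mem hu hv, fun y hy => ?_⟩
      rw [show ⁅u * v, y⁆ = u * ⁅v, y⁆ * u⁻¹ * ⁅u, y⁆ by simp only [commutatorElement_def]; group]
      exact mul_mem ((inferInstance : (⁅Q, Q⁆).Normal).conj_mem _ (hv' y hy) u) (hu' y hy)
    inv_mem' := by
      rintro u ⟨hu, hu'⟩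
      refine ⟨inv_mem hu, fun y hy => ?_⟩
      rw [show ⁅u⁻¹, y⁆ = u⁻¹ * ⁅u, y⁆⁻¹ * u⁻¹⁻¹ by simp only [commutatorElement_def]; group]
      exact (inferInstance : (⁅Q, Q⁆).Normal).conj_mem _ (inv_mem (hu' y hy)) u⁻¹ }

theorem mem_Q0 {P : Subgroup G} {u : G} : u ∈ Q0 Q P ↔ u ∈ Q ∧ ∀ y ∈ Q ⊔ P, ⁅u, y⁆ ∈ ⁅Q, Q⁆ := Iff.rfl

instance Q0_normal (P : Subgroup G) [hPn : (Q ⊔ P).Normal] : (Q0 Q P).Normal := ⟨by
  rintro u ⟨hu, hu'⟩ g
  refine ⟨hQn.conj_mem u hu g, fun y hy => ?_⟩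
  rw [show ⁅g * u * g⁻¹, y⁆ = g * ⁅u, g⁻¹ * y * g⁆ * g⁻¹ by simp only [commutatorElement_def]; group]
  exact (inferInstance : (⁅Q, Q⁆).Normal).conj_mem _ (hu' _ (by simpa using hPn.conj_mem y hy g⁻¹)) g⟩

/-- The characters trivial on `Q0`. -/
def L1 (Q : Subgroup G) [Q.Normal] (P : Subgroup G) : Subgroup (Q →* ℂˣ) where
  carrier := {φ | ∀ u : Q, (u : G) ∈ Q0 Q P → φ u = 1}
  one_mem' := fun u _ => rfl
  mul_mem' := fun {φ ψ} hφ hψ u hu => by rw [MonoidHom.mul_apply, hφ u hu, hψ u hu, one_mul]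
  inv_mem' := fun {φ} hφ u hu => by rw [MonoidHom.inv_apply, hφ u hu, inv_one]

theorem L1inv (P : Subgroup G) [(Q ⊔ P).Normal] (g : G) {φ : Q →* ℂˣ} (hφ : φ ∈ L1 Q P) :
    dualAct Q g φ ∈ L1 Q P := fun u hu => by
  rw [dualAct_apply]
  exact hφ _ (by simpa using (inferInstance : (Q0 Q P).Normal).conj_mem _ hu g⁻¹)

/-- The restricted action. -/
def res (Q : Subgroup G) [Q.Normal] (P : Subgroup G) [(Q ⊔ P).Normal] : G →* MulAut (L1 Q P) where
  toFun g :=
    { toFun := fun φ => ⟨dualAct Q g φ, L1inv P g φ.2⟩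
      invFun := fun φ => ⟨dualAct Q g⁻¹ φ, L1inv P g⁻¹ φ.2⟩
      left_inv := fun φ => Subtype.ext (by
        show dualAct Q g⁻¹ (dualAct Q g (φ : Q →* ℂˣ)) = φ
        rw [← MulAut.mul_apply, ← map_mul, inv_mul_cancel, map_one]; rfl)
      right_inv := fun φ => Subtype.ext (by
        show dualAct Q g (dualAct Q g⁻¹ (φ : Q →* ℂˣ)) = φ
        rw [← MulAut.mul_apply, ← map_mul, mul_inv_cancel, map_one]; rfl)
      map_mul' := fun φ ψ => Subtype.ext (map_mul (dualAct Q g) _ _) }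
  map_one' := MulEquiv.ext fun φ => Subtype.ext (by
    show dualAct Q 1 (φ : Q →* ℂˣ) = φ
    rw [map_one]; rfl)
  map_mul' g k := MulEquiv.ext fun φ => Subtype.ext (by
    show dualAct Q (g * k) (φ : Q →* ℂˣ) = dualAct Q g (dualAct Q k φ)
    rw [map_mul]; rfl)

theorem res_ker (P : Subgroup G) [(Q ⊔ P).Normal] : Q ≤ (res Q P).ker := fun u hu =>
  MonoidHom.mem_ker.2 (MulEquiv.ext fun φ => Subtype.ext (by
    show dualAct Q u (φ : Q →* ℂˣ) = φ
    rw [MonoidHom.mem_ker.1 (le_ker_linear hQn hu)]; rfl))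

theorem stab_res (P : Subgroup G) [(Q ⊔ P).Normal] (φ : L1 Q P) :
    stab (res Q P) φ = stab (dualAct Q) (φ : Q →* ℂˣ) := Subgroup.ext fun g =>
  ⟨fun h => congrArg Subtype.val h, fun h => Subtype.ext h⟩

/-- The action of the factor group on the restricted characters. -/
noncomputable def act2 (Q : Subgroup G) [Q.Normal] (P : Subgroup G) [(Q ⊔ P).Normal] : G ⧸ Q →* MulAut (L1 Q P) :=
  QuotientGroup.lift Q (res Q P) (res_ker P)

theorem Q0mem (P : Subgroup G) {u : G} (hu : u ∈ Q) (hy' : ∀ y ∈ P, ⁅u, y⁆ ∈ ⁅Q, Q⁆) : u ∈ Q0 Q P := by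
  refine ⟨hu, fun z hz => ?_⟩
  obtain ⟨v, hv, y, hy, e⟩ := Subgroup.mem_sup_of_normal_left.1 hz
  have e' : v * y = z := e
  rw [← e', show ⁅u, v * y⁆ = ⁅u, v⁆ * (v * ⁅u, y⁆ * v⁻¹) by simp only [commutatorElement_def]; group]
  exact mul_mem (Subgroup.commutator_mem_commutator hu hv)
    ((inferInstance : (⁅Q, Q⁆).Normal).conj_mem _ (hy' y hy) v)

theorem coprime_sylow {c : ℕ} [Fact c.Prime] (hQ : IsPGroup q Q) (hne : q ≠ c) (P : Sylow c G) :
    (Nat.card (P : Subgroup G)).Coprime (Nat.card Q) := by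
  obtain ⟨i, hi⟩ := IsPGroup.iff_card.1 hQ
  obtain ⟨j, hj⟩ := IsPGroup.iff_card.1 P.isPGroup'
  rw [hi, hj]
  exact ((Nat.coprime_primes Fact.out Fact.out).2 (Ne.symm hne)).pow j i

section PSide

/-- The Sylow subgroup centralising the derived group. -/
structure PData (q p r : ℕ) (Q : Subgroup G) (P : Sylow p G) : Prop where
  red : Red q p r Q
  hPK : ∀ y ∈ (P : Subgroup G), y ∈ Subgroup.centralizer ((⁅Q, Q⁆ : Subgroup G) : Set G)
  hr : r ∣ (Subgroup.centralizer ((⁅Q, Q⁆ : Subgroup G) : Set G)).index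

variable {P : Sylow p G} [hPn : (Q ⊔ (P : Subgroup G)).Normal]

theorem Q0c (d : PData q p r Q P) {u : G} (hu : u ∈ Q0 Q (P : Subgroup G)) {y : G}
    (hy : y ∈ (P : Subgroup G)) : u * y = y * u := by
  classical
  haveI := Fintype.ofFinite G
  haveI := Fintype.ofFinite Q
  obtain ⟨⟨hqp, hqr, hpr, hQ, hidx, hcen, hN, hmin, hexp, hnp, hnr, h1, h2, h3, hp⟩, hPK, hr⟩ := d
  obtain ⟨-, hu'⟩ := mem_Q0.1 hu
  have hc := hu' y (Subgroup.mem_sup_right hy)
  set c := ⁅u, y⁆ with hcdef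
  have hcy : y * c = c * y := (Subgroup.mem_centralizer_iff.1 (hPK y hy) c hc).symm
  have h5 : u * y * u⁻¹ = c * y := by rw [hcdef, commutatorElement_def]; group
  obtain ⟨k, hk⟩ := P.isPGroup' ⟨y, hy⟩
  have hk' : y ^ p ^ k = 1 := congrArg Subtype.val hk
  have hcp : c ^ p ^ k = 1 := by
    have h6 := congrArg (fun z => z ^ p ^ k) h5
    simp only [conj_pow, hk', mul_one, mul_inv_cancel] at h6
    rw [(show Commute c y from hcy.symm).mul_pow, hk', mul_one] at h6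
    exact h6.symm
  have hc1 : c = 1 := orderOf_eq_one_iff.1 (Nat.eq_one_of_dvd_coprimes
    (((Nat.coprime_primes Fact.out Fact.out).2 (Ne.symm hqp)).pow_left k)
    (orderOf_dvd_of_pow_eq_one hcp) (orderOf_dvd_of_pow_eq_one (hexp c hc)))
  exact commutatorElement_eq_one_iff_mul_comm.1 hc1

theorem decomp (d : PData q p r Q P) (φ : Q →* ℂˣ) : ∃ φ0 : Q →* ℂˣ,
    (∀ a : Q, (a : G) ∈ ⁅Q, Q ⊔ (P : Subgroup G)⁆ → φ0 a = 1) ∧
      ∀ u : Q, (u : G) ∈ Q0 Q (P : Subgroup G) → φ0 u = φ u := by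
  have hQ0c := @Q0c _ _ _ _ hQn _ _ _ _ _ _ _ _ _ d
  classical
  haveI := Fintype.ofFinite G
  haveI := Fintype.ofFinite Q
  obtain ⟨⟨hqp, hqr, hpr, hQ, hidx, hcen, hN, hmin, hexp, hnp, hnr, h1, h2, h3, hp⟩, hPK, hr⟩ := d
  haveI := Fintype.ofFinite (P : Subgroup G)
  have hco : (Nat.card (P : Subgroup G)).Coprime (Nat.card Q) := by
    obtain ⟨i, hi⟩ := IsPGroup.iff_card.1 hQ
    obtain ⟨j, hj⟩ := IsPGroup.iff_card.1 P.isPGroup'
    rw [hi, hj]
    exact ((Nat.coprime_primes Fact.out Fact.out).2 (Ne.symm hqp)).pow j i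
  obtain ⟨k, hk⟩ := exists_pow_eq_self_of_coprime (x := φ) (n := Nat.card (P : Subgroup G))
    (hco.coprime_dvd_right (orderOf_dvd_of_pow_eq_one (MonoidHom.ext fun u => by
      rw [MonoidHom.pow_apply, ← map_pow, pow_card_eq_one', map_one, MonoidHom.one_apply])))
  let φ1 : Q →* ℂˣ := (∏ y : (P : Subgroup G), dualAct Q (y : G) φ) ^ k
  refine ⟨φ1, fun a ha => ?_, fun u hu => ?_⟩
  · have hfix : ∀ y ∈ (P : Subgroup G), dualAct Q y φ1 = φ1 := by
      intro y hy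
      show dualAct Q y ((∏ z : (P : Subgroup G), dualAct Q (z : G) φ) ^ k) = _
      rw [map_pow (dualAct Q y), map_prod (dualAct Q y)]
      congr 1
      refine Fintype.prod_equiv (Equiv.mulLeft (⟨y, hy⟩ : (P : Subgroup G))) _ _ fun z => ?_
      rw [← MulAut.mul_apply, ← map_mul]
      rfl
    have hfix' : Q ⊔ (P : Subgroup G) ≤ stab (dualAct Q) φ1 := sup_le (fun u hu => mem_stab.2 (by
      rw [MonoidHom.mem_ker.1 (le_ker_linear hQn hu)]; rfl)) fun y hy => mem_stab.2 (hfix y hy)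
    have hkill : ⁅Q, Q ⊔ (P : Subgroup G)⁆ ≤ φ1.ker.map Q.subtype := by
      rw [Subgroup.commutator_le]
      intro u hu y hy
      have hy1 : y * u⁻¹ * y⁻¹ ∈ Q := hQn.conj_mem _ (inv_mem hu) y
      refine ⟨⟨u, hu⟩ * ⟨y * u⁻¹ * y⁻¹, hy1⟩, ?_, ?_⟩
      · rw [SetLike.mem_coe, MonoidHom.mem_ker, map_mul]
        have h5 := DFunLike.congr_fun (mem_stab.1 (hfix' hy)) (⟨y * u⁻¹ * y⁻¹, hy1⟩ : Q)
        rw [dualAct_apply] at h5
        rw [← h5, ← map_mul]
        exact (congrArg φ1 (Subtype.ext (by simp [mul_assoc]))).trans (map_one φ1)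
      · show u * (y * u⁻¹ * y⁻¹) = ⁅u, y⁆
        rw [commutatorElement_def]
        group
    obtain ⟨a', ha', e⟩ := hkill ha
    obtain rfl : a' = a := Subtype.ext e
    exact ha'
  · show ((∏ y : (P : Subgroup G), dualAct Q (y : G) φ) ^ k) u = _
    rw [MonoidHom.pow_apply, MonoidHom.finsetProd_apply]
    have hy : ∀ y : (P : Subgroup G), dualAct Q (y : G) φ u = φ u := fun y => by
      rw [dualAct_apply]
      refine congrArg φ (Subtype.ext ?_)
      show (y : G)⁻¹ * (u : G) * y = u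
      rw [mul_assoc, hQ0c hu y.2, inv_mul_cancel_left]
    rw [Finset.prod_congr rfl fun y _ => hy y, Finset.prod_const, Finset.card_univ, ← Nat.card_eq_fintype_card,
      ← MonoidHom.pow_apply, ← MonoidHom.pow_apply, hk]

theorem killboth (d : PData q p r Q P) {φ : Q →* ℂˣ} (hφ : φ ∈ L1 Q (P : Subgroup G))
    (hφ' : ∀ a : Q, (a : G) ∈ ⁅Q, Q ⊔ (P : Subgroup G)⁆ → φ a = 1) : φ = 1 := by
  classical
  haveI := Fintype.ofFinite G
  haveI := Fintype.ofFinite Q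
  obtain ⟨⟨hqp, hqr, hpr, hQ, hidx, hcen, hN, hmin, hexp, hnp, hnr, h1, h2, h3, hp⟩, hPK, hr⟩ := d
  have hcop : (Nat.card (P : Subgroup G)).Coprime (Nat.card Q) := by
    obtain ⟨i, hi⟩ := IsPGroup.iff_card.1 hQ
    obtain ⟨j, hj⟩ := IsPGroup.iff_card.1 P.isPGroup'
    rw [hi, hj]
    exact ((Nat.coprime_primes Fact.out Fact.out).2 (Ne.symm hqp)).pow j i
  ext u
  obtain ⟨x, hx, c, hc, e⟩ := CfsgLib.coprime_decomp (A := (P : Subgroup G))
    (le_trans le_top (Subgroup.normalizer_eq_top_iff.2 hQn).ge) hcop (Or.inr inferInstance) u.2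
  have hxQ : x ∈ Q := Subgroup.commutator_le_left Q ⊤ (Subgroup.commutator_mono le_rfl le_top hx)
  have hcQ0 : c ∈ (Q0 Q (P : Subgroup G)) := Q0mem _ hc.1 fun y hy => by
    rw [commutatorElement_eq_one_iff_mul_comm.2 (Subgroup.mem_centralizer_iff.1 hc.2 y hy).symm]
    exact one_mem _
  rw [show u = ⟨x, hxQ⟩ * ⟨c, hc.1⟩ from Subtype.ext e, map_mul, hφ' _ (Subgroup.commutator_mono le_rfl le_sup_right hx), hφ _ hcQ0, one_mul]
  rfl

theorem lin (d : PData q p r Q P) {φ : Q →* ℂˣ} {a : Q} (ha : (a : G) ∈ ⁅Q, Q ⊔ (P : Subgroup G)⁆) (hφa : φ a ≠ 1) :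
    ¬ r ∣ (stab (dualAct Q) φ).index ∧ NA r (↥(stab (dualAct Q) φ) ⧸ Q.subgroupOf (stab (dualAct Q) φ)) := by
  classical
  haveI := Fintype.ofFinite G
  haveI := Fintype.ofFinite Q
  obtain ⟨⟨hqp, hqr, hpr, hQ, hidx, hcen, hN, hmin, hexp, hnp, hnr, h1, h2, h3, hp⟩, hPK, hr⟩ := d
  set T := stab (dualAct Q) φ
  have hT : T = inertia Q fun n => (φ n : ℂ) := stab_eq_inertia Q φ
  have hQT : Q ≤ T := hT ▸ le_inertia Q (isClassFunction_irr (isIrr_hom φ))
  haveI := Fintype.ofFinite T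
  let φT : ↥(Q.subgroupOf T) →* ℂˣ := φ.comp (Subgroup.subgroupOfEquivOfLe hQT).toMonoidHom
  obtain ⟨i, hi⟩ := IsPGroup.iff_card.1 hQ
  obtain ⟨η, hη, -, -⟩ := exists_hom_extending_coprime φT (fun g x => by
    have h5 := DFunLike.congr_fun (mem_stab.1 (inv_mem g.2))
      ((Subgroup.subgroupOfEquivOfLe hQT) x)
    rw [dualAct_apply] at h5
    show φ _ = φ _
    exact (congrArg φ (Subtype.ext (by simp [MulAut.conjNormal_apply]))).trans h5)
    (by
      refine Nat.Coprime.coprime_dvd_left (Subgroup.relIndex_dvd_index_of_le hQT) ?_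
      refine Nat.Coprime.coprime_dvd_right (orderOf_dvd_of_pow_eq_one (n := q ^ i) (MonoidHom.ext fun u => ?_))
        (((Fact.out : q.Prime).coprime_iff_not_dvd.2 hidx).symm.pow_right i)
      rw [MonoidHom.pow_apply, ← map_pow, show q ^ i = Nat.card ↥(Q.subgroupOf T) by
        rw [Nat.card_congr (Subgroup.subgroupOfEquivOfLe hQT).toEquiv, hi], pow_card_eq_one', map_one]
      rfl)
  exact inertia_of_not_dvd Fact.out (isIrr_hom φ) hQT hT (isCharacter_of_irr (isIrr_hom η))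
    (fun n => by
      show ((η _ : ℂˣ) : ℂ) = φ n
      rw [show η ⟨n, hQT n.2⟩ = φT ⟨⟨n, hQT n.2⟩, Subgroup.mem_subgroupOf.2 n.2⟩ from
        hη ⟨⟨n, hQT n.2⟩, Subgroup.mem_subgroupOf.2 n.2⟩]
      rfl) fun χ hχ hne hd => h3 (deg_mul hχ Fact.out Fact.out hpr (dvd_linear hQ hidx P ha hφa hχ hne) hd)

theorem L1mem (d : PData q p r Q P) {φ : L1 Q (P : Subgroup G)} (hφ : φ ≠ 1) :
    ∃ a : Q, (a : G) ∈ ⁅Q, Q ⊔ (P : Subgroup G)⁆ ∧ (φ : Q →* ℂˣ) a ≠ 1 := by
  by_contra hh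
  push Not at hh
  exact hφ (Subtype.ext (killboth d φ.2 hh))

theorem good2 (d : PData q p r Q P) : Good (act2 Q (P : Subgroup G)) r := fun φ hφ => by
  obtain ⟨a, ha, hφa⟩ := L1mem d hφ
  obtain ⟨hi, hn⟩ := lin d ha hφa
  rw [← stab_res] at hi hn
  exact good_lift _ _ hi hn

theorem nontrivial_L1 (d : PData q p r Q P) {a₀ : Q} (ha₀ : (a₀ : G) ∈ ⁅Q, (P : Subgroup G)⁆)
    (ha₀' : a₀ ∉ commutator Q) : Nontrivial (L1 Q (P : Subgroup G)) := by
  obtain ⟨φ, hφ⟩ := exists_hom_ne_one' ha₀'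
  obtain ⟨φ0, hφ01, hφ02⟩ := decomp d φ
  refine ⟨⟨φ * φ0⁻¹, fun u hu => by rw [MonoidHom.mul_apply, MonoidHom.inv_apply, hφ02 u hu, mul_inv_cancel]⟩,
    1, fun e => hφ ?_⟩
  have h5 := DFunLike.congr_fun (congrArg Subtype.val e) a₀
  rw [MonoidHom.mul_apply, MonoidHom.inv_apply, hφ01 a₀ (Subgroup.commutator_mono le_rfl le_sup_right ha₀), inv_one,
    mul_one] at h5
  exact h5

theorem fix_trivial (d' : PData q p r Q P) [Nontrivial (L1 Q (P : Subgroup G))] {φ0 : Q →* ℂˣ}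
    (hφ0 : ∀ a : Q, (a : G) ∈ ⁅Q, Q ⊔ (P : Subgroup G)⁆ → φ0 a = 1) (R : Sylow r G) {y : G}
    (hy : y ∈ (R : Subgroup G)) : dualAct Q y φ0 = φ0 := by
  let Rb : Sylow r (G ⧸ Q) := R.mapSurjective (QuotientGroup.mk'_surjective Q)
  obtain ⟨φ1, hφ1, hR1⟩ := exists_fix (good2 d') Rb
  obtain ⟨a, ha, hne⟩ := L1mem d' hφ1
  obtain ⟨hi, hn⟩ := lin d' (φ := (φ1 : Q →* ℂˣ) * φ0) ha (by rwa [MonoidHom.mul_apply, hφ0 a ha, mul_one])
  set T := stab (dualAct Q) ((φ1 : Q →* ℂˣ) * φ0) with hTdef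
  have hsplit : ∀ g : G, dualAct Q g ((φ1 : Q →* ℂˣ) * φ0) = (φ1 : Q →* ℂˣ) * φ0 →
      dualAct Q g φ1 = φ1 ∧ dualAct Q g φ0 = φ0 := by
    intro g hg
    rw [map_mul] at hg
    have h5 : ∀ b : Q, dualAct Q g (φ1 : Q →* ℂˣ) b * dualAct Q g φ0 b = (φ1 : Q →* ℂˣ) b * φ0 b := fun b => by
      rw [← MonoidHom.mul_apply, hg, MonoidHom.mul_apply]
    have h6 := killboth d' (φ := dualAct Q g (φ1 : Q →* ℂˣ) * (φ1 : Q →* ℂˣ)⁻¹)
      ((L1 Q (P : Subgroup G)).mul_mem (L1inv _ g φ1.2) ((L1 Q (P : Subgroup G)).inv_mem φ1.2)) fun b hb => by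
      have h7 := h5 b
      rw [dualAct_apply Q g φ0, hφ0 b hb, hφ0 _ (by
        simpa using (inferInstance : (⁅Q, Q ⊔ (P : Subgroup G)⁆).Normal).conj_mem _ hb g⁻¹),
        mul_one, mul_one] at h7
      rw [MonoidHom.mul_apply, MonoidHom.inv_apply, h7, mul_inv_cancel]
    have h8 : dualAct Q g (φ1 : Q →* ℂˣ) = φ1 := MonoidHom.ext fun b => by
      have h7 := DFunLike.congr_fun h6 b
      rw [MonoidHom.mul_apply, MonoidHom.inv_apply, MonoidHom.one_apply, mul_inv_eq_one] at h7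
      exact h7
    refine ⟨h8, MonoidHom.ext fun b => ?_⟩
    have h7 := h5 b
    rw [h8] at h7
    exact mul_left_cancel h7
  let X' : Sylow r T := default
  have hXi : ¬ r ∣ ((X' : Subgroup T).map T.subtype).index := by
    rw [Subgroup.index_map_subtype]
    exact (Fact.out : r.Prime).not_dvd_mul X'.not_dvd_index hi
  let X : Sylow r G := (X'.isPGroup'.map T.subtype).toSylow hXi
  have hXT : (X : Subgroup G) ≤ T := Subgroup.map_subtype_le _
  let R' : Sylow r (G ⧸ Q) := X.mapSurjective (QuotientGroup.mk'_surjective Q)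
  have hQT : Q ≤ T := fun u hu => mem_stab.2 (by rw [MonoidHom.mem_ker.1 (le_ker_linear hQn hu)]; rfl)
  have hR'1 : (R' : Subgroup (G ⧸ Q)) ≤ stab (act2 Q (P : Subgroup G)) φ1 := by
    rintro _ ⟨g, hg, rfl⟩
    exact Subtype.ext (hsplit g (mem_stab.1 (hXT hg))).1
  have e := sylow_eq (good2 d') hφ1 hR1 hR'1
  have hyR : QuotientGroup.mk' Q y ∈ (R' : Subgroup (G ⧸ Q)) := e ▸ ⟨y, hy, rfl⟩
  obtain ⟨g, hg, hge⟩ := hyR
  have hyT : y ∈ T := by
    rw [show y = g * (g⁻¹ * y) by group]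
    exact mul_mem (hXT hg) (hQT (QuotientGroup.eq.1 hge))
  exact (hsplit y (mem_stab.1 hyT)).2

theorem mod_derived (d : PData q p r Q P) [Nontrivial (L1 Q (P : Subgroup G))] (R : Sylow r G) {y : G}
    (hy : y ∈ (R : Subgroup G)) {u : G} (hu : u ∈ Q0 Q (P : Subgroup G)) : ⁅y, u⁆ ∈ ⁅Q, Q⁆ := by
  by_contra hh
  have huQ : u ∈ Q := hu.1
  have hm : y * u * y⁻¹ ∈ Q := hQn.conj_mem u huQ y
  obtain ⟨φ, hφ⟩ := exists_hom_ne_one' (M := Q) (a := ⟨y * u * y⁻¹, hm⟩ * ⟨u, huQ⟩⁻¹) fun h5 => hh (by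
    rw [← Subgroup.map_subtype_commutator]
    exact ⟨_, h5, by show y * u * y⁻¹ * u⁻¹ = ⁅y, u⁆; rw [commutatorElement_def]⟩)
  refine hφ ?_
  rw [map_mul, map_inv, mul_inv_eq_one]
  obtain ⟨φ0, hφ01, hφ02⟩ := decomp d φ
  rw [← hφ02 ⟨u, huQ⟩ hu, ← hφ02 ⟨_, hm⟩ ((inferInstance : (Q0 Q (P : Subgroup G)).Normal).conj_mem u hu y)]
  have h5 := DFunLike.congr_fun (fix_trivial d hφ01 R (inv_mem hy)) (⟨u, huQ⟩ : Q)
  rw [dualAct_apply] at h5
  rw [← h5]
  exact congrArg φ0 (Subtype.ext (by simp))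

theorem Q0ab (d : PData q p r Q P) [Nontrivial (L1 Q (P : Subgroup G))] :
    ⁅Q0 Q (P : Subgroup G), Q0 Q (P : Subgroup G)⁆ = ⊥ := by
  have hR0 := fun (R : Sylow r G) {y : G} (hy : y ∈ (R : Subgroup G)) {u : G} (hu : u ∈ Q0 Q (P : Subgroup G)) =>
    mod_derived d R hy hu
  classical
  haveI := Fintype.ofFinite G
  haveI := Fintype.ofFinite Q
  obtain ⟨⟨hqp, hqr, hpr, hQ, hidx, hcen, hN, hmin, hexp, hnp, hnr, h1, h2, h3, hp⟩, hPK, hr⟩ := d
  rcases hmin ⁅(Q0 Q (P : Subgroup G)), (Q0 Q (P : Subgroup G))⁆ inferInstance (Subgroup.commutator_mono (fun u hu => hu.1) fun u hu => hu.1) with h | h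
  · exact h
  exfalso
  let R : Sylow r G := default
  refine R.not_dvd_index (hr.trans (Subgroup.index_dvd_of_le fun y hy => ?_))
  have hle : ⁅(Q0 Q (P : Subgroup G)), (Q0 Q (P : Subgroup G))⁆ ≤ Subgroup.centralizer ({y} : Set G) := by
    rw [Subgroup.commutator_le]
    intro u hu v hv
    rw [Subgroup.mem_centralizer_singleton_iff]
    have hu' := hR0 R hy hu
    have hv' := hR0 R hy hv
    have hyu : y * u * y⁻¹ = ⁅y, u⁆ * u := by rw [commutatorElement_def]; group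
    have hyv : y * v * y⁻¹ = ⁅y, v⁆ * v := by rw [commutatorElement_def]; group
    have h5 : y * ⁅u, v⁆ * y⁻¹ = ⁅u, v⁆ := by
      rw [show y * ⁅u, v⁆ * y⁻¹ = ⁅y * u * y⁻¹, y * v * y⁻¹⁆ by simp only [commutatorElement_def]; group,
        hyu, hyv, comm_mul Q hcen (Subgroup.commutator_le_left Q Q hu') hu.1 (mul_mem (Subgroup.commutator_le_left Q Q hv') hv.1),
        commutatorElement_eq_one_iff_mul_comm.2 (central Q hcen hu' (mul_mem (Subgroup.commutator_le_left Q Q hv') hv.1)).symm, one_mul,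
        comm_mul_right Q hcen hu.1 (Subgroup.commutator_le_left Q Q hv') hv.1,
        commutatorElement_eq_one_iff_mul_comm.2 (central Q hcen hv' hu.1), one_mul]
    exact (mul_inv_eq_iff_eq_mul.1 h5).symm
  rw [h] at hle
  rw [Subgroup.mem_centralizer_iff]
  exact fun n hn => Subgroup.mem_centralizer_singleton_iff.1 (hle hn)

theorem Q0z (d : PData q p r Q P) [Nontrivial (L1 Q (P : Subgroup G))] {u : G}
    (hu : u ∈ Q0 Q (P : Subgroup G)) {v : G} (hv : v ∈ Q) : u * v = v * u := by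
  have hQ0c := @Q0c _ _ _ _ hQn _ _ _ _ _ _ _ _ _ d
  have hQ0ab := Q0ab d
  classical
  haveI := Fintype.ofFinite G
  haveI := Fintype.ofFinite Q
  obtain ⟨⟨hqp, hqr, hpr, hQ, hidx, hcen, hN, hmin, hexp, hnp, hnr, h1, h2, h3, hp⟩, hPK, hr⟩ := d
  have hcopQP := coprime_sylow hQ hqp P
  have hQ1 : ⁅⁅Q, (P : Subgroup G)⁆, Q0 Q (P : Subgroup G)⁆ = ⊥ := by
    refine Subgroup.commutator_commutator_eq_bot_of_rotate ?_ ?_
    · have h5 : ⁅(P : Subgroup G), (Q0 Q (P : Subgroup G))⁆ = ⊥ := by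
        rw [eq_bot_iff, Subgroup.commutator_le]
        intro y hy u hu
        rw [Subgroup.mem_bot, commutatorElement_eq_one_iff_mul_comm]
        exact (hQ0c hu hy).symm
      rw [h5, Subgroup.commutator_bot_left]
    · rw [eq_bot_iff]
      have h5 : ⁅(Q0 Q (P : Subgroup G)), Q⁆ ≤ ⁅Q, Q⁆ := Subgroup.commutator_mono (fun u hu => hu.1) le_rfl
      refine (Subgroup.commutator_mono h5 le_rfl).trans ?_
      rw [Subgroup.commutator_le]
      intro n hn y hy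
      rw [Subgroup.mem_bot, commutatorElement_eq_one_iff_mul_comm]
      exact Subgroup.mem_centralizer_iff.1 (hPK y hy) n hn
  obtain ⟨x, hx, c, hc, e⟩ := CfsgLib.coprime_decomp (A := (P : Subgroup G))
    (le_trans le_top (Subgroup.normalizer_eq_top_iff.2 hQn).ge) hcopQP (Or.inr inferInstance) hv
  have hcQ0 : c ∈ (Q0 Q (P : Subgroup G)) := Q0mem _ hc.1 fun y hy => by
    rw [commutatorElement_eq_one_iff_mul_comm.2 (Subgroup.mem_centralizer_iff.1 hc.2 y hy).symm]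
    exact one_mem _
  have h5 : x * u = u * x := by
    rw [← commutatorElement_eq_one_iff_mul_comm, ← Subgroup.mem_bot, ← hQ1]
    exact Subgroup.commutator_mem_commutator hx hu
  have h6 : c * u = u * c := by
    rw [← commutatorElement_eq_one_iff_mul_comm, ← Subgroup.mem_bot, ← hQ0ab]
    exact Subgroup.commutator_mem_commutator hcQ0 hu
  rw [e]
  exact ((show Commute x u from h5).symm.mul_right (show Commute c u from h6).symm).eq

theorem rad_le (d : PData q p r Q P) (hcen : ⁅Q, Q⁆ ≤ Subgroup.centralizer (Q : Set G)) {φ : ↥⁅Q, Q⁆ →* ℂˣ}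
    (hφ : φ ≠ 1) : rad Q hcen φ ≤ Q0 Q (P : Subgroup G) := by
  intro z hz
  classical
  haveI := Fintype.ofFinite G
  haveI := Fintype.ofFinite Q
  obtain ⟨⟨hqp, hqr, hpr, hQ, hidx, -, hN, hmin, hexp, hnp, hnr, h1, h2, h3, hp⟩, hPK, hr⟩ := d
  have hz' := (mem_rad Q hcen).1 hz
  refine Q0mem _ hz'.1 fun y hy => ?_
  have hyz : y * z * y⁻¹ ∈ rad Q hcen φ := by
    refine (mem_rad Q hcen).2 ⟨hQn.conj_mem z hz'.1 y, fun u hu => ?_⟩
    have hu' : y⁻¹ * u * y ∈ Q := by simpa using hQn.conj_mem u hu y⁻¹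
    rw [show ⁅y * z * y⁻¹, u⁆ = y * ⁅z, y⁻¹ * u * y⁆ * y⁻¹ by simp only [commutatorElement_def]; group,
      ← Subgroup.mem_centralizer_iff.1 (hPK y hy) _ (Subgroup.commutator_mem_commutator hz'.1 hu'),
      mul_inv_cancel_right]
    exact hz'.2 _ hu'
  by_contra hh
  let Zs := (rad Q hcen φ).subgroupOf Q
  let Ns := ((⁅Q, Q⁆).subgroupOf Q).subgroupOf Zs
  let zz : Zs := ⟨⟨z, hz'.1⟩, Subgroup.mem_subgroupOf.2 hz⟩
  let zy : Zs := ⟨⟨y * z * y⁻¹, hQn.conj_mem z hz'.1 y⟩, Subgroup.mem_subgroupOf.2 hyz⟩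
  have hNs : ∀ a b : Zs ⧸ Ns, a * b = b * a := by
    intro a b
    obtain ⟨a, rfl⟩ := QuotientGroup.mk'_surjective Ns a
    obtain ⟨b, rfl⟩ := QuotientGroup.mk'_surjective Ns b
    rw [← commutatorElement_eq_one_iff_mul_comm, ← map_commutatorElement]
    refine (QuotientGroup.eq_one_iff _).2 (Subgroup.mem_subgroupOf.2 (Subgroup.mem_subgroupOf.2 ?_))
    have h5 := Subgroup.commutator_mem_commutator (a : Q).2 (b : Q).2
    simpa [commutatorElement_def] using h5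
  obtain ⟨α, hα⟩ := exists_hom_ne_one hNs (a := QuotientGroup.mk' Ns (zz * zy⁻¹)) fun e => hh (by
    have h5 := Subgroup.mem_subgroupOf.1 (Subgroup.mem_subgroupOf.1 ((QuotientGroup.eq_one_iff _).1 e))
    have h6 : ⁅z, y⁆ = ((((zz * zy⁻¹ : Zs)) : Q) : G) := by
      show ⁅z, y⁆ = z * (y * z * y⁻¹)⁻¹
      rw [commutatorElement_def]
      group
    rw [h6]
    exact h5)
  obtain ⟨θ₀, hθ₀, ho₀, -⟩ := exists_invariant Q hcen hQ hidx hexp φ
  obtain ⟨ν₀, -, hν₀, -⟩ := over_spec Q hcen hθ₀ ho₀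
  have hinv : ∀ ν : Zs →* ℂˣ, (∀ w : Zs, ((w : Q) : G) ∈ ⁅Q, Q⁆ → ν w = extFun Q φ ((w : Q) : G)) → ν zy = ν zz := by
    intro ν hν
    obtain ⟨θ, hθ, ho, hval⟩ := exists_over Q hcen ν hν
    have hi := inertia_index hcen hQ (qc Fact.out Fact.out hqp h1) hφ hθ ho
    set I := inertia Q θ
    let X' : Sylow p I := default
    have hXi : ¬ p ∣ ((X' : Subgroup I).map I.subtype).index := by
      rw [Subgroup.index_map_subtype]
      exact (Fact.out : p.Prime).not_dvd_mul X'.not_dvd_index hi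
    let X : Sylow p G := (X'.isPGroup'.map I.subtype).toSylow hXi
    have hXI : (X : Subgroup G) ≤ I := Subgroup.map_subtype_le _
    obtain ⟨-, -, hall, -⟩ := sylow_over hQ hidx hcen hN hexp hqp h1 hp X
    have hyI : y ∈ I := sup_le (le_inertia Q (isClassFunction_irr hθ)) hXI (hall P hy)
    have h5 := congrFun ((mem_inertia Q).1 hyI) (⟨z, hz'.1⟩ : Q)
    have h6 : θ (zy : Q) = θ (zz : Q) := h5
    rw [hval, hval] at h6
    exact Units.ext (mul_left_cancel₀ (irr_ne_zero hθ) h6)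
  have h5 := hinv ν₀ hν₀
  have h6 := hinv (ν₀ * α.comp (QuotientGroup.mk' Ns)) fun w hw => by
    rw [MonoidHom.mul_apply, hν₀ w hw, MonoidHom.comp_apply,
      show QuotientGroup.mk' Ns w = 1 from (QuotientGroup.eq_one_iff w).2
        (Subgroup.mem_subgroupOf.2 (Subgroup.mem_subgroupOf.2 hw)), map_one, mul_one]
  rw [MonoidHom.mul_apply, MonoidHom.mul_apply, h5, mul_right_inj, MonoidHom.comp_apply, MonoidHom.comp_apply] at h6
  refine hα ?_
  rw [map_mul, map_inv, map_mul, map_inv, h6, mul_inv_cancel]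

theorem case_big (d : PData q p r Q P) [Nontrivial (L1 Q (P : Subgroup G))] {a₀ : Q}
    (ha₀ : (a₀ : G) ∈ ⁅Q, (P : Subgroup G)⁆) (ha₀' : a₀ ∉ commutator Q) : False := by
  have d' := d
  have hQ0c := @Q0c _ _ _ _ hQn _ _ _ _ _ _ _ _ _ d
  have hg2 := good2 d
  classical
  haveI := Fintype.ofFinite G
  haveI := Fintype.ofFinite Q
  obtain ⟨⟨hqp, hqr, hpr, hQ, hidx, hcen, hN, hmin, hexp, hnp, hnr, h1, h2, h3, hp⟩, hPK, hr⟩ := d
  set N := ⁅Q, Q⁆ with hNdef
  set K := Subgroup.centralizer (N : Set G) with hKdef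
  have hqr' := qc (G := G) (Fact.out : q.Prime) (Fact.out : r.Prime) hqr h2
  have hNc : ∀ a ∈ N, ∀ b ∈ N, a * b = b * a := fun a ha b hb => nc hcen ha hb
  have hNQ : N ≤ Q := Subgroup.commutator_le_left Q Q
  haveI : Nontrivial N := (Subgroup.nontrivial_iff_ne_bot N).2 hN
  obtain ⟨φ₀, hφ₀⟩ := exists_hom_ne (M := N) fun a b => Subtype.ext (hNc a a.2 b b.2)
  have hNQ0 : N ≤ Q0 Q (P : Subgroup G) := fun n hn => Q0mem _ (hNQ hn) fun y hy => by
    rw [commutatorElement_eq_one_iff_mul_comm.2 (Subgroup.mem_centralizer_iff.1 (hPK y hy) n hn)]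
    exact one_mem N
  let act1 := QuotientGroup.lift Q (dualAct N) (le_ker_derived hcen)
  have hg1 : Good (M := N →* ℂˣ) act1 r := fun φ hφ => by
    obtain ⟨hi, hn⟩ := good_stab hcen (Fact.out : r.Prime) hQ hidx hexp hqr' hφ
    exact good_lift _ _ hi hn
  have hker1 : ∀ g : G, act1 (QuotientGroup.mk g) = 1 ↔ g ∈ K := fun g => by
    rw [hKdef, ← ker_dualAct N hNc, MonoidHom.mem_ker]
    rfl
  have hfix1 : ∀ R : Sylow r (G ⧸ Q), fixC (M := N →* ℂˣ) act1 (R : Subgroup (G ⧸ Q)) ≠ ⊤ := by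
    intro R e
    have hle : (R : Subgroup (G ⧸ Q)).comap (QuotientGroup.mk' Q) ≤ K := fun g hg => (hker1 g).1 (MulEquiv.ext
      fun φ => mem_fixC.1 (e.symm ▸ Subgroup.mem_top φ : φ ∈ fixC (M := N →* ℂˣ) act1 (R : Subgroup (G ⧸ Q))) hg)
    have h5 := hr.trans (Subgroup.index_dvd_of_le hle)
    rw [Subgroup.index_comap_of_surjective _ (QuotientGroup.mk'_surjective Q)] at h5
    exact R.not_dvd_index h5
  -- an element outside `(Q0 Q (P : Subgroup G))`
  obtain ⟨z, hzQ, hz0⟩ : ∃ z ∈ Q, z ∉ (Q0 Q (P : Subgroup G)) := by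
    by_contra hh
    push Not at hh
    refine ha₀' ?_
    have h5 : (a₀ : G) ∈ (⊥ : Subgroup G) := by
      have h6 : ⁅Q, (P : Subgroup G)⁆ ≤ ⊥ := by
        rw [Subgroup.commutator_le]
        intro u hu y hy
        rw [Subgroup.mem_bot, commutatorElement_eq_one_iff_mul_comm]
        exact hQ0c (hh u hu) hy
      exact h6 ha₀
    rw [Subgroup.mem_bot] at h5
    rw [show a₀ = 1 from Subtype.ext h5]
    exact one_mem _
  let f : Q →* N := MonoidHom.mk' (fun u => ⟨⁅z, (u : G)⁆, Subgroup.commutator_mem_commutator hzQ u.2⟩)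
    fun u v => Subtype.ext (comm_mul_right Q hcen hzQ u.2 v.2)
  have hsurj : f.range = ⊤ := by
    by_contra hne
    haveI : f.range.Normal := ⟨fun n hn g => by
      rwa [show g * n * g⁻¹ = n by rw [Subtype.ext_iff]; simp [hNc (g : G) g.2 (n : G) n.2]]⟩
    haveI : Nontrivial (N ⧸ f.range) := QuotientGroup.nontrivial_iff.2 hne
    obtain ⟨α, hα⟩ := exists_hom_ne (M := N ⧸ f.range) fun a b => by
      obtain ⟨a, rfl⟩ := QuotientGroup.mk'_surjective f.range a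
      obtain ⟨b, rfl⟩ := QuotientGroup.mk'_surjective f.range b
      rw [← map_mul, ← map_mul, show a * b = b * a from Subtype.ext (hNc a a.2 b b.2)]
    have hne1 : α.comp (QuotientGroup.mk' f.range) ≠ 1 := fun e => hα (MonoidHom.ext fun x => by
      obtain ⟨x, rfl⟩ := QuotientGroup.mk'_surjective f.range x
      exact DFunLike.congr_fun e x)
    refine hz0 (rad_le d' hcen hne1 ((mem_rad Q hcen).2 ⟨hzQ, fun u hu => ?_⟩))
    rw [extFun_of_mem Q _ (Subgroup.commutator_mem_commutator hzQ hu)]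
    show α (QuotientGroup.mk' f.range (f ⟨u, hu⟩)) = 1
    rw [show QuotientGroup.mk' f.range (f ⟨u, hu⟩) = 1 from (QuotientGroup.eq_one_iff _).2 ⟨_, rfl⟩, map_one]
  -- sizes
  have hsize : Nat.card N < Nat.card (L1 Q (P : Subgroup G)) := by
    set Q0' := (Q0 Q (P : Subgroup G)).subgroupOf Q
    haveI : Q0'.Normal := inferInstance
    have hab : ∀ a b : Q ⧸ Q0', a * b = b * a := by
      intro a b
      obtain ⟨a, rfl⟩ := QuotientGroup.mk'_surjective Q0' a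
      obtain ⟨b, rfl⟩ := QuotientGroup.mk'_surjective Q0' b
      rw [← commutatorElement_eq_one_iff_mul_comm, ← map_commutatorElement]
      refine (QuotientGroup.eq_one_iff _).2 (Subgroup.mem_subgroupOf.2 ((hNQ0 ?_)))
      have h5 := Subgroup.commutator_mem_commutator a.2 b.2
      simpa [commutatorElement_def] using h5
    have e : Nat.card (L1 Q (P : Subgroup G)) = Q0'.index := by
      rw [Subgroup.index_eq_card, ← card_hom hab]
      refine Nat.card_congr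
        { toFun := fun φ => QuotientGroup.lift Q0' (φ : Q →* ℂˣ) fun u hu =>
            φ.2 u (Subgroup.mem_subgroupOf.1 hu)
          invFun := fun α => ⟨α.comp (QuotientGroup.mk' Q0'), fun u hu => by
            rw [MonoidHom.comp_apply, show QuotientGroup.mk' Q0' u = 1 from
              (QuotientGroup.eq_one_iff u).2 (Subgroup.mem_subgroupOf.2 hu), map_one]⟩
          left_inv := fun φ => Subtype.ext (MonoidHom.ext fun u => rfl)
          right_inv := fun α => MonoidHom.ext fun x => by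
            obtain ⟨x, rfl⟩ := QuotientGroup.mk'_surjective Q0' x
            rfl }
    have hlt : Q0' < f.ker := by
      refine lt_of_le_of_ne (fun u hu => MonoidHom.mem_ker.2 (Subtype.ext ?_)) fun h5 => ?_
      · show ⁅z, (u : G)⁆ = 1
        rw [commutatorElement_eq_one_iff_mul_comm]
        exact (Q0z d' (Subgroup.mem_subgroupOf.1 hu) hzQ).symm
      · have h6 : (⟨z, hzQ⟩ : Q) ∈ f.ker := MonoidHom.mem_ker.2 (Subtype.ext (commutatorElement_self z))
        rw [← h5] at h6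
        exact hz0 (Subgroup.mem_subgroupOf.1 h6)
    rw [e, ← Subgroup.card_top (G := N), ← hsurj, ← Subgroup.index_ker]
    have h5 := Subgroup.card_mul_index Q0'
    have h6 := Subgroup.card_mul_index f.ker
    by_contra hcon
    push Not at hcon
    have h7 : Nat.card Q0' < Nat.card f.ker := by
      refine lt_of_le_of_ne (Subgroup.card_le_of_le hlt.le) fun h8 => hlt.ne ?_
      exact Subgroup.eq_of_le_of_card_ge hlt.le h8.ge
    have h8 : 0 < f.ker.index := Nat.pos_of_ne_zero Subgroup.index_ne_zero_of_finite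
    nlinarith
  -- the powers
  have hpow : ∀ {M : Type u} [Group M] [Finite M], Nat.card M ∣ Nat.card Q → ∃ i, Nat.card M = q ^ i := by
    intro M _ _ hd
    obtain ⟨i, hi⟩ := IsPGroup.iff_card.1 hQ
    obtain ⟨j, -, hj⟩ := (Nat.dvd_prime_pow (Fact.out : q.Prime)).1 (hi ▸ hd)
    exact ⟨j, hj⟩
  have hcN : Nat.card (N →* ℂˣ) = Nat.card N := card_hom fun a b => Subtype.ext (hNc a a.2 b b.2)
  obtain ⟨D, hD⟩ := hpow (M := N) (Subgroup.card_dvd_of_le hNQ)
  obtain ⟨E, hE⟩ := hpow (M := (L1 Q (P : Subgroup G))) ((Subgroup.card_subgroup_dvd_card (L1 Q (P : Subgroup G))).trans (by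
    rw [show Nat.card (Q →* ℂˣ) = Nat.card (Abelianization Q →* ℂˣ) from
      (Nat.card_congr Abelianization.lift), card_hom (fun a b => mul_comm a b)]
    exact Subgroup.card_quotient_dvd_card _))
  haveI : Nontrivial (N →* ℂˣ) := ⟨φ₀, 1, hφ₀⟩
  let Rb : Sylow r (G ⧸ Q) := default
  have hs1 := card_spread (M := N →* ℂˣ) hg1 Rb
  have hs2 := card_spread hg2 Rb
  obtain ⟨d, hdC⟩ := hpow (M := fixC (M := N →* ℂˣ) act1 (Rb : Subgroup (G ⧸ Q)))
    ((Subgroup.card_subgroup_dvd_card _).trans (hcN ▸ Subgroup.card_dvd_of_le hNQ))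
  obtain ⟨e, heC⟩ := hpow (M := fixC (act2 Q (P : Subgroup G)) (Rb : Subgroup (G ⧸ Q)))
    ((Subgroup.card_subgroup_dvd_card _).trans (by
      rw [hE]
      obtain ⟨i, hi⟩ := IsPGroup.iff_card.1 hQ
      rw [hi]
      refine pow_dvd_pow q ?_
      by_contra hc
      have h5 := (Subgroup.card_subgroup_dvd_card (L1 Q (P : Subgroup G))).trans (show Nat.card (Q →* ℂˣ) ∣ Nat.card Q by
        rw [show Nat.card (Q →* ℂˣ) = Nat.card (Abelianization Q →* ℂˣ) from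
          (Nat.card_congr Abelianization.lift), card_hom (fun a b => mul_comm a b)]
        exact Subgroup.card_quotient_dvd_card _)
      rw [hE, hi] at h5
      exact hc ((Nat.pow_dvd_pow_iff_le_right (Fact.out : q.Prime).one_lt).1 h5)))
  rw [hdC, hcN, hD] at hs1
  rw [heC, hE] at hs2
  have hdD : d < D := by
    rw [← Nat.pow_lt_pow_iff_right (Fact.out : q.Prime).one_lt, ← hdC, ← hD, ← hcN]
    exact lt_of_le_of_ne (Subgroup.card_le_card_group _)
      fun h5 => hfix1 Rb (Subgroup.eq_top_of_card_eq _ h5)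
  have hD1 : 1 ≤ D := by
    by_contra hc
    have : Nat.card N = 1 := by rw [hD, show D = 0 by omega, pow_zero]
    exact absurd this (Finite.one_lt_card (α := N)).ne'
  rw [hD, hE, Nat.pow_lt_pow_iff_right (Fact.out : q.Prime).one_lt] at hsize
  exact exp_false (Fact.out : q.Prime).two_le hD1 hdD hsize hs1 hs2


end PSide

/-- The reduced case. -/
theorem case_two (h : Red q p r Q) : False := by
  have h' := h
  classical
  haveI := Fintype.ofFinite G
  haveI := Fintype.ofFinite Q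
  obtain ⟨hqp, hqr, hpr, hQ, hidx, hcen, hN, hmin, hexp, hnp, hnr, h1, h2, h3, hp⟩ := h
  obtain ⟨hPK, hPn, -, hPc⟩ := sylow_over hQ hidx hcen hN hexp hqp h1 hp (default : Sylow p G)
  set P : Sylow p G := default
  haveI := hPn
  obtain ⟨a₀, ha₀, ha₀'⟩ := moved hQ P hqp hnp hPK hPn hPc
  by_cases hr : ¬ r ∣ (Subgroup.centralizer ((⁅Q, Q⁆ : Subgroup G) : Set G)).index
  · obtain ⟨hRK, hRn, -, hRc⟩ := sylow_over hQ hidx hcen hN hexp hqr h2 hr (default : Sylow r G)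
    set R : Sylow r G := default
    haveI := hRn
    obtain ⟨b₀, hb₀, hb₀'⟩ := moved hQ R hqr hnr hRK hRn hRc
    obtain ⟨φ, hφa, hφb⟩ := exists_hom_avoid (exists_hom_ne_one' ha₀') (exists_hom_ne_one' hb₀')
    obtain ⟨χ, hχ, hne⟩ := exists_irr_above (isIrr_hom φ)
    exact h3 (deg_mul hχ Fact.out Fact.out hpr
      (dvd_linear hQ hidx P (Subgroup.commutator_mono le_rfl le_sup_right ha₀) hφa hχ hne)
      (dvd_linear hQ hidx R (Subgroup.commutator_mono le_rfl le_sup_right hb₀) hφb hχ hne))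
  · rw [not_not] at hr
    haveI := nontrivial_L1 (P := P) ⟨h', hPK, hr⟩ ha₀ ha₀'
    exact case_big (P := P) ⟨h', hPK, hr⟩ ha₀ ha₀'

end CfsgLib.Palfy
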