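import Cfsg.Agent.Lib.Palfy.Dual

/-!
Pálfy's three prime theorem, part 6: no Sylow subgroup for the three primes is normal.
-/

set_option autoImplicit false
set_option linter.unusedSectionVars false
set_option linter.style.haveILetI false
set_option maxHeartbeats 1000000

namespace CfsgLib.Palfy

open Cfsg CfsgLib CfsgLib.CharTheory
open scoped commutatorElement

universe u

variable {G : Type u} [Group G] [Finite G]

/-- The data of a minimal normal subgroup in this case. -/
structure MinData (x : ℕ) (N : Subgroup G) : Prop where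
  prime : x.Prime
  normal : N.Normal
  ne : N ≠ ⊥
  comm : ∀ a ∈ N, ∀ b ∈ N, a * b = b * a
  exponent : ∃ y : ℕ, y.Prime ∧ y ≠ x ∧ ∀ n ∈ N, n ^ y = 1
  coprime : ¬ x ∣ Nat.card N
  quot : ∀ _ : N.Normal, NA x (G ⧸ N)

theorem case_none [Group.IsSolvable G] (S : Finset ℕ) (hprime : ∀ x ∈ S, x.Prime) (hcard : S.card = 3)
    (hsyl : ∀ x ∈ S, ∀ X : Sylow x G, ¬ (X : Subgroup G).Normal)
    (hquot : ∀ (N : Subgroup G) [N.Normal], N ≠ ⊥ → ∃ x ∈ S, NA x (G ⧸ N))
    (hno : ∀ x ∈ S, ∀ z ∈ S, x ≠ z → ¬ Deg (x * z) G) : False := by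
  classical
  haveI := Fintype.ofFinite G
  have hdvd : ∀ x ∈ S, x ∣ Nat.card G := fun x hx => by
    haveI := Fact.mk (hprime x hx)
    by_contra hd
    let X : Sylow x G := default
    refine hsyl x hx X ?_
    have : (X : Subgroup G) = ⊥ := by
      obtain ⟨i, hi⟩ := IsPGroup.iff_card.1 X.isPGroup'
      rcases Nat.eq_zero_or_pos i with rfl | hpos
      · exact Subgroup.eq_bot_of_card_eq _ (by rw [hi, pow_zero])
      · exact absurd ((show x ∣ Nat.card (X : Subgroup G) from hi.symm ▸ dvd_pow_self x hpos.ne').trans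
          (Subgroup.card_subgroup_dvd_card _)) hd
    rw [this]
    infer_instance
  obtain ⟨x₀, hx₀⟩ := Finset.card_pos.1 (by omega : 0 < S.card)
  have hGne : (⊤ : Subgroup G) ≠ ⊥ := fun e => by
    have h1 := hdvd x₀ hx₀
    rw [← Subgroup.card_top (G := G), e, Subgroup.card_bot, Nat.dvd_one] at h1
    exact (hprime x₀ hx₀).one_lt.ne' h1
  -- the data of a minimal normal subgroup
  have hdata : ∀ N : Subgroup G, N.Normal → N ≠ ⊥ →
      (∀ M : Subgroup G, M.Normal → M ≤ N → M = ⊥ ∨ M = N) → ∃ x ∈ S, MinData x N := by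
    intro N hN hN0 hmin
    obtain ⟨hab, y, hy, hexp⟩ := CfsgLib.minimal_normal_elementary hN0 inferInstance hmin
    obtain ⟨x, hx, hna⟩ := hquot N hN0
    have hxp := hprime x hx
    haveI := Fact.mk hxp
    haveI := Fact.mk hy
    have hNp : IsPGroup y N := fun n => ⟨1, Subtype.ext (by rw [pow_one]; exact hexp n n.2)⟩
    have hyx : y ≠ x := by
      rintro rfl
      obtain ⟨P, hPn, -, hPp, hPi⟩ := hna
      have hM : IsPGroup y (P.comap (QuotientGroup.mk' N)) :=
        hPp.comap_of_ker_isPGroup _ (by rwa [QuotientGroup.ker_mk'])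
      have hi : ¬ y ∣ (P.comap (QuotientGroup.mk' N)).index := by
        rwa [Subgroup.index_comap_of_surjective _ (QuotientGroup.mk'_surjective N)]
      refine hsyl y hx (hM.toSylow hi) ?_
      exact hPn.comap _
    refine ⟨x, hx, hxp, hN, hN0, fun a ha b hb => ?_, ⟨y, hy, hyx, hexp⟩, fun hd => ?_, fun _ => hna⟩
    · exact setLike_mul_comm ha hb
    · obtain ⟨i, hi⟩ := IsPGroup.iff_card.1 hNp
      rw [hi] at hd
      exact hyx ((Nat.prime_dvd_prime_iff_eq hxp hy).1 (hxp.dvd_of_dvd_pow hd)).symm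
  -- consequences of the data
  have hmoved : ∀ {x : ℕ} {N : Subgroup G} (_ : x ∈ S) (_ : MinData x N) (_ : Fact x.Prime) (X : Sylow x G),
      ∃ n ∈ N, ∃ t ∈ (X : Subgroup G), ⁅n, t⁆ ≠ 1 := by
    intro x N hx hd _ X
    haveI := hd.normal
    obtain ⟨hn, -, -, -⟩ := quot_data N hd.coprime (hd.quot hd.normal) X
    by_contra hh
    push Not at hh
    exact hsyl x hx X (sylow_normal_of_centralized N X hn fun n hn t ht =>
      commutatorElement_eq_one_iff_mul_comm.1 (hh n hn t ht))
  obtain ⟨N, hNn, -, hN0, hNc, hNmin, -⟩ := CfsgLib.CoreFree.exists_abelian_minimal (G := G) (N := ⊤) hGne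
  obtain ⟨x, hx, hd⟩ := hdata N hNn hN0 hNmin
  haveI := hNn
  haveI hxf := Fact.mk hd.prime
  -- uniqueness
  have huniq : ∀ L : Subgroup G, L.Normal → L ≠ ⊥ → N ≤ L := by
    intro L hL hL0
    haveI := hL
    obtain ⟨N', hN'n, hN'L, hN'0, -, hN'min, -⟩ := CfsgLib.CoreFree.exists_abelian_minimal (G := G) (N := L) hL0
    by_cases he : N' = N
    · exact he ▸ hN'L
    exfalso
    obtain ⟨x', hx', hd'⟩ := hdata N' hN'n hN'0 hN'min
    haveI := hN'n
    haveI hxf' := Fact.mk hd'.prime
    have hinf : N ⊓ N' = ⊥ := by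
      rcases hNmin (N ⊓ N') inferInstance inf_le_left with h | h
      · exact h
      · rcases hN'min N hNn (inf_eq_left.1 h) with h' | h'
        · exact absurd h' hN0
        · exact absurd h'.symm he
    let X : Sylow x G := default
    obtain ⟨hS1, -, ⟨i1, hi1⟩, hX1⟩ := quot_data N hd.coprime (hd.quot hNn) X
    by_cases hxx : x' = x
    · subst hxx
      obtain ⟨hS2, -, ⟨i2, hi2⟩, hX2⟩ := quot_data N' hd'.coprime (hd'.quot hN'n) X
      haveI := hS1
      haveI := hS2
      obtain ⟨y, hy, hyx, hexp⟩ := hd.exponent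
      have hNM : N ⊓ (N' ⊔ (X : Subgroup G)) = ⊥ := by
        rcases hNmin (N ⊓ (N' ⊔ (X : Subgroup G))) inferInstance inf_le_left with h | h
        · exact h
        · exfalso
          refine hN0 (eq_bot_iff.2 (hinf ▸ le_inf le_rfl fun n hn => ?_))
          have hn2 : n ∈ N' ⊔ (X : Subgroup G) := inf_eq_left.1 h hn
          obtain ⟨n', hn', t, ht, e⟩ := Subgroup.mem_sup_of_normal_left.1 hn2
          have e' : n' * t = n := e
          have hnt : QuotientGroup.mk' N' n = QuotientGroup.mk' N' t := by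
            rw [← e', map_mul, show QuotientGroup.mk' N' n' = 1 from (QuotientGroup.eq_one_iff n').2 hn', one_mul]
          refine mem_of_coprime_image (k := y) ?_ (orderOf_dvd_of_pow_eq_one (hexp n hn))
          rw [MonoidHom.map_zpowers, Nat.card_zpowers, hnt]
          obtain ⟨k, hk⟩ := X.isPGroup' ⟨t, ht⟩
          have hk' : t ^ x' ^ k = 1 := congrArg Subtype.val hk
          exact (((Nat.coprime_primes hd'.prime hy).2 (Ne.symm hyx)).pow_left k).coprime_dvd_left
            ((orderOf_map_dvd (QuotientGroup.mk' N') t).trans (orderOf_dvd_of_pow_eq_one hk'))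
      -- the intersection is the Sylow subgroup
      set W := (N ⊔ (X : Subgroup G)) ⊓ (N' ⊔ (X : Subgroup G))
      have hWp : IsPGroup x' W := by
        rintro ⟨w, hw1, hw2⟩
        obtain ⟨n, hn, t, ht, e⟩ := Subgroup.mem_sup_of_normal_left.1 hw1
        have hn2 : n ∈ N ⊓ (N' ⊔ (X : Subgroup G)) := by
          refine Subgroup.mem_inf.2 ⟨hn, ?_⟩
          have e' : n * t = w := e
          rw [show n = w * t⁻¹ by rw [← e', mul_inv_cancel_right]]
          exact mul_mem hw2 (inv_mem (Subgroup.mem_sup_right ht))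
        rw [hNM, Subgroup.mem_bot] at hn2
        obtain ⟨k, hk⟩ := X.isPGroup' ⟨t, ht⟩
        refine ⟨k, Subtype.ext ?_⟩
        have hk' : t ^ x' ^ k = 1 := congrArg Subtype.val hk
        have e' : n * t = w := e
        show w ^ x' ^ k = 1
        rw [← e', hn2, one_mul, hk']
      have hWX : W = (X : Subgroup G) := X.is_maximal' hWp (le_inf le_sup_right le_sup_right)
      exact hsyl x' hx' X (hWX ▸ (inferInstance : W.Normal))
    · let X' : Sylow x' G := default
      obtain ⟨hS2, -, ⟨i2, hi2⟩, hX2⟩ := quot_data N' hd'.coprime (hd'.quot hN'n) X'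
      obtain ⟨a, ha, t, ht, hat⟩ := hmoved hx hd hxf X
      obtain ⟨b, hb, t', ht', hbt⟩ := hmoved hx' hd' hxf' X'
      have hab : ∀ u ∈ N ⊔ N', ∀ v ∈ N ⊔ N', u * v = v * u := by
        have hcomm : ∀ u ∈ N, ∀ v ∈ N', u * v = v * u := fun u hu v hv =>
          (Subgroup.commute_of_normal_of_disjoint N N' hNn hN'n (disjoint_iff.2 hinf) u v hu hv).eq
        intro u hu v hv
        obtain ⟨u1, hu1, u2, hu2, e1⟩ := Subgroup.mem_sup_of_normal_left.1 hu
        obtain ⟨v1, hv1, v2, hv2, e2⟩ := Subgroup.mem_sup_of_normal_left.1 hv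
        have eu : u1 * u2 = u := e1
        have ev : v1 * v2 = v := e2
        rw [← eu, ← ev]
        exact ((show Commute u1 v1 from hd.comm u1 hu1 v1 hv1).mul_right (hcomm u1 hu1 v2 hv2)).mul_left
          ((show Commute u2 v1 from (hcomm v1 hv1 u2 hu2).symm).mul_right (hd'.comm u2 hu2 v2 hv2))
      haveI := hS1
      haveI := hS2
      have hrel : ∀ {p : ℕ} [Fact p.Prime] (P : Sylow p G),
          ∃ i, (N ⊔ N').relIndex (N ⊔ N' ⊔ (P : Subgroup G)) = p ^ i := by
        intro p _ P
        obtain ⟨i, hi⟩ := IsPGroup.iff_card.1 P.isPGroup'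
        obtain ⟨j, -, hj⟩ := (Nat.dvd_prime_pow (Fact.out : p.Prime)).1
          (show (N ⊔ N').relIndex (N ⊔ N' ⊔ (P : Subgroup G)) ∣ p ^ i by
            rw [Subgroup.relIndex_sup_left, ← hi]
            exact Subgroup.relIndex_dvd_card _ _)
        exact ⟨j, hj⟩
      haveI : (N ⊔ N' ⊔ (X : Subgroup G)).Normal := by
        rw [show N ⊔ N' ⊔ (X : Subgroup G) = (N ⊔ (X : Subgroup G)) ⊔ N' by
          rw [sup_assoc, sup_comm N' (X : Subgroup G), ← sup_assoc]]
        infer_instance
      haveI : (N ⊔ N' ⊔ (X' : Subgroup G)).Normal := by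
        rw [sup_assoc]
        infer_instance
      refine hno x hx x' hx' (Ne.symm hxx) (two_primes hd.prime hd'.prime (Ne.symm hxx) (N ⊔ N') hab
        (N ⊔ N' ⊔ (X : Subgroup G)) (N ⊔ N' ⊔ (X' : Subgroup G)) le_sup_left le_sup_left (hrel X) (hrel X')
        (a := ⁅a, t⁆) (b := ⁅b, t'⁆) ?_ ?_ ?_ ?_ hat hbt)
      · exact Subgroup.mem_sup_left (Subgroup.commutator_le_left N ⊤
          (Subgroup.commutator_mem_commutator ha (Subgroup.mem_top t)))
      · exact Subgroup.mem_sup_right (Subgroup.commutator_le_left N' ⊤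
          (Subgroup.commutator_mem_commutator hb (Subgroup.mem_top t')))
      · exact Subgroup.commutator_mem_commutator (Subgroup.mem_sup_left (Subgroup.mem_sup_left ha))
          (Subgroup.mem_sup_right ht)
      · exact Subgroup.commutator_mem_commutator (Subgroup.mem_sup_left (Subgroup.mem_sup_right hb))
          (Subgroup.mem_sup_right ht')
  -- the complement
  let X : Sylow x G := default
  obtain ⟨hM, hXc, hrelM, hNX⟩ := quot_data N hd.coprime (hd.quot hNn) X
  haveI := hM
  obtain ⟨n₀, hn₀, t₀, ht₀, hmov⟩ := hmoved hx hd hxf X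
  set H := Subgroup.normalizer ((X : Subgroup G) : Set G)
  have hsup : H ⊔ N = ⊤ := by
    have h1 : H ⊔ (N ⊔ (X : Subgroup G)) = ⊤ := Sylow.normalizer_sup_eq_top' X le_sup_right
    rw [← h1]
    refine le_antisymm (sup_le_sup_left le_sup_left H) (sup_le le_sup_left (sup_le le_sup_right ?_))
    exact Subgroup.le_normalizer.trans le_sup_left
  have hHN : H ⊓ N = ⊥ := by
    have hcen : ∀ n ∈ H ⊓ N, ∀ t ∈ (X : Subgroup G), n * t = t * n := by
      rintro n ⟨hnH, hnN⟩ t ht
      rw [← commutatorElement_eq_one_iff_mul_comm, ← Subgroup.mem_bot, ← hNX]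
      refine Subgroup.mem_inf.2 ⟨Subgroup.commutator_le_left N ⊤ (Subgroup.commutator_mem_commutator hnN (Subgroup.mem_top t)), ?_⟩
      rw [commutatorElement_def]
      exact mul_mem ((Subgroup.mem_normalizer_iff.1 hnH t).1 ht) (inv_mem ht)
    have hn : (H ⊓ N).Normal := by
      rw [← Subgroup.normalizer_eq_top_iff, eq_top_iff, ← hsup]
      refine sup_le (fun h hh => ?_) fun n hn => ?_
      · rw [Subgroup.mem_normalizer_iff]
        intro w
        constructor
        · rintro ⟨h1, h2⟩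
          exact Subgroup.mem_inf.2 ⟨mul_mem (mul_mem hh h1) (inv_mem hh), hNn.conj_mem w h2 h⟩
        · rintro ⟨h1, h2⟩
          refine Subgroup.mem_inf.2 ⟨?_, ?_⟩
          · simpa [mul_assoc] using mul_mem (mul_mem (inv_mem hh) h1) hh
          · simpa [mul_assoc] using hNn.conj_mem _ h2 h⁻¹
      · rw [Subgroup.mem_normalizer_iff]
        intro w
        constructor
        · rintro ⟨h1, h2⟩
          rw [hd.comm n hn w h2, mul_inv_cancel_right]
          exact ⟨h1, h2⟩
        · rintro ⟨h1, h2⟩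
          have h3 : w ∈ N := by simpa [mul_assoc] using hNn.conj_mem _ h2 n⁻¹
          rw [hd.comm n hn w h3, mul_inv_cancel_right] at h1
          exact ⟨h1, h3⟩
    rcases hNmin _ hn inf_le_right with h | h
    · exact h
    · exfalso
      exact hmov (commutatorElement_eq_one_iff_mul_comm.2 (hcen n₀ (h.symm ▸ hn₀) t₀ ht₀))
  set K := Subgroup.centralizer (N : Set G)
  have hKN : K = N := by
    refine le_antisymm ?_ fun n hn => Subgroup.mem_centralizer_iff.2 fun m hm => hd.comm m hm n hn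
    have hK0 : H ⊓ K = ⊥ := by
      by_contra hne
      have hn : (H ⊓ K).Normal := by
        rw [← Subgroup.normalizer_eq_top_iff, eq_top_iff, ← hsup]
        refine sup_le (fun h hh => ?_) fun n hn => ?_
        · rw [Subgroup.mem_normalizer_iff]
          intro w
          constructor
          · rintro ⟨h1, h2⟩
            exact Subgroup.mem_inf.2 ⟨mul_mem (mul_mem hh h1) (inv_mem hh), (inferInstance : K.Normal).conj_mem w h2 h⟩
          · rintro ⟨h1, h2⟩
            refine Subgroup.mem_inf.2 ⟨?_, ?_⟩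
            · simpa [mul_assoc] using mul_mem (mul_mem (inv_mem hh) h1) hh
            · simpa [mul_assoc] using (inferInstance : K.Normal).conj_mem _ h2 h⁻¹
        · rw [Subgroup.mem_normalizer_iff]
          intro w
          constructor
          · rintro ⟨h1, h2⟩
            rw [Subgroup.mem_centralizer_iff.1 h2 n hn, mul_inv_cancel_right]
            exact ⟨h1, h2⟩
          · rintro ⟨h1, h2⟩
            have h3 : w ∈ K := by simpa [mul_assoc] using (inferInstance : K.Normal).conj_mem _ h2 n⁻¹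
            rw [Subgroup.mem_centralizer_iff.1 h3 n hn, mul_inv_cancel_right] at h1
            exact ⟨h1, h3⟩
      have h1 := huniq _ hn hne
      exact hN0 (eq_bot_iff.2 fun n hn' => hHN ▸ ⟨(h1 hn').1, hn'⟩)
    intro k hk
    obtain ⟨h, hh, n, hn, e⟩ := Subgroup.mem_sup_of_normal_right.1 (hsup ▸ Subgroup.mem_top k : k ∈ H ⊔ N)
    have e' : h * n = k := e
    have h1 : h ∈ H ⊓ K := by
      refine Subgroup.mem_inf.2 ⟨hh, ?_⟩
      rw [show h = k * n⁻¹ by rw [← e', mul_inv_cancel_right]]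
      exact mul_mem hk (inv_mem (Subgroup.mem_centralizer_iff.2 fun m hm => hd.comm m hm n hn))
    rw [hK0, Subgroup.mem_bot] at h1
    rw [← e', h1, one_mul]
    exact hn
  -- the other two primes
  obtain ⟨a, b, hab, hSab⟩ : ∃ a b, a ≠ b ∧ S.erase x = {a, b} :=
    Finset.card_eq_two.1 (by rw [Finset.card_erase_of_mem hx, hcard])
  have haS : a ∈ S.erase x := hSab ▸ Finset.mem_insert_self a {b}
  have hbS : b ∈ S.erase x := hSab ▸ Finset.mem_insert_of_mem (Finset.mem_singleton_self b)
  haveI := Fact.mk (hprime a (Finset.mem_of_mem_erase haS))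
  haveI := Fact.mk (hprime b (Finset.mem_of_mem_erase hbS))
  haveI := Fintype.ofFinite N
  have hNS : ∀ n ∈ N, n ∈ ⁅N ⊔ (X : Subgroup G), N ⊔ (X : Subgroup G)⁆ := by
    have hne : ⁅N, N ⊔ (X : Subgroup G)⁆ ≠ ⊥ := fun e => hmov (Subgroup.mem_bot.1 (e ▸
      Subgroup.commutator_mem_commutator hn₀ (Subgroup.mem_sup_right ht₀)))
    rcases hNmin ⁅N, N ⊔ (X : Subgroup G)⁆ inferInstance (Subgroup.commutator_le_left _ _) with h | h
    · exact absurd h hne
    · exact fun n hn => Subgroup.commutator_mono le_sup_left le_rfl (h.symm ▸ hn)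
  obtain ⟨y, hy, hyx, hexp⟩ := hd.exponent
  haveI := Fact.mk hy
  have hindex : ∀ c ∈ S.erase x, c ∣ K.index := by
    intro c hc
    rw [hKN]
    obtain ⟨hcx, hcS⟩ := Finset.mem_erase.1 hc
    haveI := Fact.mk (hprime c hcS)
    by_contra hnd
    by_cases hcy : c = y
    · subst hcy
      exact hsyl c hcS ((IsPGroup.toSylow (P := N) (fun n => ⟨1, Subtype.ext (by rw [pow_one]; exact hexp n n.2)⟩)
        hnd)) hNn
    · have hNp : IsPGroup y N := fun n => ⟨1, Subtype.ext (by rw [pow_one]; exact hexp n n.2)⟩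
      obtain ⟨i, hi⟩ := IsPGroup.iff_card.1 hNp
      have h1 := hdvd c hcS
      rw [← Subgroup.card_mul_index N, hi] at h1
      rcases (hprime c hcS).dvd_mul.1 h1 with h | h
      · exact hcy ((Nat.prime_dvd_prime_iff_eq (hprime c hcS) hy).1 ((hprime c hcS).dvd_of_dvd_pow h))
      · exact hnd h
  have hgood : ∀ c ∈ S.erase x, ∀ φ : N →* ℂˣ, φ ≠ 1 → ¬ c ∣ (stab (dualAct N) φ).index ∧
      NA c ((stab (dualAct N) φ).map (dualAct N).rangeRestrict) := by
    intro c hc φ hφ
    obtain ⟨hcx, hcS⟩ := Finset.mem_erase.1 hc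
    set T := stab (dualAct N) φ with hT
    haveI := Fintype.ofFinite T
    have hNT : N ≤ T := fun n hn => by
      rw [hT, mem_stab]
      ext m
      rw [dualAct_apply]
      refine congrArg (fun z => ((φ z : ℂˣ) : ℂ)) (Subtype.ext ?_)
      show n⁻¹ * (m : G) * n = m
      rw [mul_assoc, hd.comm m m.2 n hn, inv_mul_cancel_left]
    -- the linear extension
    have hdec : ∀ g : G, ∃ n : N, (n : G)⁻¹ * g ∈ H := fun g => by
      obtain ⟨n, hn, h, hh, e⟩ :=
        Subgroup.mem_sup_of_normal_left.1 ((sup_comm H N ▸ hsup) ▸ Subgroup.mem_top g : g ∈ N ⊔ H)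
      have e' : n * h = g := e
      exact ⟨⟨n, hn⟩, by rw [← e', inv_mul_cancel_left]; exact hh⟩
    choose f hf using hdec
    have huniqf : ∀ (g : G) (n : N), (n : G)⁻¹ * g ∈ H → f g = n := by
      intro g n hn
      have h1 : (f g : G)⁻¹ * n ∈ H ⊓ N := by
        refine Subgroup.mem_inf.2 ⟨?_, mul_mem (inv_mem (f g).2) n.2⟩
        rw [show (f g : G)⁻¹ * n = ((f g : G)⁻¹ * g) * ((n : G)⁻¹ * g)⁻¹ by group]
        exact mul_mem (hf g) (inv_mem hn)
      rw [hHN, Subgroup.mem_bot, inv_mul_eq_one] at h1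
      exact Subtype.ext h1
    let η : T →* ℂˣ := MonoidHom.mk' (fun g => φ (f (g : G))) fun g k => by
      set h := (f (g : G) : G)⁻¹ * (g : G) with hh
      have hhT : h ∈ T := mul_mem (inv_mem (hNT (f (g : G)).2)) g.2
      have h1 : f ((g * k : T) : G) = f (g : G) * ⟨h * f (k : G) * h⁻¹, hNn.conj_mem _ (f (k : G)).2 h⟩ := by
        apply huniqf
        rw [show ((f (g : G) * ⟨h * f (k : G) * h⁻¹, hNn.conj_mem _ (f (k : G)).2 h⟩ : N) : G)⁻¹ *
          ((g * k : T) : G) = h * ((f (k : G) : G)⁻¹ * (k : G)) by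
            push_cast
            rw [hh]
            group]
        exact mul_mem (hf (g : G)) (hf (k : G))
      show φ (f ((g * k : T) : G)) = φ (f (g : G)) * φ (f (k : G))
      rw [h1, map_mul]
      congr 1
      have h2 := DFunLike.congr_fun (mem_stab.1 hhT) (⟨h * f (k : G) * h⁻¹, hNn.conj_mem _ (f (k : G)).2 h⟩ : N)
      rw [dualAct_apply] at h2
      rw [← h2]
      exact congrArg φ (Subtype.ext (by simp [mul_assoc]))
    have hext : ∀ n : N, (fun t : T => (η t : ℂ)) ⟨n, hNT n.2⟩ = (φ n : ℂ) := fun n => by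
      show ((φ (f (n : G)) : ℂˣ) : ℂ) = φ n
      rw [huniqf (n : G) n (by rw [inv_mul_cancel]; exact one_mem H)]
    have hTeq : T = inertia N fun n => (φ n : ℂ) := hT.trans (stab_eq_inertia N φ)
    obtain ⟨n, hn⟩ : ∃ n : N, φ n ≠ 1 := by
      by_contra hh
      push Not at hh
      exact hφ (MonoidHom.ext fun n => hh n)
    obtain ⟨h1, h2⟩ := inertia_of_not_dvd (hprime c hcS) (isIrr_hom φ) hNT hTeq
      (isCharacter_of_irr (isIrr_hom η)) hext fun χ hχ hne hdd => hno x hx c hcS (Ne.symm hcx)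
        (deg_mul hχ hd.prime (hprime c hcS) (Ne.symm hcx)
          (dvd_degree hd.prime _ N le_sup_left hd.comm hrelM (a := n) (hNS n n.2) hn hχ hne) hdd)
    refine ⟨h1, h2.map (QuotientGroup.lift (N.subgroupOf T)
      ((dualAct N).rangeRestrict.subgroupMap T) fun t ht => ?_) ?_⟩
    · rw [MonoidHom.mem_ker]
      refine Subtype.ext (Subtype.ext ?_)
      show dualAct N (t : G) = 1
      rw [← MonoidHom.mem_ker, ker_dualAct N hd.comm]
      show (t : G) ∈ K
      rw [hKN]
      exact Subgroup.mem_subgroupOf.1 ht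
    · intro z
      obtain ⟨t, rfl⟩ := (dualAct N).rangeRestrict.subgroupMap_surjective T z
      exact ⟨QuotientGroup.mk t, rfl⟩
  exact hno a (Finset.mem_of_mem_erase haS) b (Finset.mem_of_mem_erase hbS) hab
    (deg_dual (q := y) hab N hN0 hd.comm hexp hNmin (hindex a haS) (hindex b hbS) (hgood a haS) (hgood b hbS))

end CfsgLib.Palfy
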