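import Cfsg.Agent.Lib.Palfy.Linear

/-!
Pálfy's three prime theorem, part 4: small dimensions and the assembly of the linear lemma.
-/

set_option autoImplicit false
set_option linter.unusedSectionVars false
set_option linter.style.haveILetI false
set_option maxHeartbeats 1000000

namespace CfsgLib.Palfy

open Cfsg CfsgLib
open scoped commutatorElement
open CfsgLib.RegularLinear (Semi)

universe u

variable {q : ℕ} [hq : Fact q.Prime] {V : Type u} [AddCommGroup V] [Module (ZMod q) V] [Finite V] [Nontrivial V]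
  {H : Type u} [Group H] [Finite H] (ρ : H →* (V ≃ₗ[ZMod q] V))

theorem fix_of_stab {R : Subgroup H} {v : V} (h : R ≤ stab (actM ρ) (Multiplicative.ofAdd v)) : v ∈ Fix ρ R :=
  fun _ hr => congrArg Multiplicative.toAdd (h hr)

theorem exists_sylow_fix {a : ℕ} [Fact a.Prime] (hg : Good (actM ρ) a) {v : V} (hv : v ≠ 0) :
    ∃ R : Sylow a H, v ∈ Fix ρ (R : Subgroup H) := by
  obtain ⟨R, hR⟩ := exists_sylow_le hg (m := Multiplicative.ofAdd v) (fun h => hv (Multiplicative.ofAdd.injective h))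
  exact ⟨R, fix_of_stab ρ hR⟩

theorem eq_one_of_scalar_fix (hρ : Function.Injective ρ) {g : H} {c : ZMod q} (hc : ∀ v, ρ g v = c • v) {v : V}
    (hv : v ≠ 0) (hfix : ρ g v = v) : g = 1 := by
  refine hρ (LinearEquiv.ext fun w => ?_)
  rw [hc v] at hfix
  have h1 : c = 1 := by
    by_contra hne
    have h2 : (c - 1) • v = 0 := by rw [sub_smul, hfix, one_smul, sub_self]
    exact hne (sub_eq_zero.1 ((smul_eq_zero.1 h2).resolve_right hv))
  rw [hc w, h1, one_smul, map_one]
  rfl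

/-- The two-dimensional case outside the semilinear one. -/
theorem two_dim [Group.IsSolvable H] (hρ : Function.Injective ρ)
    (hD : Module.finrank (ZMod q) V = 2) (hsemi : ¬ Semi ρ) {a : ℕ} [Fact a.Prime] (hg : Good (actM ρ) a)
    (hd : a ∣ Nat.card H) : q ≠ 2 ∧ a < 5 := by
  classical
  haveI : Nontrivial (Multiplicative V) := Multiplicative.toAdd.nontrivial
  obtain ⟨d, hd1, hd2, -, -, hall, -⟩ := dims ρ hρ hg hd
  rw [hD] at hd2
  obtain rfl : d = 1 := by omega
  -- an abelian normal subgroup consists of scalars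
  have hscal : ∀ M : Subgroup H, M.Normal → (∀ x ∈ M, ∀ y ∈ M, x * y = y * x) →
      ∀ g ∈ M, ∃ c : ZMod q, ∀ v, ρ g v = c • v := by
    intro M hMn hMc g hgM
    haveI := hMn
    obtain ⟨W, hW, hW0, hW1⟩ : ∃ W : Submodule (ZMod q) V, (∀ m ∈ M, ∀ w ∈ W, ρ m w ∈ W) ∧ W ≠ ⊥ ∧ W ≠ ⊤ := by
      by_contra hh
      push Not at hh
      exact hsemi (RegularLinear.semi_of_irreducible ρ M hMc fun W hW =>
        or_iff_not_imp_left.2 fun h0 => hh W hW h0)
    obtain ⟨v, hvW, hv⟩ := W.exists_mem_ne_zero_of_ne_bot hW0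
    have hWd : Module.finrank (ZMod q) W = 1 := by
      have := Submodule.finrank_lt hW1
      have := Submodule.one_le_finrank_iff.2 hW0
      omega
    have hline : ∀ w ∈ W, ∃ c : ZMod q, c • v = w := fun w hw => by
      obtain ⟨c, hc⟩ := (finrank_eq_one_iff_of_nonzero' (⟨v, hvW⟩ : W) (fun h => hv (congrArg Subtype.val h))).1
        hWd ⟨w, hw⟩
      exact ⟨c, congrArg Subtype.val hc⟩
    obtain ⟨R₀, hR₀⟩ := exists_sylow_fix ρ hg hv
    have heig : ∀ w : V, ∃ c : ZMod q, ρ g w = c • w := by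
      intro w
      by_cases hw : w = 0
      · exact ⟨1, by rw [hw, map_zero, smul_zero]⟩
      obtain ⟨R, hR⟩ := exists_sylow_fix ρ hg hw
      obtain ⟨k, hk⟩ := MulAction.exists_smul_eq H R₀ R
      have hkv : ρ k v ∈ Fix ρ (R : Subgroup H) := by
        subst hk
        exact fix_of_stab ρ (by
          rw [← actM_apply, ← mem_fixC, Sylow.smul_def, Sylow.pointwise_smul_def]
          exact (mem_fixC_smul (act := actM ρ) (R₀ : Subgroup H) k _).2 fun r hr =>
            congrArg Multiplicative.ofAdd (hR₀ r hr))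
      obtain ⟨e, he⟩ := (finrank_eq_one_iff_of_nonzero' (⟨ρ k v, hkv⟩ : Fix ρ (R : Subgroup H))
        (fun h => hv ((ρ k).map_eq_zero_iff.1 (congrArg Subtype.val h)))).1 (hall R) ⟨w, hR⟩
      have he' : e • ρ k v = w := congrArg Subtype.val he
      obtain ⟨c, hc⟩ := hline _ (hW (k⁻¹ * g * k) (by simpa using hMn.conj_mem g hgM k⁻¹) v hvW)
      refine ⟨c, ?_⟩
      have h1 : ρ g (ρ k v) = ρ k (ρ (k⁻¹ * g * k) v) := by
        rw [← LinearEquiv.mul_apply, ← LinearEquiv.mul_apply, ← map_mul, ← map_mul]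
        congr 2
        group
      rw [← he', map_smul, h1, ← hc, map_smul, smul_comm]
    obtain ⟨c₀, hc₀⟩ := heig v
    refine ⟨c₀, fun w => ?_⟩
    by_cases hwW : ∃ e : ZMod q, e • v = w
    · obtain ⟨e, rfl⟩ := hwW
      rw [map_smul, hc₀, smul_comm]
    · obtain ⟨c, hc⟩ := heig w
      obtain ⟨c', hc'⟩ := heig (v + w)
      rw [map_add, hc₀, hc, smul_add] at hc'
      have h2 : (c₀ - c') • v = (c' - c) • w := by
        rw [sub_smul, sub_smul, sub_eq_sub_iff_add_eq_add, hc']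
        abel
      have h3 : c' - c = 0 := by
        by_contra hne
        exact hwW ⟨(c' - c)⁻¹ * (c₀ - c'), by rw [mul_smul, h2, smul_smul, inv_mul_cancel₀ hne, one_smul]⟩
      rw [h3, zero_smul, smul_eq_zero, or_iff_left hv, sub_eq_zero] at h2
      rw [hc, ← sub_eq_zero.1 h3, h2]
  have hcentral : ∀ g : H, (∃ c : ZMod q, ∀ v, ρ g v = c • v) → g ∈ Subgroup.center H := by
    rintro g ⟨c, hc⟩
    refine Subgroup.mem_center_iff.2 fun k => hρ (LinearEquiv.ext fun v => ?_)
    rw [map_mul, map_mul, LinearEquiv.mul_apply, LinearEquiv.mul_apply, hc, hc, map_smul]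
  set Z := Subgroup.center H
  have hZs : ∀ g ∈ Z, ∃ c : ZMod q, ∀ v, ρ g v = c • v := fun g hgZ =>
    hscal Z inferInstance (fun x hx y _ => (Subgroup.mem_center_iff.1 hx y).symm) g hgZ
  have hnab : Z ≠ ⊤ := by
    intro e
    let R : Sylow a H := default
    obtain ⟨m, hm, hRm⟩ := exists_fix hg R
    refine sylow_ne_bot (actM_injective ρ hρ) hg hd R ((Subgroup.eq_bot_iff_forall _).2 fun x hx => ?_)
    obtain ⟨c, hc⟩ := hZs x (e ▸ Subgroup.mem_top x)
    exact eq_one_of_scalar_fix ρ hρ hc (v := Multiplicative.toAdd m)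
      (fun h => hm (Multiplicative.toAdd.injective h)) (congrArg Multiplicative.toAdd (hRm hx))
  haveI : Nontrivial (H ⧸ Z) := QuotientGroup.nontrivial_iff.2 hnab
  obtain ⟨E', hE'n, -, hE'0, hE'c, -, -⟩ :=
    CfsgLib.CoreFree.exists_abelian_minimal (G := H ⧸ Z) (N := ⊤) top_ne_bot
  haveI := hE'n
  haveI := hE'c
  set E := E'.comap (QuotientGroup.mk' Z)
  obtain ⟨u, hu, w, hw, huw⟩ : ∃ u ∈ E, ∃ w ∈ E, u * w ≠ w * u := by
    by_contra hh
    push Not at hh
    refine hE'0 ((Subgroup.eq_bot_iff_forall _).2 fun x hx => ?_)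
    obtain ⟨g, rfl⟩ := QuotientGroup.mk_surjective x
    exact (QuotientGroup.eq_one_iff g).2 (hcentral g (hscal E inferInstance hh g hx))
  -- determinants
  let det : H → (ZMod q) := fun g => LinearMap.det ((ρ g : V ≃ₗ[ZMod q] V) : V →ₗ[ZMod q] V)
  have hdetm : ∀ g k, det (g * k) = det g * det k := fun g k => by
    simp only [det, map_mul]
    exact LinearMap.det_comp _ _
  have hdet0 : ∀ g, det g ≠ 0 := fun g => (LinearEquiv.isUnit_det' (ρ g)).ne_zero
  have hcomm : ∀ s t z : H, s * t = z * (t * s) → ∀ c : ZMod q, (∀ v, ρ z v = c • v) → c * c = 1 := by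
    intro s t z h c hc
    have h1 := congrArg det h
    rw [hdetm, hdetm z, hdetm t] at h1
    have h2 : det z = c * c := by
      have : ((ρ z : V ≃ₗ[ZMod q] V) : V →ₗ[ZMod q] V) = c • LinearMap.id := LinearMap.ext hc
      simp only [det, this, LinearMap.det_smul, LinearMap.det_id, mul_one, hD]
      ring
    rw [h2, mul_comm (det t)] at h1
    exact (mul_right_eq_self₀.1 ((mul_comm _ _).trans h1.symm)).resolve_right
      (mul_ne_zero (hdet0 s) (hdet0 t))
  have hsign : ∀ s ∈ E, ∀ t ∈ E, ∃ c : ZMod q, (c = 1 ∨ c = -1) ∧ ∀ v, ρ s (ρ t v) = c • ρ t (ρ s v) := by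
    intro s hs t ht
    have hz : ⁅s, t⁆ ∈ Z := by
      rw [← QuotientGroup.eq_one_iff]
      show QuotientGroup.mk' Z ⁅s, t⁆ = 1
      rw [map_commutatorElement, commutatorElement_eq_one_iff_mul_comm]
      exact setLike_mul_comm (S := Subgroup (H ⧸ Z)) (s := E') hs ht
    obtain ⟨c, hc⟩ := hZs _ hz
    have he : s * t = ⁅s, t⁆ * (t * s) := by rw [commutatorElement_def]; group
    refine ⟨c, mul_self_eq_one_iff.1 (hcomm s t _ he c hc), fun v => ?_⟩
    rw [← LinearEquiv.mul_apply, ← LinearEquiv.mul_apply, ← map_mul, ← map_mul, he, map_mul, LinearEquiv.mul_apply,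
      hc]
  obtain ⟨cuw, hcuw, huwρ⟩ := hsign u hu w hw
  have hanti : cuw = -1 ∧ q ≠ 2 := by
    have h1 : cuw ≠ 1 := fun e => huw (hρ (LinearEquiv.ext fun v => by
      rw [map_mul, map_mul, LinearEquiv.mul_apply, LinearEquiv.mul_apply, huwρ, e, one_smul]))
    refine ⟨hcuw.resolve_left h1, fun e => ?_⟩
    subst e
    exact h1 (hcuw.elim id fun e => e.trans (ZMod.neg_eq_self_mod_two 1))
  obtain ⟨rfl, hq2⟩ := hanti
  have huw' : ∀ v, ρ w (ρ u v) = -ρ u (ρ w v) := fun v => by rw [huwρ, neg_one_smul, neg_neg]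
  -- centralising both is scalar
  have hcent : ∀ t : H, (∀ v, ρ t (ρ u v) = ρ u (ρ t v)) → (∀ v, ρ t (ρ w v) = ρ w (ρ t v)) →
      t ∈ Z := by
    intro t htu htw
    apply hcentral
    obtain ⟨v, hv⟩ : ∃ v : V, ∀ c : ZMod q, c • v ≠ ρ u v := by
      by_contra hh
      push Not at hh
      obtain ⟨v₀, hv₀⟩ := exists_ne (0 : V)
      obtain ⟨c₀, hc₀⟩ := hh v₀
      have : ∀ x, ρ u x = c₀ • x := by
        intro x
        by_cases hx : ∃ e : ZMod q, e • v₀ = x
        · obtain ⟨e, rfl⟩ := hx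
          rw [map_smul, ← hc₀, smul_comm]
        · obtain ⟨c, hc⟩ := hh x
          obtain ⟨c', hc'⟩ := hh (v₀ + x)
          rw [map_add, ← hc₀, ← hc, smul_add] at hc'
          have h2 : (c' - c₀) • v₀ = (c - c') • x := by
            rw [sub_smul, sub_smul, sub_eq_sub_iff_add_eq_add, hc']
            abel
          have h3 : c - c' = 0 := by
            by_contra hne
            exact hx ⟨(c - c')⁻¹ * (c' - c₀), by rw [mul_smul, h2, smul_smul, inv_mul_cancel₀ hne, one_smul]⟩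
          rw [h3, zero_smul, smul_eq_zero, or_iff_left hv₀, sub_eq_zero] at h2
          rw [← hc, sub_eq_zero.1 h3, h2]
      exact huw (Subgroup.mem_center_iff.1 (hcentral u ⟨c₀, this⟩) w).symm
    have hv0 : v ≠ 0 := fun e => hv 0 (by rw [e, map_zero, smul_zero])
    have hli : LinearIndependent (ZMod q) ![v, ρ u v] := by
      rw [LinearIndependent.pair_iff' hv0]
      exact hv
    have hsp : Submodule.span (ZMod q) (Set.range ![v, ρ u v]) = ⊤ :=
      hli.span_eq_top_of_card_eq_finrank (by rw [Fintype.card_fin, hD])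
    have hcomb : ∀ x : V, ∃ e f : ZMod q, e • v + f • ρ u v = x := fun x => by
      have hx : x ∈ Submodule.span (ZMod q) (Set.range ![v, ρ u v]) := hsp ▸ Submodule.mem_top
      rw [Matrix.range_cons_cons_empty, Submodule.mem_span_pair] at hx
      exact hx
    obtain ⟨x, y, hxy⟩ := hcomb (ρ t v)
    have hT : ∀ z, ρ t z = x • z + y • ρ u z := fun z => by
      obtain ⟨e, f, rfl⟩ := hcomb z
      rw [map_add, map_smul, map_smul, htu, ← hxy]
      simp only [map_add, map_smul, smul_add, smul_smul]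
      rw [mul_comm e x, mul_comm e y, mul_comm f x, mul_comm f y]
      abel
    refine ⟨x, fun z => ?_⟩
    have h1 := htw z
    rw [hT, hT, map_add, map_smul, map_smul, huw', smul_neg, add_right_inj] at h1
    have h2 : (2 * y) • ρ u (ρ w z) = 0 := by
      rw [mul_smul, two_smul]
      exact add_eq_zero_iff_eq_neg.2 h1
    rcases smul_eq_zero.1 h2 with h | h
    · have h2' : (2 : ZMod q) ≠ 0 := by
        intro e
        have : ((2 : ℕ) : ZMod q) = 0 := by exact_mod_cast e
        rw [ZMod.natCast_eq_zero_iff] at this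
        exact hq2 ((Nat.prime_dvd_prime_iff_eq hq.out Nat.prime_two).1 this)
      rw [hT, (mul_eq_zero.1 h).resolve_left h2', zero_smul, add_zero]
    · have hz : z = 0 := (ρ w).map_eq_zero_iff.1 ((ρ u).map_eq_zero_iff.1 h)
      rw [hz, map_zero, smul_zero]
  refine ⟨hq2, ?_⟩
  by_contra ha5
  push Not at ha5
  -- four cosets
  have hfour : (E' : Set (H ⧸ Z)) ⊆ {1, (QuotientGroup.mk u : H ⧸ Z)⁻¹, (QuotientGroup.mk w : H ⧸ Z)⁻¹,
      (QuotientGroup.mk (u * w) : H ⧸ Z)⁻¹} := by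
    intro x hx
    obtain ⟨t, rfl⟩ := QuotientGroup.mk_surjective x
    obtain ⟨e, he, htu⟩ := hsign t hx u hu
    obtain ⟨f, hf, htw⟩ := hsign t hx w hw
    have key : ∀ k : H, (∀ v, ρ k (ρ u v) = e • ρ u (ρ k v)) → (∀ v, ρ k (ρ w v) = f • ρ w (ρ k v)) →
        (QuotientGroup.mk t : H ⧸ Z) = (QuotientGroup.mk k : H ⧸ Z)⁻¹ := by
      intro k hku hkw
      rw [eq_inv_iff_mul_eq_one, ← QuotientGroup.mk_mul, QuotientGroup.eq_one_iff]
      have hee : e * e = 1 := mul_self_eq_one_iff.2 he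
      have hff : f * f = 1 := mul_self_eq_one_iff.2 hf
      refine hcent _ (fun v => ?_) (fun v => ?_) <;>
        simp only [map_mul, LinearEquiv.mul_apply]
      · rw [hku, map_smul, htu, smul_smul, hee, one_smul]
      · rw [hkw, map_smul, htw, smul_smul, hff, one_smul]
    rcases he with rfl | rfl <;> rcases hf with rfl | rfl
    · refine Or.inl ?_
      rw [key 1 (fun v => by simp) (fun v => by simp), QuotientGroup.mk_one, inv_one]
    · exact Or.inr (Or.inl (key u (fun v => by simp) (fun v => by rw [huwρ])))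
    · exact Or.inr (Or.inr (Or.inl (key w (fun v => by rw [huw', neg_one_smul]) (fun v => by simp))))
    · refine Or.inr (Or.inr (Or.inr (key (u * w) (fun v => ?_) (fun v => ?_))))
      · simp only [map_mul, LinearEquiv.mul_apply, huw', map_neg, neg_one_smul]
      · simp only [map_mul, LinearEquiv.mul_apply, map_neg, neg_one_smul, huw', neg_neg]
  have hcard : Nat.card E' ≤ 4 := by
    rw [← SetLike.coe_sort_coe, Nat.card_coe_set_eq]
    refine le_trans (Set.ncard_le_ncard hfour (Set.toFinite _)) ?_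
    refine le_trans (Set.ncard_insert_le _ _) (Nat.succ_le_succ ?_)
    refine le_trans (Set.ncard_insert_le _ _) (Nat.succ_le_succ ?_)
    refine le_trans (Set.ncard_insert_le _ _) (Nat.succ_le_succ ?_)
    rw [Set.ncard_singleton]
  obtain ⟨α, hα⟩ := exists_prime_orderOf_dvd_card' a hd
  obtain ⟨R, hR⟩ := (IsPGroup.of_card (p := a) (n := 1) (G := Subgroup.zpowers α)
    (by rw [Nat.card_zpowers, hα, pow_one])).exists_le_sylow
  obtain ⟨m, hm, hRm⟩ := exists_fix hg R
  have hαm : ρ α (Multiplicative.toAdd m) = Multiplicative.toAdd m :=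
    congrArg Multiplicative.toAdd (hRm (hR (Subgroup.mem_zpowers α)))
  let f : H →* MulAut E' := (MulAut.conjNormal (H := E')).comp (QuotientGroup.mk' Z)
  have hfα : f α = 1 := by
    have h1 : orderOf (f α) ∣ a := hα ▸ orderOf_map_dvd f α
    rcases (Nat.dvd_prime (Fact.out : a.Prime)).1 h1 with h | h
    · exact orderOf_eq_one_iff.1 h
    · exfalso
      have hto : Function.Injective (fun e : MulAut E' => e.toEquiv) :=
        fun e e' h => MulEquiv.ext fun x => congrArg (fun z : E' ≃ E' => z x) h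
      let toP : MulAut E' →* Equiv.Perm E' :=
        { toFun := fun e => e.toEquiv
          map_one' := rfl
          map_mul' := fun _ _ => rfl }
      have h2 : a ∣ Nat.card (Equiv.Perm E') :=
        h ▸ (orderOf_injective toP hto (f α)).symm ▸ orderOf_dvd_natCard (toP (f α))
      rw [Nat.card_perm] at h2
      have h24 := (Fact.out : a.Prime).dvd_factorial.1 h2
      omega
  have hfix : ∀ s ∈ E, α * s = s * α := by
    intro s hs
    have h0 := congrArg Subtype.val (DFunLike.congr_fun hfα (⟨QuotientGroup.mk s, hs⟩ : E'))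
    have h1 : (QuotientGroup.mk α : H ⧸ Z) * QuotientGroup.mk s * (QuotientGroup.mk α)⁻¹ = QuotientGroup.mk s := by
      simpa [f, MulAut.conjNormal_apply] using h0
    set z := α * s * α⁻¹ * s⁻¹ with hzdef
    have hz : z ∈ Z := by
      rw [← QuotientGroup.eq_one_iff, hzdef, QuotientGroup.mk_mul, QuotientGroup.mk_mul, QuotientGroup.mk_mul,
        QuotientGroup.mk_inv, QuotientGroup.mk_inv, h1, mul_inv_cancel]
    have hzc := Subgroup.mem_center_iff.1 hz
    obtain ⟨c, hc⟩ := hZs z hz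
    have he : α * s = z * (s * α) := by rw [hzdef]; group
    have hz2 : z ^ 2 = 1 := hρ (LinearEquiv.ext fun v => by
      rw [pow_two, map_mul, LinearEquiv.mul_apply, hc, hc, smul_smul, hcomm α s z he c hc, one_smul, map_one]; rfl)
    have hit : ∀ k : ℕ, α ^ k * s = z ^ k * (s * α ^ k) := by
      intro k
      induction k with
      | zero => simp
      | succ k ih =>
        rw [pow_succ, mul_assoc, he, ← mul_assoc, hzc (α ^ k), mul_assoc, ← mul_assoc (α ^ k) s, ih,
          pow_succ' z k]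
        simp [mul_assoc]
    have hza : z ^ a = 1 := by
      have := hit a
      rw [show α ^ a = 1 by rw [← hα]; exact pow_orderOf_eq_one α, one_mul, mul_one] at this
      exact mul_eq_right.1 this.symm
    have hco : Nat.Coprime 2 a := (Nat.coprime_primes Nat.prime_two (Fact.out : a.Prime)).2 (by omega)
    have hz1 : z = 1 := orderOf_eq_one_iff.1 (Nat.eq_one_of_dvd_coprimes hco (orderOf_dvd_of_pow_eq_one hz2)
      (orderOf_dvd_of_pow_eq_one hza))
    rw [he, hz1, one_mul]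
  have hαZ : α ∈ Z := hcent α
    (fun v => by rw [← LinearEquiv.mul_apply, ← LinearEquiv.mul_apply, ← map_mul, ← map_mul, hfix u hu])
    (fun v => by rw [← LinearEquiv.mul_apply, ← LinearEquiv.mul_apply, ← map_mul, ← map_mul, hfix w hw])
  obtain ⟨c, hc⟩ := hZs α hαZ
  have := eq_one_of_scalar_fix ρ hρ hc (fun h => hm (Multiplicative.toAdd.injective h)) hαm
  rw [this, orderOf_one] at hα
  exact (Fact.out : a.Prime).one_lt.ne hα

/-- An element of prime order forces a second prime to fix a large subspace. -/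
theorem fix_large {a b : ℕ} [Fact a.Prime] [Fact b.Prime] (hab : a ≠ b) (haq : a ≠ q) (hρ : Function.Injective ρ)
    (hga : Good (actM ρ) a) (hgb : Good (actM ρ) b) (hda : a ∣ Nat.card H) {db : ℕ}
    (hdb : ∀ B : Sylow b H, Module.finrank (ZMod q) (Fix ρ (B : Subgroup H)) = db)
    (hcase : ∀ e, 1 ≤ e → e < Module.finrank (ZMod q) V → a ∣ q ^ e - 1 →
      (∀ i, 1 ≤ i → i < e → ¬ a ∣ q ^ i - 1) ∧ ¬ b ∣ q ^ e - 1 ∧ db < e + 1) : False := by
  classical
  haveI : Nontrivial (Multiplicative V) := Multiplicative.toAdd.nontrivial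
  obtain ⟨α, hα⟩ := exists_prime_orderOf_dvd_card' a hda
  obtain ⟨R, hR⟩ := (IsPGroup.of_card (p := a) (n := 1) (G := Subgroup.zpowers α)
    (by rw [Nat.card_zpowers, hα, pow_one])).exists_le_sylow
  have hαR : α ∈ (R : Subgroup H) := hR (Subgroup.mem_zpowers α)
  obtain ⟨m, hm, hRm⟩ := exists_fix hga R
  set v := Multiplicative.toAdd m
  have hv : v ≠ 0 := fun h => hm (Multiplicative.toAdd.injective h)
  obtain ⟨B, hB⟩ := exists_sylow_le hgb hm
  -- the two subgroups commute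
  have hcomm : ∀ β ∈ (B : Subgroup H), α * β = β * α := by
    intro β hβ
    obtain ⟨P, hPn, -, hPp, hPi⟩ := (hga m hm).2
    obtain ⟨P', hP'n, -, hP'p, hP'i⟩ := (hgb m hm).2
    haveI := hPn
    haveI := hP'n
    have h1 : (⟨α, hRm hαR⟩ : stab (actM ρ) m) ∈ P :=
      le_of_index hPi (R.isPGroup'.comap_subtype (K := stab (actM ρ) m)) (Subgroup.mem_subgroupOf.2 hαR)
    have h2 : (⟨β, hB hβ⟩ : stab (actM ρ) m) ∈ P' :=
      le_of_index hP'i (B.isPGroup'.comap_subtype (K := stab (actM ρ) m)) (Subgroup.mem_subgroupOf.2 hβ)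
    exact congrArg Subtype.val (Subgroup.commute_of_normal_of_disjoint _ _ hPn hP'n
      (IsPGroup.disjoint_of_ne a b hab _ _ hPp hP'p) _ _ h1 h2).eq
  -- orbit counting
  have count : ∀ {p : ℕ} [Fact p.Prime] (X : Subgroup H), IsPGroup p X → ∀ W : Submodule (ZMod q) V,
      (∀ x ∈ X, ∀ z ∈ W, ρ x z ∈ W) → (∀ z ∈ W, (∀ x ∈ X, ρ x z = z) → z = 0) →
      p ∣ q ^ Module.finrank (ZMod q) W - 1 := by
    intro p _ X hX W hW hfix
    letI : MulAction X W :=
      { smul := fun x z => ⟨ρ (x : H) z, hW x x.2 z z.2⟩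
        one_smul := fun z => Subtype.ext (by change ρ 1 (z : V) = z; rw [map_one]; rfl)
        mul_smul := fun g h z => Subtype.ext (by
          change ρ ((g : H) * h) (z : V) = ρ (g : H) (ρ (h : H) z)
          rw [map_mul]; rfl) }
    have h1 := hX.card_modEq_card_fixedPoints W
    have h2 : Nat.card (MulAction.fixedPoints X W) = 1 := by
      rw [Nat.card_eq_one_iff_unique]
      refine ⟨⟨fun z z' => Subtype.ext (Subtype.ext ?_)⟩, ⟨⟨0, fun x => Subtype.ext (map_zero _)⟩⟩⟩
      rw [hfix _ z.1.2 fun x hx => congrArg Subtype.val (z.2 ⟨x, hx⟩),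
        hfix _ z'.1.2 fun x hx => congrArg Subtype.val (z'.2 ⟨x, hx⟩)]
    rw [h2, card_submodule] at h1
    exact (Nat.modEq_iff_dvd' (Nat.one_le_pow _ _ hq.out.pos)).1 h1.symm
  let T : Module.End (ZMod q) V := (ρ α).toLinearMap - 1
  set U := LinearMap.range T
  have hT : ∀ z, T z = ρ α z - z := fun z => rfl
  have hUfree : ∀ z ∈ U, ρ α z = z → z = 0 := by
    rintro _ ⟨y, rfl⟩ hz
    have hit : ∀ i : ℕ, ρ (α ^ i) y = y + (i : ZMod q) • T y := by
      intro i
      induction i with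
      | zero => rw [pow_zero, map_one, Nat.cast_zero, zero_smul, add_zero]; rfl
      | succ i ih =>
        rw [pow_succ', map_mul, LinearEquiv.mul_apply, ih, map_add, map_smul, hz, Nat.cast_succ, add_smul, one_smul,
          hT]
        abel
    have h1 := hit a
    rw [show α ^ a = 1 by rw [← hα]; exact pow_orderOf_eq_one α, map_one] at h1
    have h2 : (a : ZMod q) • T y = 0 := left_eq_add.1 h1
    refine (smul_eq_zero.1 h2).resolve_left fun e => haq ?_
    rw [ZMod.natCast_eq_zero_iff] at e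
    exact ((Nat.prime_dvd_prime_iff_eq hq.out (Fact.out : a.Prime)).1 e).symm
  have hUinv : ∀ g, g * α = α * g → ∀ z ∈ U, ρ g z ∈ U := by
    rintro g hg _ ⟨y, rfl⟩
    refine ⟨ρ g y, ?_⟩
    rw [hT, hT, map_sub, ← LinearEquiv.mul_apply, ← LinearEquiv.mul_apply, ← map_mul, ← map_mul, hg]
  have hzp : ∀ x ∈ Subgroup.zpowers α, x * α = α * x := by
    rintro _ ⟨j, rfl⟩
    exact ((Commute.refl α).zpow_left j).eq
  have hXp : IsPGroup a (Subgroup.zpowers α) := IsPGroup.of_card (n := 1) (by rw [Nat.card_zpowers, hα, pow_one])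
  set e := Module.finrank (ZMod q) U
  have hvU : v ∉ U := fun h => hv (hUfree v h (congrArg Multiplicative.toAdd (hRm hαR)))
  have he2 : e < Module.finrank (ZMod q) V :=
    Submodule.finrank_lt fun h => hvU (h ▸ Submodule.mem_top)
  have he1 : 1 ≤ e := by
    refine Submodule.one_le_finrank_iff.2 fun h => ?_
    have h1 : α = 1 := hρ (LinearEquiv.ext fun z => by
      rw [map_one]
      have h2 : T z ∈ U := ⟨z, rfl⟩
      rw [h, Submodule.mem_bot, hT, sub_eq_zero] at h2
      exact h2)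
    rw [h1, orderOf_one] at hα
    exact (Fact.out : a.Prime).one_lt.ne hα
  obtain ⟨hmin, hbe, hlt⟩ := hcase e he1 he2 (count _ hXp U (fun x hx z hz => hUinv x (hzp x hx) z hz)
    fun z hz hf => hUfree z hz (hf α (Subgroup.mem_zpowers α)))
  set K := U ⊓ Fix ρ (B : Subgroup H)
  have hKα : ∀ x ∈ Subgroup.zpowers α, ∀ z ∈ K, ρ x z ∈ K := by
    intro x hx z hz
    refine ⟨hUinv x (hzp x hx) z hz.1, fun β hβ => ?_⟩
    have h1 : β * x = x * β := by
      obtain ⟨j, rfl⟩ := hx
      exact ((show Commute α β from hcomm β hβ).zpow_left j).eq.symm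
    rw [← LinearEquiv.mul_apply, ← map_mul, h1, map_mul, LinearEquiv.mul_apply, hz.2 β hβ]
  have hK : K = U := by
    by_contra hne
    by_cases h0 : K = ⊥
    · refine hbe (count _ B.isPGroup' U (fun x hx z hz => hUinv x (hcomm x hx).symm z hz) fun z hz hf => ?_)
      have h2 : z ∈ K := ⟨hz, hf⟩
      rwa [h0, Submodule.mem_bot] at h2
    · exact hmin _ (Submodule.one_le_finrank_iff.2 h0) (Submodule.finrank_lt_finrank_of_lt
        (lt_of_le_of_ne inf_le_left hne)) (count _ hXp K hKα fun z hz hf =>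
          hUfree z hz.1 (hf α (Subgroup.mem_zpowers α)))
  have hlt' : U < Fix ρ (B : Subgroup H) :=
    lt_of_le_of_ne (inf_eq_left.1 hK) fun h => hvU (h.symm ▸ fix_of_stab ρ hB)
  have := Submodule.finrank_lt_finrank_of_lt hlt'
  rw [hdb] at this
  omega

theorem prime_of_dvd {a n : ℕ} (ha : a.Prime) (h : a ∣ n) (hn : 0 < n) : a ≤ n ∧ 2 ≤ a :=
  ⟨Nat.le_of_dvd hn h, ha.two_le⟩

/-- Sixty-four points. -/
theorem small26 {a b : ℕ} [Fact a.Prime] [Fact b.Prime] (hab : a ≠ b) (haq : a ≠ q) (hρ : Function.Injective ρ)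
    (hga : Good (actM ρ) a) (hgb : Good (actM ρ) b) (hda : a ∣ Nat.card H) (hdb : b ∣ Nat.card H) (hq2 : q = 2)
    (hD : Module.finrank (ZMod q) V = 6) : False := by
  obtain ⟨d, hd1, hd2, hd3, hd4, -, hna, -⟩ := dims ρ hρ hga hda
  obtain ⟨db, hb1, hb2, hb3, hb4, hball, hnb, -⟩ := dims ρ hρ hgb hdb
  subst hq2
  rw [hD] at hd2 hd3 hd4 hb2 hb3 hb4
  have h3a : a ≠ 3 := by
    rintro rfl
    interval_cases d <;> omega
  have h3b : b ≠ 3 := by
    rintro rfl
    interval_cases db <;> omega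
  refine fix_large ρ hab haq hρ hga hgb hda hball ?_
  rw [hD]
  intro e he1 he2 he3
  have ha := (Fact.out : a.Prime)
  have hb := (Fact.out : b.Prime)
  have hdb3 : db ≤ 3 := by interval_cases db <;> omega
  interval_cases e
  · exact absurd (Nat.dvd_one.1 he3) ha.one_lt.ne'
  · exact absurd ((Nat.prime_dvd_prime_iff_eq ha Nat.prime_three).1 he3) h3a
  · obtain rfl : a = 7 := (Nat.prime_dvd_prime_iff_eq ha (by norm_num)).1 he3
    refine ⟨fun i hi1 hi2 => by interval_cases i <;> decide, fun hb7 => hab ?_, by omega⟩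
    exact ((Nat.prime_dvd_prime_iff_eq hb (by norm_num)).1 hb7).symm
  · have h35 : a = 5 := by
      rcases (Nat.Prime.dvd_mul ha).1 (show a ∣ 3 * 5 from he3) with h | h
      · exact absurd ((Nat.prime_dvd_prime_iff_eq ha Nat.prime_three).1 h) h3a
      · exact (Nat.prime_dvd_prime_iff_eq ha (by norm_num)).1 h
    subst h35
    refine ⟨fun i hi1 hi2 => by interval_cases i <;> decide, fun hb15 => ?_, by omega⟩
    rcases (Nat.Prime.dvd_mul hb).1 (show b ∣ 3 * 5 from hb15) with h | h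
    · exact h3b ((Nat.prime_dvd_prime_iff_eq hb Nat.prime_three).1 h)
    · exact hab ((Nat.prime_dvd_prime_iff_eq hb (by norm_num)).1 h).symm
  · obtain rfl : a = 31 := (Nat.prime_dvd_prime_iff_eq ha (by norm_num)).1 he3
    refine ⟨fun i hi1 hi2 => by interval_cases i <;> decide, fun hb31 => hab ?_, by omega⟩
    exact ((Nat.prime_dvd_prime_iff_eq hb (by norm_num)).1 hb31).symm

/-- Eighty-one points. -/
theorem small34 {a b : ℕ} [Fact a.Prime] [Fact b.Prime] (hab : a ≠ b) (haq : a ≠ q) (hρ : Function.Injective ρ)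
    (hga : Good (actM ρ) a) (hgb : Good (actM ρ) b) (hda : a ∣ Nat.card H) (hdb : b ∣ Nat.card H) (hq3 : q = 3)
    (hD : Module.finrank (ZMod q) V = 4) : False := by
  obtain ⟨d, hd1, hd2, hd3, hd4, -, hna, -⟩ := dims ρ hρ hga hda
  obtain ⟨db, hb1, hb2, hb3, hb4, hball, hnb, -⟩ := dims ρ hρ hgb hdb
  subst hq3
  rw [hD] at hd2 hd3 hd4 hb2 hb3 hb4
  have h2a : a ≠ 2 := by
    rintro rfl
    interval_cases d <;> omega
  have h2b : b ≠ 2 := by
    rintro rfl
    interval_cases db <;> omega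
  refine fix_large ρ hab haq hρ hga hgb hda hball ?_
  rw [hD]
  intro e he1 he2 he3
  have ha := (Fact.out : a.Prime)
  have hb := (Fact.out : b.Prime)
  have hdb2 : db ≤ 2 := by interval_cases db <;> omega
  interval_cases e
  · exact absurd ((Nat.prime_dvd_prime_iff_eq ha Nat.prime_two).1 he3) h2a
  · exact absurd ((Nat.prime_dvd_prime_iff_eq ha Nat.prime_two).1
      (ha.dvd_of_dvd_pow (show a ∣ 2 ^ 3 from he3))) h2a
  · obtain rfl : a = 13 := by
      rcases (Nat.Prime.dvd_mul ha).1 (show a ∣ 2 * 13 from he3) with h | h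
      · exact absurd ((Nat.prime_dvd_prime_iff_eq ha Nat.prime_two).1 h) h2a
      · exact (Nat.prime_dvd_prime_iff_eq ha (by norm_num)).1 h
    refine ⟨fun i hi1 hi2 => by interval_cases i <;> decide, fun hb26 => ?_, by omega⟩
    rcases (Nat.Prime.dvd_mul hb).1 (show b ∣ 2 * 13 from hb26) with h | h
    · exact h2b ((Nat.prime_dvd_prime_iff_eq hb Nat.prime_two).1 h)
    · exact hab ((Nat.prime_dvd_prime_iff_eq hb (by norm_num)).1 h).symm

/-- A primitive prime is larger than the exponent. -/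
theorem lt_of_prim {r D : ℕ} (hr : r.Prime) (hrq : r ≠ q) (hD : 1 ≤ D) (hd : r ∣ q ^ D - 1)
    (hp : ∀ i, 1 ≤ i → i < D → ¬ r ∣ q ^ i - 1) : D < r := by
  haveI := Fact.mk hr
  have hq0 : ((q : ℕ) : ZMod r) ≠ 0 := by
    rw [Ne, ZMod.natCast_eq_zero_iff]
    exact fun h => hrq ((Nat.prime_dvd_prime_iff_eq hr hq.out).1 h)
  have key : ∀ i, r ∣ q ^ i - 1 ↔ ((q : ℕ) : ZMod r) ^ i = 1 := by
    intro i
    rw [← ZMod.natCast_eq_zero_iff, Nat.cast_sub (Nat.one_le_pow i q hq.out.pos), Nat.cast_pow, Nat.cast_one,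
      sub_eq_zero]
  have h1 : orderOf ((q : ℕ) : ZMod r) ∣ D := orderOf_dvd_of_pow_eq_one ((key D).1 hd)
  have hpos : 1 ≤ orderOf ((q : ℕ) : ZMod r) := Nat.pos_of_dvd_of_pos h1 (by omega)
  have h2 : orderOf ((q : ℕ) : ZMod r) = D := by
    by_contra hne
    exact hp _ hpos (lt_of_le_of_ne (Nat.le_of_dvd (by omega) h1) hne) ((key _).2 (pow_orderOf_eq_one _))
  have h3 := Nat.le_of_dvd (by have := hr.two_le; omega) (h2 ▸ ZMod.orderOf_dvd_card_sub_one hq0)
  have := hr.two_le
  omega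

/-- Two primes with a spread. -/
theorem deg_linear [Group.IsSolvable H] {a b : ℕ} [Fact a.Prime] [Fact b.Prime] (hab : a ≠ b)
    (hρ : Function.Injective ρ) (hirr : ∀ W : Submodule (ZMod q) V, (∀ h : H, ∀ w ∈ W, ρ h w ∈ W) → W = ⊥ ∨ W = ⊤)
    (hga : Good (actM ρ) a) (hgb : Good (actM ρ) b) (hda : a ∣ Nat.card H) (hdb : b ∣ Nat.card H) :
    Deg (a * b) H := by
  by_cases hsemi : Semi ρ
  · exact deg_of_semi ρ hab hρ hga hgb hda hdb hsemi
  exfalso
  have hap := (Fact.out : a.Prime)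
  have hbp := (Fact.out : b.Prime)
  obtain ⟨d, hd1, hd2, hd3, hd4, -, hna, hnH⟩ := dims ρ hρ hga hda
  set D := Module.finrank (ZMod q) V with hDdef
  by_cases hD2 : D = 2
  · obtain ⟨hq2, ha5⟩ := two_dim ρ hρ hD2 hsemi hga hda
    obtain ⟨-, hb5⟩ := two_dim ρ hρ hD2 hsemi hgb hdb
    obtain ⟨db, hb1, hb2, -, hb4, -, hnb, -⟩ := dims ρ hρ hgb hdb
    rw [← hDdef, hD2] at hb2 hb4
    rw [hD2] at hd2 hd4
    obtain rfl : db = 1 := by omega
    obtain rfl : d = 1 := by omega
    have hq3 : 3 ≤ q := by have := hq.out.two_le; omega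
    have hodd : Odd q := hq.out.odd_of_ne_two hq2
    have hn : ∀ n : ℕ, n * (q ^ 1 - 1) = q ^ 2 - 1 → 2 ∣ n := by
      intro n hn
      have h1 : (q + 1) * (q - 1) = q ^ 2 - 1 := by
        rw [← Nat.sq_sub_sq, one_pow]
      rw [pow_one, ← h1] at hn
      rw [Nat.eq_of_mul_eq_mul_right (by omega) hn]
      obtain ⟨k, hk⟩ := hodd
      omega
    have hA2 : a ≠ 2 := fun e => by subst e; exact hna (hn _ hd4)
    have hB2 : b ≠ 2 := fun e => by subst e; exact hnb (hn _ hb4)
    have ha2 := hap.two_le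
    have hb2 := hbp.two_le
    have : ∀ p : ℕ, p.Prime → p < 5 → 2 ≤ p → p ≠ 2 → p = 3 := by
      intro p hp h5 h2 hne
      interval_cases p <;> first | omega | norm_num at hp
    exact hab ((this a hap ha5 ha2 hA2).trans (this b hbp hb5 hb2 hB2).symm)
  by_cases h26 : q = 2 ∧ D = 6
  · by_cases haq : a = q
    · exact small26 ρ hab.symm (fun e => hab (haq.trans e.symm)) hρ hgb hga hdb hda h26.1 h26.2
    · exact small26 ρ hab haq hρ hga hgb hda hdb h26.1 h26.2
  by_cases h34 : q = 3 ∧ D = 4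
  · by_cases haq : a = q
    · exact small34 ρ hab.symm (fun e => hab (haq.trans e.symm)) hρ hgb hga hdb hda h34.1 h34.2
    · exact small34 ρ hab haq hρ hga hgb hda hdb h34.1 h34.2
  obtain ⟨r, hr, hrD, hprim⟩ :=
    Cfsg.Agent.S2904.result q D hq.out.one_lt (by omega) h26 (fun h => hD2 h.1)
  have hmain : ∀ l : ℕ, l.Prime → l ∣ q ^ D - 1 → (∀ i, 1 ≤ i → i < D → ¬ l ∣ q ^ i - 1) →
      l = D + 1 ∧ q ≠ 2 ∧ ¬ l ^ 2 ∣ Nat.card H ∧ ∃ m, D = 2 ^ m := by
    intro l hl hlD hlp
    haveI := Fact.mk hl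
    have hlq : l ≠ q := by
      rintro rfl
      have h1 : l ∣ l ^ D := dvd_pow_self l (by omega)
      have h2 : 1 ≤ l ^ D := Nat.one_le_pow _ _ hl.pos
      have h3 := Nat.dvd_sub h1 hlD
      rw [Nat.sub_sub_self h2, Nat.dvd_one] at h3
      exact hl.one_lt.ne' h3
    refine special ρ hρ hirr (lt_of_prim hl hlq (by omega) hlD hlp) hlq ?_ hlp hsemi
    refine Dvd.dvd.trans ?_ hnH
    rw [← hd4] at hlD
    exact (hl.dvd_mul.1 hlD).resolve_right (hlp d hd1 hd2)
  obtain ⟨h1, hq2, hr2, m, hm⟩ := hmain r hr hrD fun i hi => hprim i (by omega)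
  obtain ⟨k, rfl⟩ : ∃ k, m = k + 2 := ⟨m - 2, by
    rcases m with _ | _ | m
    · simp at hm; omega
    · simp at hm; omega
    · omega⟩
  have hq3 : 3 ≤ q := by have := hq.out.two_le; omega
  set h := 2 ^ (k + 1) with hh
  have hDh : D = 2 * h := by rw [hm, hh]; ring
  have hh2 : 2 ≤ h := by rw [hh]; exact Nat.le_self_pow (by omega) 2
  have hodd : Odd q := hq.out.odd_of_ne_two hq2
  have hqh : q ^ h % 4 = 1 := by
    obtain ⟨j, hj⟩ := hodd
    rw [hh, pow_succ', pow_mul, Nat.pow_mod]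
    have : q ^ 2 % 4 = 1 := by
      rw [hj, show (2 * j + 1) ^ 2 = 4 * (j * j + j) + 1 by ring]
      omega
    rw [this, one_pow]
    all_goals norm_num
  obtain ⟨M, hM⟩ : ∃ M, q ^ h + 1 = 2 * M := ⟨(q ^ h + 1) / 2, by omega⟩
  have hMfac : q ^ D - 1 = (q ^ h - 1) * (2 * M) := by
    rw [← hM, mul_comm (q ^ h - 1), ← Nat.sq_sub_sq, one_pow, hDh, mul_comm, pow_mul]
  have hMD : M ∣ q ^ D - 1 := hMfac ▸ Dvd.dvd.mul_left (dvd_mul_left M 2) _
  have hgcd : ∀ i, i < D → ∀ l : ℕ, l ∣ q ^ D - 1 → l ∣ q ^ i - 1 → 0 < i → l ∣ q ^ h - 1 := by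
    intro i hi l hlD hli hi0
    have h2 : l ∣ q ^ Nat.gcd i D - 1 := Nat.pow_sub_one_gcd_pow_sub_one q i D ▸ Nat.dvd_gcd hli hlD
    obtain ⟨j, hj, hje⟩ := (Nat.dvd_prime_pow Nat.prime_two).1 ((Nat.gcd_dvd_right i D).trans hm.dvd)
    have hj2 : j ≤ k + 1 := by
      by_contra hc
      have : j = k + 2 := by omega
      have h5 : Nat.gcd i D ≤ i := Nat.gcd_le_left D hi0
      rw [hje, this, ← hm] at h5
      omega
    refine h2.trans (Nat.pow_sub_one_dvd_pow_sub_one q ?_)
    rw [hje, hh]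
    exact pow_dvd_pow 2 hj2
  have hnot : ∀ l : ℕ, l.Prime → l ∣ M → ¬ l ∣ q ^ h - 1 := by
    intro l hl hlM hlh
    have h2 : l ∣ 2 := by
      have e : 2 * M - (q ^ h - 1) = 2 := by omega
      exact e ▸ Nat.dvd_sub (Dvd.dvd.mul_left hlM 2) hlh
    rw [(Nat.prime_dvd_prime_iff_eq hl Nat.prime_two).1 h2] at hlM
    omega
  have hall : ∀ l : ℕ, l.Prime → l ∣ M → l = r := by
    intro l hl hlM
    rw [h1]
    exact (hmain l hl (hlM.trans hMD) fun i hi1 hi2 hli =>
      hnot l hl hlM (hgcd i hi2 l (hlM.trans hMD) hli hi1)).1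
  have hM0 : M ≠ 0 := by omega
  have hMH : M ∣ Nat.card H := by
    refine Dvd.dvd.trans ?_ hnH
    refine (Nat.Coprime.dvd_mul_right (k := M) ?_).1 (hd4 ▸ hMD)
    refine Nat.coprime_of_dvd fun l hl hlM hld => hnot l hl hlM ?_
    exact hgcd d hd2 l (hlM.trans hMD) hld (by omega)
  have hMr : M ≤ r := by
    rw [Nat.eq_prime_pow_of_unique_prime_dvd hM0 fun {l} hl hlM => hall l hl hlM] at hMH ⊢
    rcases Nat.lt_or_ge M.primeFactorsList.length 2 with hlt | hge
    · calc r ^ M.primeFactorsList.length ≤ r ^ 1 := Nat.pow_le_pow_right hr.pos (by omega)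
        _ = r := pow_one r
    · exact absurd ((pow_dvd_pow r hge).trans hMH) hr2
  have hbig : ∀ j : ℕ, 3 ≤ j → 4 * j + 1 < 3 ^ j := by
    intro j hj
    induction j, hj using Nat.le_induction with
    | base => norm_num
    | succ j hj ih => rw [pow_succ]; omega
  have hq3h : 3 ^ h ≤ q ^ h := Nat.pow_le_pow_left hq3 h
  rcases Nat.lt_or_ge h 3 with hlt | hge
  · have h2 : h = 2 := by omega
    rw [h2] at hM hDh
    exact h34 ⟨by nlinarith, hDh⟩
  · have := hbig h hge
    omega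

end CfsgLib.Palfy
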