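import Cfsg.Agent.Lib.Palfy.Spread
import Cfsg.Agent.Lib.TransitiveLinear.Pivot
import Cfsg.Agent.Lib.Chev.Aut.FieldCyclic
import Cfsg.Agent.Lib.Solvable.CoreFree
import Cfsg.Agent.Lib.MinSimpleOdd.FittingStructure
import Cfsg.Agent.S2904

/-!
Pálfy's three prime theorem, part 3: an irreducible solvable linear group in which every stabiliser contains, for
two primes, a Sylow subgroup as a normal abelian subgroup has a degree divisible by both primes.
-/

set_option autoImplicit false
set_option linter.unusedSectionVars false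
set_option linter.style.haveILetI false
set_option maxHeartbeats 1000000

namespace CfsgLib.Palfy

open Cfsg CfsgLib
open scoped commutatorElement
open CfsgLib.RegularLinear (Semi)

universe u

variable {q : ℕ} [hq : Fact q.Prime] {V : Type u} [AddCommGroup V] [Module (ZMod q) V] [Finite V] [Nontrivial V]
  {H : Type u} [Group H] [Finite H] (ρ : H →* (V ≃ₗ[ZMod q] V))

/-- The linear action written multiplicatively. -/
def actM : H →* MulAut (Multiplicative V) where
  toFun h := AddEquiv.toMultiplicative (ρ h).toAddEquiv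
  map_one' := by ext m; simp
  map_mul' x y := by ext m; simp [map_mul, LinearEquiv.mul_apply]

theorem actM_apply (h : H) (v : V) : actM ρ h (Multiplicative.ofAdd v) = Multiplicative.ofAdd (ρ h v) := rfl

/-- The fixed space of a subgroup. -/
def Fix (R : Subgroup H) : Submodule (ZMod q) V where
  carrier := {v | ∀ r ∈ R, ρ r v = v}
  zero_mem' := fun r _ => map_zero _
  add_mem' := fun {x y} hx hy r hr => by rw [map_add, hx r hr, hy r hr]
  smul_mem' := fun c x hx r hr => by rw [map_smul, hx r hr]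

theorem mem_Fix {R : Subgroup H} {v : V} : v ∈ Fix ρ R ↔ ∀ r ∈ R, ρ r v = v := Iff.rfl

theorem card_submodule (W : Submodule (ZMod q) V) : Nat.card W = q ^ Module.finrank (ZMod q) W := by
  rw [Module.natCard_eq_pow_finrank (K := ZMod q), Nat.card_zmod]

theorem card_fixC (R : Subgroup H) :
    Nat.card (fixC (actM ρ) R) = q ^ Module.finrank (ZMod q) (Fix ρ R) := by
  rw [← card_submodule]
  exact Nat.card_congr ((Equiv.subtypeEquiv Multiplicative.toAdd fun m => Iff.rfl))

variable (hρ : Function.Injective ρ)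
  (hirr : ∀ W : Submodule (ZMod q) V, (∀ h : H, ∀ w ∈ W, ρ h w ∈ W) → W = ⊥ ∨ W = ⊤)

theorem actM_injective (hρ : Function.Injective ρ) : Function.Injective (actM ρ) := fun x y h =>
  hρ (LinearEquiv.ext fun v => congrArg Multiplicative.toAdd (DFunLike.congr_fun h (Multiplicative.ofAdd v)))

/-- The numbers of the partition. -/
theorem dims {a : ℕ} [Fact a.Prime] (hρ : Function.Injective ρ) (hg : Good (actM ρ) a) (hd : a ∣ Nat.card H) :
    ∃ d, 1 ≤ d ∧ d < Module.finrank (ZMod q) V ∧ d ∣ Module.finrank (ZMod q) V ∧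
      Nat.card (Sylow a H) * (q ^ d - 1) = q ^ Module.finrank (ZMod q) V - 1 ∧
      (∀ R : Sylow a H, Module.finrank (ZMod q) (Fix ρ (R : Subgroup H)) = d) ∧
      ¬ a ∣ Nat.card (Sylow a H) ∧ Nat.card (Sylow a H) ∣ Nat.card H := by
  haveI : Nontrivial (Multiplicative V) := Multiplicative.toAdd.nontrivial
  have hinj := actM_injective ρ hρ
  let R₀ : Sylow a H := default
  set D := Module.finrank (ZMod q) V
  set d := Module.finrank (ZMod q) (Fix ρ (R₀ : Subgroup H))
  have hq1 := hq.out.one_lt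
  have hV : Nat.card (Multiplicative V) = q ^ D := by
    rw [Nat.card_congr Multiplicative.toAdd, Module.natCard_eq_pow_finrank (K := ZMod q) (V := V), Nat.card_zmod]
  have heq : Nat.card (Sylow a H) * (q ^ d - 1) = q ^ D - 1 := by
    have := card_spread hg R₀
    rwa [card_fixC, hV] at this
  have hall : ∀ R : Sylow a H, Module.finrank (ZMod q) (Fix ρ (R : Subgroup H)) = d := fun R =>
    Nat.pow_right_injective hq.out.two_le (by
      show q ^ _ = q ^ _
      rw [← card_fixC, ← card_fixC, card_fixC_eq R R₀])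
  have hd1 : 1 ≤ d := by
    by_contra h0
    have h0' : d = 0 := by omega
    rw [h0', pow_zero, Nat.sub_self, mul_zero] at heq
    have : q ≤ q ^ D := Nat.le_self_pow (Nat.pos_iff_ne_zero.1 Module.finrank_pos) q
    omega
  have hdD : d < D := by
    refine Submodule.finrank_lt fun e => fixC_ne_top hinj hg hd R₀ (eq_top_iff.2 fun m _ r hr => ?_)
    exact congrArg Multiplicative.ofAdd
      ((e ▸ Submodule.mem_top : Multiplicative.toAdd m ∈ Fix ρ (R₀ : Subgroup H)) r hr)
  have hn : ¬ a ∣ Nat.card (Sylow a H) := fun h => by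
    have h1 := (card_sylow_modEq_one a H).symm.trans (Nat.modEq_zero_iff_dvd.2 h)
    exact (Fact.out : a.Prime).one_lt.ne' (Nat.dvd_one.1 (Nat.modEq_zero_iff_dvd.1 h1))
  refine ⟨d, hd1, hdD, ?_, heq, hall, hn, Sylow.card_dvd_index R₀ |>.trans
    (Subgroup.index_dvd_card _)⟩
  have h2 := Nat.pow_sub_one_gcd_pow_sub_one q d D
  rw [Nat.gcd_eq_left (Dvd.intro_left _ heq)] at h2
  have h3 : q ^ d = q ^ Nat.gcd d D := by
    have := Nat.one_le_pow d q hq.out.pos
    have := Nat.one_le_pow (Nat.gcd d D) q hq.out.pos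
    omega
  exact (Nat.pow_right_injective hq.out.two_le h3) ▸ Nat.gcd_dvd_right d D

/-- A semilinear group has a degree divisible by both primes. -/
theorem deg_of_semi {a b : ℕ} [Fact a.Prime] [Fact b.Prime] (hab : a ≠ b) (hρ : Function.Injective ρ)
    (hga : Good (actM ρ) a) (hgb : Good (actM ρ) b) (hda : a ∣ Nat.card H) (hdb : b ∣ Nat.card H)
    (hS : Semi ρ) : Deg (a * b) H := by
  obtain ⟨F, _, _, e, he⟩ := hS
  haveI : Nontrivial (Multiplicative V) := Multiplicative.toAdd.nontrivial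
  let C : Subgroup H :=
    { carrier := {g | ∃ c : F, ∀ v, e (ρ g v) = c * e v}
      one_mem' := ⟨1, fun v => by rw [map_one, one_mul]; rfl⟩
      mul_mem' := by
        rintro x y ⟨c, hc⟩ ⟨d, hd⟩
        exact ⟨c * d, fun v => by rw [map_mul, LinearEquiv.mul_apply, hc, hd, mul_assoc]⟩
      inv_mem' := by
        rintro x ⟨c, hc⟩
        refine ⟨c⁻¹, fun v => ?_⟩
        have h1 := hc (ρ x⁻¹ v)
        rw [← LinearEquiv.mul_apply, ← map_mul, mul_inv_cancel, map_one] at h1
        have h1' : e v = c * e (ρ x⁻¹ v) := h1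
        by_cases h0 : c = 0
        · rw [h0, zero_mul, ← map_zero e] at h1'
          rw [e.injective h1', map_zero, map_zero, mul_zero]
        · rw [h1', ← mul_assoc, inv_mul_cancel₀ h0, one_mul] }
  haveI hCn : C.Normal := ⟨by
    rintro x ⟨c, hc⟩ g
    obtain ⟨a', σ, hσ⟩ := he g
    refine ⟨σ c, fun v => ?_⟩
    have hgg : ρ g (ρ g⁻¹ v) = v := by
      rw [← LinearEquiv.mul_apply, ← map_mul, mul_inv_cancel, map_one]; rfl
    rw [map_mul, map_mul, LinearEquiv.mul_apply, LinearEquiv.mul_apply, hσ, hc, map_mul]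
    conv_rhs => rw [← hgg, hσ]
    ring⟩
  have hCc : ∀ x ∈ C, ∀ y ∈ C, x * y = y * x := by
    rintro x ⟨c, hc⟩ y ⟨d, hd⟩
    refine hρ (LinearEquiv.ext fun v => e.injective ?_)
    rw [map_mul, map_mul, LinearEquiv.mul_apply, LinearEquiv.mul_apply, hc, hd, hd, hc]
    ring
  have hfree : ∀ c ∈ C, ∀ m : Multiplicative V, m ≠ 1 → actM ρ c m = m → c = 1 := by
    rintro x ⟨c, hc⟩ m hm hfix
    have h1 : ρ x (Multiplicative.toAdd m) = Multiplicative.toAdd m := congrArg Multiplicative.toAdd hfix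
    have h2 := hc (Multiplicative.toAdd m)
    rw [h1] at h2
    have hne : e (Multiplicative.toAdd m) ≠ 0 := fun h => hm (by
      have := e.injective (h.trans (map_zero e).symm)
      exact Multiplicative.toAdd.injective this)
    have hc1 : c = 1 := mul_right_cancel₀ hne (by rw [← h2, one_mul])
    refine hρ (LinearEquiv.ext fun v => e.injective ?_)
    rw [hc, hc1, one_mul, map_one]
    rfl
  have hK : commutator H ≤ C := by
    rw [commutator_def, Subgroup.commutator_le]
    intro g _ k _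
    obtain ⟨α, σ, hσ⟩ := he g
    obtain ⟨β, τ, hτ⟩ := he k
    have hcomm : ∀ z, σ (τ z) = τ (σ z) := fun z => by
      haveI := CfsgLib.Chev.ringAut_cyclic_finite F
      letI := IsCyclic.commGroup (α := RingAut F)
      exact DFunLike.congr_fun (mul_comm (σ : RingAut F) τ) z
    refine ⟨α * σ β / (β * τ α), fun v => ?_⟩
    have h2 : ρ ⁅g, k⁆ v = ρ g (ρ k (ρ (k * g)⁻¹ v)) := by
      rw [← LinearEquiv.mul_apply, ← LinearEquiv.mul_apply, ← map_mul, ← map_mul]
      congr 1
      rw [commutatorElement_def]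
      group
    have h3 : v = ρ k (ρ g (ρ (k * g)⁻¹ v)) := by
      rw [← LinearEquiv.mul_apply (ρ k), ← map_mul, ← LinearEquiv.mul_apply, ← map_mul, mul_inv_cancel, map_one]
      rfl
    set w := ρ (k * g)⁻¹ v
    have hne : ∀ (x : H) (c : F) (π : F ≃+* F), (∀ u, e (ρ x u) = c * π (e u)) → c ≠ 0 := fun x c π h h0 => by
      obtain ⟨u, hu⟩ := exists_ne (0 : V)
      refine hu ((ρ x).injective (e.injective ?_))
      rw [h, h0, zero_mul, map_zero, map_zero]
    rw [h2, hσ, hτ, h3, hτ, hσ, map_mul, map_mul, hcomm]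
    have hα := hne g α σ hσ
    have hβ := hne k β τ hτ
    have hτα : τ α ≠ 0 := fun h => hα (τ.injective (h.trans (map_zero τ).symm))
    field_simp
  exact deg_of_semiregular hab (actM_injective ρ hρ) hga hgb hda hdb C hCc hfree hK

include hρ hirr

/-- An abelian normal subgroup with an element of primitive prime order gives a semilinear group. -/
theorem semi_of_large {r : ℕ} [Fact r.Prime] (hrq : r ≠ q)
    (hprim : ∀ i, 1 ≤ i → i < Module.finrank (ZMod q) V → ¬ r ∣ q ^ i - 1) (A : Subgroup H) [A.Normal]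
    (hA : ∀ a ∈ A, ∀ b ∈ A, a * b = b * a) {x : H} (hx : orderOf x = r) (hxA : x ∈ A) : Semi ρ :=
  RegularLinear.semi_of_irreducible ρ A hA fun W hW =>
    TransitiveLinear.irreducible_of_primitive hρ hx hrq hprim W fun w hw => hW x hxA w hw

/-- The core for the characteristic is trivial. -/
theorem pCore_bot : Cfsg.pCore q H = ⊥ := by
  classical
  set P := Cfsg.pCore q H
  letI : MulAction P V :=
    { smul := fun h v => ρ (h : H) v
      one_smul := fun v => by change ρ 1 v = v; rw [map_one]; rfl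
      mul_smul := fun g h v => by
        change ρ ((g : H) * h) v = ρ (g : H) (ρ (h : H) v)
        rw [map_mul]; rfl }
  have hP : IsPGroup q P := CfsgLib.isPGroup_pCore q
  have hdvd : q ∣ Nat.card V := by
    rw [Module.natCard_eq_pow_finrank (K := ZMod q) (V := V), Nat.card_zmod]
    exact dvd_pow_self q (Nat.pos_iff_ne_zero.1 Module.finrank_pos)
  obtain ⟨v, hv, hne⟩ := hP.exists_fixed_point_of_prime_dvd_card_of_fixed_point V hdvd
    (a := (0 : V)) (fun h => map_zero _)
  have hinv : ∀ h : H, ∀ w ∈ Fix ρ P, ρ h w ∈ Fix ρ P := fun h w hw r hr => by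
    have h1 : ρ (h⁻¹ * r * h) w = w := hw _ (by
      simpa using (inferInstance : P.Normal).conj_mem r hr h⁻¹)
    have h2 := congrArg (ρ h) h1
    rwa [← LinearEquiv.mul_apply, ← map_mul, mul_assoc, mul_inv_cancel_left, map_mul, LinearEquiv.mul_apply] at h2
  rcases hirr (Fix ρ P) hinv with h | h
  · have hv' : v ∈ Fix ρ P := fun r hr => hv ⟨r, hr⟩
    rw [h, Submodule.mem_bot] at hv'
    exact absurd hv' hne.symm
  · refine (Subgroup.eq_bot_iff_forall _).2 fun r hr => hρ (LinearEquiv.ext fun w => ?_)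
    rw [map_one]
    exact (h ▸ Submodule.mem_top : w ∈ Fix ρ P) r hr

/-- Outside the semilinear case a primitive prime is `n + 1`, and divides the order only once. -/
theorem special [Group.IsSolvable H] {r : ℕ} [hr : Fact r.Prime] (hnr : Module.finrank (ZMod q) V < r)
    (hrq : r ≠ q) (hrG : r ∣ Nat.card H)
    (hprim : ∀ i, 1 ≤ i → i < Module.finrank (ZMod q) V → ¬ r ∣ q ^ i - 1) (hsemi : ¬ Semi ρ) :
    r = Module.finrank (ZMod q) V + 1 ∧ q ≠ 2 ∧ ¬ r ^ 2 ∣ Nat.card H ∧
      ∃ m : ℕ, Module.finrank (ZMod q) V = 2 ^ m := by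
  classical
  have hirr' : ∀ x : H, orderOf x = r → ∀ W : Submodule (ZMod q) V, (∀ w ∈ W, ρ x w ∈ W) → W = ⊥ ∨ W = ⊤ :=
    fun x hx W hW => TransitiveLinear.irreducible_of_primitive hρ hx hrq hprim W hW
  have hcore : Cfsg.pCore r H = ⊥ := by
    by_contra hne
    haveI : Nontrivial (Cfsg.pCore r H) := (Subgroup.nontrivial_iff_ne_bot _).mpr hne
    haveI := (CfsgLib.isPGroup_pCore r (G := H)).center_nontrivial
    have hp := ((CfsgLib.isPGroup_pCore r (G := H)).to_subgroup (Subgroup.center (Cfsg.pCore r H)))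
    obtain ⟨j, hj⟩ := hp.exists_card_eq
    have hj0 : j ≠ 0 := fun e => by
      have := Finite.one_lt_card (α := Subgroup.center (Cfsg.pCore r H))
      rw [hj, e, pow_zero] at this
      omega
    obtain ⟨x, hx⟩ := exists_prime_orderOf_dvd_card' (G := Subgroup.center (Cfsg.pCore r H)) r
      (hj ▸ dvd_pow_self r hj0)
    refine hsemi (semi_of_large ρ hρ hirr hrq hprim
      ((Subgroup.center (Cfsg.pCore r H)).map (Cfsg.pCore r H).subtype) ?_ (x := ((x : Cfsg.pCore r H) : H))
      (by rw [Subgroup.orderOf_coe, Subgroup.orderOf_coe, hx]) ⟨_, x.2, rfl⟩)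
    rintro _ ⟨a, ha, rfl⟩ _ ⟨b, hb, rfl⟩
    exact congrArg Subtype.val (Subgroup.mem_center_iff.mp hb a)
  have hmove : ∀ x : H, orderOf x = r → ∃ s : Nat.Primes, (s : ℕ) ≠ r ∧ (s : ℕ) ≠ q ∧
      ¬ ∀ b ∈ Cfsg.pCore (s : ℕ) H, x * b = b * x := by
    intro x hx
    by_contra hall
    push Not at hall
    let F := Cfsg.fittingSubgroup H
    have hF : F ≤ Subgroup.centralizer ({x} : Set H) := by
      change Cfsg.fittingSubgroup H ≤ _
      rw [CfsgLib.fittingSubgroup_eq_iSup_pCore]
      refine iSup_le fun s b hb => Subgroup.mem_centralizer_singleton_iff.mpr ?_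
      by_cases hsr : (s : ℕ) = r
      · rw [hsr, hcore, Subgroup.mem_bot] at hb
        simp [hb]
      by_cases hsq : (s : ℕ) = q
      · rw [hsq, pCore_bot ρ hρ hirr, Subgroup.mem_bot] at hb
        simp [hb]
      exact (hall s hsr hsq b hb).symm
    haveI : F.Normal := by
      change (Cfsg.fittingSubgroup H).Normal
      infer_instance
    let A := Subgroup.centralizer (F : Set H)
    have hA : ∀ a ∈ A, ∀ b ∈ A, a * b = b * a := fun a ha b hb =>
      (Subgroup.mem_centralizer_iff.mp ha b (CfsgLib.centralizer_fitting_le hb)).symm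
    exact hsemi (semi_of_large ρ hρ hirr hrq hprim A hA hx (Subgroup.mem_centralizer_iff.mpr fun b hb =>
      Subgroup.mem_centralizer_singleton_iff.mp (hF hb)))
  obtain ⟨x, hx⟩ := exists_prime_orderOf_dvd_card' r hrG
  obtain ⟨s, hsr, hsq, hs⟩ := hmove x hx
  haveI : Fact (s : ℕ).Prime := ⟨s.2⟩
  obtain ⟨h1, -, h3, m, hm⟩ := TransitiveLinear.pivot hρ (k := 0) (y := x) (by rw [hx, zero_add, pow_one])
    (by rw [pow_zero, pow_one]; exact hirr' x hx) hnr hsr (Cfsg.pCore (s : ℕ) H) (CfsgLib.isPGroup_pCore _)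
    (fun b hb => Subgroup.Normal.conj_mem inferInstance b hb x) (by rwa [pow_zero, pow_one])
  refine ⟨h1, fun e => hsq (h3.trans e.symm), fun hr2 => ?_, m, h3 ▸ hm⟩
  obtain ⟨R⟩ := (inferInstance : Nonempty (Sylow r H))
  have hexp : ∀ y : H, orderOf y ≠ r ^ 2 := by
    intro y hy
    have hx' : orderOf (y ^ r) = r := by
      rw [orderOf_pow, hy, Nat.gcd_eq_right (dvd_pow_self r two_ne_zero), pow_two, Nat.mul_div_cancel _ hr.out.pos]
    obtain ⟨s', hs'r, -, hs'⟩ := hmove _ hx'
    haveI : Fact (s' : ℕ).Prime := ⟨s'.2⟩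
    obtain ⟨-, h, -⟩ := TransitiveLinear.pivot hρ (k := 1) (y := y) hy (by rw [pow_one]; exact hirr' _ hx') hnr hs'r
      (Cfsg.pCore (s' : ℕ) H) (CfsgLib.isPGroup_pCore _) (fun b hb => Subgroup.Normal.conj_mem inferInstance b hb y)
      (by rwa [pow_one])
    exact one_ne_zero h
  have hRc : r ^ 2 ≤ Nat.card (R : Subgroup H) :=
    Nat.le_of_dvd Nat.card_pos (R.pow_dvd_card_of_pow_dvd_card hr2)
  haveI : Nontrivial (R : Subgroup H) := by
    refine Finite.one_lt_card_iff_nontrivial.mp ?_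
    have := hr.out.two_le
    nlinarith
  haveI := R.isPGroup'.center_nontrivial
  have hR1 : ∀ g ∈ (R : Subgroup H), g ^ r = 1 := by
    intro g hg
    obtain ⟨j, hj⟩ := R.isPGroup' ⟨g, hg⟩
    obtain ⟨i, -, hi⟩ := (Nat.dvd_prime_pow hr.out).mp (orderOf_dvd_of_pow_eq_one
      (show g ^ r ^ j = 1 by simpa using congrArg Subtype.val hj))
    rcases Nat.lt_or_ge i 2 with h | h
    · exact orderOf_dvd_iff_pow_eq_one.mp (hi ▸ by interval_cases i <;> simp)
    · exfalso
      refine hexp (g ^ r ^ (i - 2)) ?_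
      rw [orderOf_pow, hi, Nat.gcd_eq_right (pow_dvd_pow r (Nat.sub_le i 2)), Nat.pow_div (Nat.sub_le i 2) hr.out.pos,
        show i - (i - 2) = 2 by omega]
  obtain ⟨z, hz⟩ := exists_ne (1 : Subgroup.center (R : Subgroup H))
  set z' : H := ((z : (R : Subgroup H)) : H)
  have hzo : orderOf z' = r :=
    orderOf_eq_prime (hR1 _ (z : (R : Subgroup H)).2) fun e => hz (Subtype.ext (Subtype.ext e))
  obtain ⟨w, hw, hwz⟩ : ∃ w ∈ (R : Subgroup H), w ∉ Subgroup.zpowers z' := by
    by_contra hall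
    push Not at hall
    have := Subgroup.card_le_of_le hall
    rw [Nat.card_zpowers, hzo] at this
    have := hr.out.two_le
    nlinarith
  have hzw : z' * w = w * z' := (congrArg Subtype.val (Subgroup.mem_center_iff.mp z.2 ⟨w, hw⟩)).symm
  let B := Subgroup.closure ({z', w} : Set H)
  have hB : ∀ a ∈ B, ∀ b ∈ B, a * b = b * a := by
    have hle : B ≤ Subgroup.centralizer (B : Set H) := by
      rw [Subgroup.centralizer_closure, Subgroup.closure_le]
      intro a ha b hb
      rcases ha with rfl | rfl <;> rcases hb with rfl | rfl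
      · rfl
      · exact hzw.symm
      · exact hzw
      · rfl
    exact fun a ha b hb => (Subgroup.mem_centralizer_iff.mp (hle hb) a ha)
  have hzB : z' ∈ B := Subgroup.subset_closure (Set.mem_insert _ _)
  obtain ⟨hBc, -⟩ := TransitiveLinear.abelian_fixed hρ hzo (hirr' _ hzo) hnr B hB fun b hb =>
    mul_mem (mul_mem hzB hb) (inv_mem hzB)
  obtain ⟨g, hg⟩ := hBc.exists_generator
  have hle : B ≤ Subgroup.zpowers (g : H) := fun b hb => by
    obtain ⟨j, hj⟩ := Subgroup.mem_zpowers_iff.mp (hg ⟨b, hb⟩)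
    exact Subgroup.mem_zpowers_iff.mpr ⟨j, by simpa using congrArg Subtype.val hj⟩
  have hgR : (g : H) ∈ (R : Subgroup H) := (Subgroup.closure_le _).mpr
    (by rintro a (rfl | rfl) <;> [exact (z : (R : Subgroup H)).2; exact hw]) g.2
  have hgo : orderOf (g : H) ∣ r := orderOf_dvd_of_pow_eq_one (hR1 _ hgR)
  have hzg : Subgroup.zpowers z' = Subgroup.zpowers (g : H) := by
    refine Subgroup.eq_of_le_of_card_ge (Subgroup.zpowers_le.mpr (hle hzB)) ?_
    rw [Nat.card_zpowers, Nat.card_zpowers, hzo]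
    exact Nat.le_of_dvd hr.out.pos hgo
  exact hwz (hzg ▸ hle (Subgroup.subset_closure (Set.mem_insert_of_mem _ rfl)))

end CfsgLib.Palfy
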