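import Cfsg.Agent.Lib.Palfy.CaseA
import Cfsg.Agent.Lib.Palfy.CaseB

/-!
Pálfy's three prime theorem, part 9: the induction.
-/

set_option autoImplicit false
set_option linter.unusedSectionVars false
set_option linter.style.haveILetI false
set_option maxHeartbeats 1000000

namespace CfsgLib.Palfy

open Cfsg CfsgLib CfsgLib.CharTheory
open scoped commutatorElement

universe u

variable {G : Type u} [Group G] [Finite G]

theorem good_range [Group.IsSolvable G] {Q : Subgroup G} [Q.Normal] {q c : ℕ} [Fact q.Prime] [Fact c.Prime]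
    (hQ : IsPGroup q Q) (hidx : ¬ q ∣ Q.index) (hcen : ⁅Q, Q⁆ ≤ Subgroup.centralizer (Q : Set G))
    (hexp : ∀ x ∈ ⁅Q, Q⁆, x ^ q = 1)
    (hqc : ∀ χ : G → ℂ, IsIrrCharacter G χ → q ∣ charDegree χ → ¬ c ∣ charDegree χ)
    (φ : ↥⁅Q, Q⁆ →* ℂˣ) (hφ : φ ≠ 1) :
    ¬ c ∣ (stab (dualAct ⁅Q, Q⁆) φ).index ∧
      NA c ((stab (dualAct ⁅Q, Q⁆) φ).map (dualAct ⁅Q, Q⁆).rangeRestrict) := by
  obtain ⟨h1, h2⟩ := good_stab hcen Fact.out hQ hidx hexp hqc hφ
  set T := stab (dualAct ⁅Q, Q⁆) φ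
  refine ⟨h1, h2.map (QuotientGroup.lift (Q.subgroupOf T)
    ((dualAct ⁅Q, Q⁆).rangeRestrict.subgroupMap T) fun t ht => ?_) ?_⟩
  · rw [MonoidHom.mem_ker]
    refine Subtype.ext (Subtype.ext ?_)
    show dualAct ⁅Q, Q⁆ (t : G) = 1
    exact MonoidHom.mem_ker.1 (le_ker_derived hcen (Subgroup.mem_subgroupOf.1 ht))
  · intro z
    obtain ⟨t, rfl⟩ := (dualAct ⁅Q, Q⁆).rangeRestrict.subgroupMap_surjective T z
    exact ⟨QuotientGroup.mk t, rfl⟩

theorem deg_both [Group.IsSolvable G] {Q : Subgroup G} [Q.Normal] {q a b : ℕ} [Fact q.Prime] [Fact a.Prime]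
    [Fact b.Prime] (hab : a ≠ b) (hQ : IsPGroup q Q) (hidx : ¬ q ∣ Q.index)
    (hcen : ⁅Q, Q⁆ ≤ Subgroup.centralizer (Q : Set G)) (hN : ⁅Q, Q⁆ ≠ ⊥)
    (hmin : ∀ M : Subgroup G, M.Normal → M ≤ ⁅Q, Q⁆ → M = ⊥ ∨ M = ⁅Q, Q⁆)
    (hexp : ∀ x ∈ ⁅Q, Q⁆, x ^ q = 1)
    (ha : a ∣ (Subgroup.centralizer ((⁅Q, Q⁆ : Subgroup G) : Set G)).index)
    (hb : b ∣ (Subgroup.centralizer ((⁅Q, Q⁆ : Subgroup G) : Set G)).index)
    (hqa : ∀ χ : G → ℂ, IsIrrCharacter G χ → q ∣ charDegree χ → ¬ a ∣ charDegree χ)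
    (hqb : ∀ χ : G → ℂ, IsIrrCharacter G χ → q ∣ charDegree χ → ¬ b ∣ charDegree χ) : Deg (a * b) G :=
  deg_dual (q := q) hab ⁅Q, Q⁆ hN (fun _ ha _ hb => nc hcen ha hb) hexp hmin ha hb
    (good_range hQ hidx hcen hexp hqa) (good_range hQ hidx hcen hexp hqb)

/-- A normal Sylow subgroup among the three primes. -/
theorem case_normal [Group.IsSolvable G] (S : Finset ℕ) (hprime : ∀ x ∈ S, x.Prime) (hcard : S.card = 3)
    (hna : ∀ x ∈ S, ¬ NA x G)
    (hquot : ∀ (N : Subgroup G) [N.Normal], N ≠ ⊥ → ∃ x ∈ S, NA x (G ⧸ N))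
    (hno : ∀ x ∈ S, ∀ z ∈ S, x ≠ z → ¬ Deg (x * z) G)
    {q : ℕ} (hq : q ∈ S) [Fact q.Prime] (Qs : Sylow q G) (hQn : (Qs : Subgroup G).Normal) : False := by
  classical
  set Q : Subgroup G := (Qs : Subgroup G) with hQdef
  haveI := hQn
  have hQ : IsPGroup q Q := Qs.isPGroup'
  have hidx : ¬ q ∣ Q.index := Qs.not_dvd_index
  have hD : ⁅Q, Q⁆ ≠ ⊥ := fun e => hna q hq (na_of_sylow Qs hQn fun a ha b hb => by
    rw [← commutatorElement_eq_one_iff_mul_comm, ← Subgroup.mem_bot, ← e]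
    exact Subgroup.commutator_mem_commutator ha hb)
  have hDQ : ⁅Q, Q⁆ ≤ Q := Subgroup.commutator_le_left Q Q
  have hZ : ⁅Q, Q⁆ ⊓ Subgroup.centralizer (Q : Set G) ≠ ⊥ := by
    haveI : Group.IsNilpotent Q := hQ.isNilpotent
    obtain ⟨z, hz, hz1⟩ := (Subgroup.bot_or_exists_ne_one _).resolve_left
      (CfsgLib.inf_center_ne_bot_of_nilpotent (N := (⁅Q, Q⁆).subgroupOf Q) fun e => hD (by
        rw [Subgroup.subgroupOf_eq_bot] at e
        rwa [disjoint_iff, inf_eq_left.2 hDQ] at e))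
    refine fun e => hz1 (Subtype.ext ?_)
    have h1 : (z : G) ∈ ⁅Q, Q⁆ ⊓ Subgroup.centralizer (Q : Set G) := by
      refine Subgroup.mem_inf.2 ⟨Subgroup.mem_subgroupOf.1 hz.1, Subgroup.mem_centralizer_iff.2 fun u hu => ?_⟩
      exact congrArg Subtype.val (Subgroup.mem_center_iff.1 hz.2 ⟨u, hu⟩)
    rw [e, Subgroup.mem_bot] at h1
    exact h1
  obtain ⟨N, hNn, hNZ, hN0, hNc, hNmin, -⟩ := CfsgLib.CoreFree.exists_abelian_minimal hZ
  haveI := hNn
  obtain ⟨x, hx, hxna⟩ := hquot N hN0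
  haveI := Fact.mk (hprime x hx)
  have hNQ : N ≤ Q := hNZ.trans (inf_le_left.trans hDQ)
  have hNp : IsPGroup q N := hQ.to_le hNQ
  have hxq : x = q := by
    by_contra hne
    refine hna x hx ?_
    let X : Sylow x G := default
    have hNx : ¬ x ∣ Nat.card N := fun hd => by
      obtain ⟨i, hi⟩ := IsPGroup.iff_card.1 hNp
      rw [hi] at hd
      exact hne ((Nat.prime_dvd_prime_iff_eq (hprime x hx) Fact.out).1 ((hprime x hx).dvd_of_dvd_pow hd))
    obtain ⟨hM, hXc, -, -⟩ := quot_data N hNx hxna X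
    haveI := hM
    have hQX : ⁅Q, (X : Subgroup G)⁆ ≤ N := by
      intro y hy
      have hyQ : y ∈ Q := Subgroup.commutator_le_left Q ⊤ (Subgroup.commutator_mono le_rfl le_top hy)
      have hyM : y ∈ N ⊔ (X : Subgroup G) :=
        Subgroup.commutator_le_right Q (N ⊔ (X : Subgroup G)) (Subgroup.commutator_mono le_rfl le_sup_right hy)
      obtain ⟨n, hn, t, ht, e⟩ := Subgroup.mem_sup_of_normal_left.1 hyM
      have e' : n * t = y := e
      have h1 : t ∈ Q ⊓ (X : Subgroup G) := by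
        refine Subgroup.mem_inf.2 ⟨?_, ht⟩
        rw [show t = n⁻¹ * y by rw [← e', inv_mul_cancel_left]]
        exact mul_mem (inv_mem (hNQ hn)) hyQ
      rw [disjoint_iff.1 (IsPGroup.disjoint_of_ne q x (Ne.symm hne) Q X hQ X.isPGroup'), Subgroup.mem_bot] at h1
      rw [← e', h1, mul_one]
      exact hn
    have hNcen : ⁅N, Q⁆ = ⊥ := by
      rw [eq_bot_iff, Subgroup.commutator_le]
      intro n hn u hu
      rw [Subgroup.mem_bot, commutatorElement_eq_one_iff_mul_comm]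
      exact (Subgroup.mem_centralizer_iff.1 (Subgroup.mem_inf.1 (hNZ hn)).2 u hu).symm
    have h3 : ⁅⁅Q, Q⁆, (X : Subgroup G)⁆ = ⊥ := by
      refine Subgroup.commutator_commutator_eq_bot_of_rotate ?_ ?_
      · exact eq_bot_iff.2 ((Subgroup.commutator_mono hQX le_rfl).trans hNcen.le)
      · rw [Subgroup.commutator_comm (X : Subgroup G) Q]
        exact eq_bot_iff.2 ((Subgroup.commutator_mono hQX le_rfl).trans hNcen.le)
    refine na_of_sylow X (sylow_normal_of_centralized N X hM fun n hn t ht => ?_) hXc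
    rw [← commutatorElement_eq_one_iff_mul_comm, ← Subgroup.mem_bot, ← h3]
    exact Subgroup.commutator_mem_commutator (Subgroup.mem_inf.1 (hNZ hn)).1 ht
  subst hxq
  have hDN : ⁅Q, Q⁆ = N := by
    refine le_antisymm ?_ (hNZ.trans inf_le_left)
    obtain ⟨A, hAn, hAc, -, hAi⟩ := hxna
    haveI := hAn
    have hle : Q.map (QuotientGroup.mk' N) ≤ A := le_of_index hAi (hQ.map _)
    rw [Subgroup.commutator_le]
    intro a ha b hb
    rw [← QuotientGroup.eq_one_iff]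
    show QuotientGroup.mk' N ⁅a, b⁆ = 1
    rw [map_commutatorElement, commutatorElement_eq_one_iff_mul_comm]
    exact hAc _ (hle ⟨a, ha, rfl⟩) _ (hle ⟨b, hb, rfl⟩)
  have hcen : ⁅Q, Q⁆ ≤ Subgroup.centralizer (Q : Set G) := hDN ▸ hNZ.trans inf_le_right
  have hexp : ∀ u ∈ ⁅Q, Q⁆, u ^ x = 1 := by
    intro u hu
    obtain ⟨-, y, hy, hpow⟩ := CfsgLib.minimal_normal_elementary hN0 inferInstance hNmin
    rw [hDN] at hu
    rcases eq_or_ne u 1 with rfl | hu1
    · exact one_pow x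
    haveI := Fact.mk hy
    have h1 : orderOf u = y := orderOf_eq_prime (hpow u hu) hu1
    obtain ⟨k, hk⟩ := hNp ⟨u, hu⟩
    have h2 : orderOf u ∣ x ^ k := orderOf_dvd_of_pow_eq_one (congrArg Subtype.val hk)
    rw [h1] at h2
    rw [← (Nat.prime_dvd_prime_iff_eq hy Fact.out).1 (hy.dvd_of_dvd_pow h2)]
    exact hpow u hu
  have hmin : ∀ M : Subgroup G, M.Normal → M ≤ ⁅Q, Q⁆ → M = ⊥ ∨ M = ⁅Q, Q⁆ := by
    rw [hDN]
    exact hNmin
  have hnc : ∀ a ∈ ⁅Q, Q⁆, ∀ b ∈ ⁅Q, Q⁆, a * b = b * a := fun a ha b hb => nc hcen ha hb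
  obtain ⟨a, b, hab, hSab⟩ : ∃ a b, a ≠ b ∧ S.erase x = {a, b} :=
    Finset.card_eq_two.1 (by rw [Finset.card_erase_of_mem hx, hcard])
  have haS : a ∈ S.erase x := hSab ▸ Finset.mem_insert_self a {b}
  have hbS : b ∈ S.erase x := hSab ▸ Finset.mem_insert_of_mem (Finset.mem_singleton_self b)
  obtain ⟨hax, haS'⟩ := Finset.mem_erase.1 haS
  obtain ⟨hbx, hbS'⟩ := Finset.mem_erase.1 hbS
  haveI := Fact.mk (hprime a haS')
  haveI := Fact.mk (hprime b hbS')
  by_cases hboth : a ∣ (Subgroup.centralizer ((⁅Q, Q⁆ : Subgroup G) : Set G)).index ∧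
      b ∣ (Subgroup.centralizer ((⁅Q, Q⁆ : Subgroup G) : Set G)).index
  · exact hno a haS' b hbS' hab (deg_both (Q := Q) (q := x) hab hQ hidx hcen hD hmin hexp hboth.1 hboth.2
      (qc Fact.out (hprime a haS') (Ne.symm hax) (hno x hx a haS' (Ne.symm hax)))
      (qc Fact.out (hprime b hbS') (Ne.symm hbx) (hno x hx b hbS' (Ne.symm hbx))))
  · rcases not_and_or.1 hboth with h | h
    · exact case_two (q := x) (p := a) (r := b) (Q := Q)
        { hqp := Ne.symm hax, hqr := Ne.symm hbx, hpr := hab, hQ := hQ, hidx := hidx, hcen := hcen, hN := hD,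
          hmin := hmin, hexp := hexp, hnp := hna a haS', hnr := hna b hbS',
          h1 := hno x hx a haS' (Ne.symm hax), h2 := hno x hx b hbS' (Ne.symm hbx),
          h3 := hno a haS' b hbS' hab, hp := h }
    · exact case_two (q := x) (p := b) (r := a) (Q := Q)
        { hqp := Ne.symm hbx, hqr := Ne.symm hax, hpr := Ne.symm hab, hQ := hQ, hidx := hidx, hcen := hcen,
          hN := hD, hmin := hmin, hexp := hexp, hnp := hna b hbS', hnr := hna a haS',
          h1 := hno x hx b hbS' (Ne.symm hbx), h2 := hno x hx a haS' (Ne.symm hax),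
          h3 := hno b hbS' a haS' (Ne.symm hab), hp := h }

theorem three_primes_aux (n : ℕ) : ∀ (G : Type u) [Group G] [Finite G] [Group.IsSolvable G], Nat.card G = n →
    ∀ S : Finset ℕ, (∀ x ∈ S, x.Prime) → S.card = 3 → (∀ x ∈ S, ¬ NA x G) →
      ∃ x ∈ S, ∃ z ∈ S, x ≠ z ∧ Deg (x * z) G := by
  induction n using Nat.strong_induction_on with
  | _ n ih =>
    intro G _ _ _ hn S hprime hcard hna
    by_contra hh
    push Not at hh
    have hquot : ∀ (N : Subgroup G) [N.Normal], N ≠ ⊥ → ∃ x ∈ S, NA x (G ⧸ N) := by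
      intro N _ hN
      by_contra hq
      push Not at hq
      haveI : Group.IsSolvable (G ⧸ N) :=
        Group.isSolvable_of_surjective (f := QuotientGroup.mk' N) (QuotientGroup.mk'_surjective N)
      have hlt : Nat.card (G ⧸ N) < n := by
        rw [← hn, Subgroup.card_eq_card_quotient_mul_card_subgroup N]
        exact lt_mul_of_one_lt_right Nat.card_pos (N.one_lt_card_iff_ne_bot.2 hN)
      obtain ⟨x, hx, z, hz, hne, hd⟩ := ih _ hlt (G ⧸ N) rfl S hprime hcard hq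
      exact hh x hx z hz hne (hd.of_surjective (QuotientGroup.mk' N) (QuotientGroup.mk'_surjective N))
    by_cases hsyl : ∃ q ∈ S, ∃ Qs : Sylow q G, (Qs : Subgroup G).Normal
    · obtain ⟨q, hq, Qs, hQn⟩ := hsyl
      haveI := Fact.mk (hprime q hq)
      exact case_normal S hprime hcard hna hquot hh hq Qs hQn
    · push Not at hsyl
      exact case_none S hprime hcard hsyl hquot hh

/-- Pálfy: among three primes dividing degrees two have product dividing a degree. -/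
theorem three_primes [Group.IsSolvable G] (S : Finset ℕ) (hprime : ∀ x ∈ S, x.Prime) (hcard : S.card = 3)
    (hdeg : ∀ x ∈ S, Deg x G) : ∃ x ∈ S, ∃ z ∈ S, x ≠ z ∧ Deg (x * z) G :=
  three_primes_aux (Nat.card G) G rfl S hprime hcard fun x hx h => h.not_deg (hprime x hx) (hdeg x hx)

end CfsgLib.Palfy
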