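import Cfsg.Agent.Lib.Palfy.Dual
import Cfsg.Agent.Lib.PSolvableLinear.Rational

/-!
Pálfy's three prime theorem, part 7: characters of a normal `q`-group of class two over a linear character of
its derived group.
-/

set_option autoImplicit false
set_option linter.unusedSectionVars false
set_option linter.style.haveILetI false
set_option maxHeartbeats 1000000

namespace CfsgLib.Palfy

open Cfsg CfsgLib CfsgLib.CharTheory
open scoped commutatorElement

universe u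

/-- Scalars of a central subgroup. -/
theorem central_hom {K : Type u} [Group K] [Finite K] {n : ℕ} (ρ : Representation ℂ K (Fin n → ℂ))
    [ρ.IsIrreducible] (S : Subgroup K) (hS : ∀ z ∈ S, ∀ k : K, ρ z * ρ k = ρ k * ρ z) :
    ∃ ω : S →* ℂˣ, ∀ z : S, ∀ k : K, ρ.character ((z : K) * k) = (ω z : ℂ) * ρ.character k := by
  classical
  haveI : Nontrivial (Fin n → ℂ) := by
    by_contra h
    rw [not_nontrivial_iff_subsingleton] at h
    exact bot_ne_top (α := Subrepresentation ρ) (Subrepresentation.toSubmodule_injective (Subsingleton.elim _ _))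
  have hsc : ∀ z : S, ∃ c : ℂ, ρ (z : K) = c • (LinearMap.id : (Fin n → ℂ) →ₗ[ℂ] (Fin n → ℂ)) := by
    intro z
    let T : Representation.IntertwiningMap ρ ρ := ⟨ρ (z : K), fun k => hS z z.2 k⟩
    obtain ⟨c, hc⟩ := (Representation.IsIrreducible.algebraMap_intertwiningMap_bijective_of_isAlgClosed).2 T
    exact ⟨c, LinearMap.ext fun v => by
      have := congrArg (fun S : Representation.IntertwiningMap ρ ρ => S v) hc
      simpa [T] using this.symm⟩
  choose c hc using hsc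
  obtain ⟨v, hv⟩ := exists_ne (0 : Fin n → ℂ)
  have h1 : c 1 = 1 := by
    have := LinearMap.congr_fun (hc 1) v
    rw [show ((1 : S) : K) = 1 from rfl, map_one, LinearMap.smul_apply, LinearMap.id_apply,
      Module.End.one_apply] at this
    exact (smul_left_injective ℂ hv (by simpa using this.symm))
  have hmul : ∀ z z' : S, c (z * z') = c z * c z' := fun z z' => by
    have := LinearMap.congr_fun (hc (z * z')) v
    rw [show ((z * z' : S) : K) = (z : K) * z' from rfl, map_mul, Module.End.mul_apply, hc, hc,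
      LinearMap.smul_apply, LinearMap.id_apply, LinearMap.smul_apply, LinearMap.id_apply, smul_smul,
      LinearMap.smul_apply, LinearMap.id_apply] at this
    exact (smul_left_injective ℂ hv this.symm)
  let f : S →* ℂ := { toFun := c, map_one' := h1, map_mul' := hmul }
  refine ⟨f.toHomUnits, fun z k => ?_⟩
  show LinearMap.trace ℂ _ (ρ ((z : K) * k)) = c z * LinearMap.trace ℂ _ (ρ k)
  rw [map_mul, hc, ← Module.End.one_eq_id, smul_mul_assoc, one_mul, map_smul, smul_eq_mul]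

/-- A shift by a scalar determines the value of a linear constituent. -/
theorem inner_shift {S : Type u} [Group S] [Fintype S] {χ : S → ℂ} {ν : S →* ℂˣ} {a : S} {c : ℂ}
    (h : ∀ x, χ (a * x) = c * χ x) (hne : classInner χ (fun s => (ν s : ℂ)) ≠ 0) : c = ν a := by
  have h3 : classInner χ (fun s => (ν s : ℂ)) =
      c * (starRingEnd ℂ) (ν a : ℂ) * classInner χ (fun s => (ν s : ℂ)) := by
    simp only [classInner]
    conv_rhs => rw [mul_left_comm, Finset.mul_sum]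
    congr 1
    refine (Fintype.sum_equiv (Equiv.mulLeft a) _ _ fun x => ?_).symm
    simp only [Equiv.coe_mulLeft, h, map_mul, Units.val_mul]
    ring
  have h4 : c * (starRingEnd ℂ) (ν a : ℂ) = 1 := by
    by_contra hne'
    exact hne ((mul_left_eq_self₀.mp h3.symm).resolve_left hne')
  have h5 : (starRingEnd ℂ) (ν a : ℂ) * (ν a : ℂ) = 1 := by
    have hfin : IsOfFinOrder (ν a) := ν.isOfFinOrder (isOfFinOrder_of_finite a)
    have hnorm : ‖(ν a : ℂ)‖ = 1 := ((Units.coeHom ℂ).isOfFinOrder hfin).norm_eq_one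
    rw [mul_comm, Complex.mul_conj, Complex.normSq_eq_norm_sq, hnorm]
    simp
  calc c = c * ((starRingEnd ℂ) (ν a : ℂ) * (ν a : ℂ)) := by rw [h5, mul_one]
    _ = ν a := by rw [← mul_assoc, h4, one_mul]

variable {G : Type u} [Group G] [Finite G] (Q : Subgroup G) [hQn : Q.Normal]

/-- A function extending a linear character of the derived group. -/
noncomputable def extFun (φ : ↥⁅Q, Q⁆ →* ℂˣ) (g : G) : ℂˣ :=
  open Classical in if h : g ∈ ⁅Q, Q⁆ then φ ⟨g, h⟩ else 1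

theorem extFun_of_mem (φ : ↥⁅Q, Q⁆ →* ℂˣ) {g : G} (h : g ∈ ⁅Q, Q⁆) : extFun Q φ g = φ ⟨g, h⟩ := dif_pos h

theorem extFun_mul (φ : ↥⁅Q, Q⁆ →* ℂˣ) {g k : G} (hg : g ∈ ⁅Q, Q⁆) (hk : k ∈ ⁅Q, Q⁆) :
    extFun Q φ (g * k) = extFun Q φ g * extFun Q φ k := by
  rw [extFun_of_mem Q φ (mul_mem hg hk), extFun_of_mem Q φ hg, extFun_of_mem Q φ hk, ← map_mul]
  rfl

variable (hcen : ⁅Q, Q⁆ ≤ Subgroup.centralizer (Q : Set G))
include hcen

theorem central {c u : G} (hc : c ∈ ⁅Q, Q⁆) (hu : u ∈ Q) : u * c = c * u :=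
  Subgroup.mem_centralizer_iff.1 (hcen hc) u hu

theorem comm_mul {z z' u : G} (hz : z ∈ Q) (hz' : z' ∈ Q) (hu : u ∈ Q) :
    ⁅z * z', u⁆ = ⁅z, u⁆ * ⁅z', u⁆ := by
  have h1 : ⁅z * z', u⁆ = z * ⁅z', u⁆ * z⁻¹ * ⁅z, u⁆ := by
    simp only [commutatorElement_def]
    group
  rw [h1, central Q hcen (Subgroup.commutator_mem_commutator hz' hu) hz, mul_inv_cancel_right]
  exact (central Q hcen (Subgroup.commutator_mem_commutator hz' hu)
    (Subgroup.commutator_le_left Q Q (Subgroup.commutator_mem_commutator hz hu))).symm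

theorem comm_mul_right {z u u' : G} (hz : z ∈ Q) (hu : u ∈ Q) (hu' : u' ∈ Q) :
    ⁅z, u * u'⁆ = ⁅z, u⁆ * ⁅z, u'⁆ := by
  have h1 : ⁅z, u * u'⁆ = ⁅z, u⁆ * (u * ⁅z, u'⁆ * u⁻¹) := by
    simp only [commutatorElement_def]
    group
  rw [h1, central Q hcen (Subgroup.commutator_mem_commutator hz hu') hu, mul_inv_cancel_right]

/-- The radical of a linear character of the derived group. -/
def rad (φ : ↥⁅Q, Q⁆ →* ℂˣ) : Subgroup G where
  carrier := {z | z ∈ Q ∧ ∀ u ∈ Q, extFun Q φ ⁅z, u⁆ = 1}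
  one_mem' := ⟨one_mem Q, fun u _ => by rw [commutatorElement_one_left, extFun_of_mem Q φ (one_mem _)]; exact map_one φ⟩
  mul_mem' := by
    rintro z z' ⟨hz, h1⟩ ⟨hz', h2⟩
    refine ⟨mul_mem hz hz', fun u hu => ?_⟩
    rw [comm_mul Q hcen hz hz' hu, extFun_mul Q φ (Subgroup.commutator_mem_commutator hz hu)
      (Subgroup.commutator_mem_commutator hz' hu), h1 u hu, h2 u hu, one_mul]
  inv_mem' := by
    rintro z ⟨hz, h1⟩
    refine ⟨inv_mem hz, fun u hu => ?_⟩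
    have h2 := comm_mul Q hcen (inv_mem hz) hz hu
    rw [inv_mul_cancel, commutatorElement_one_left] at h2
    have h3 := congrArg (extFun Q φ) h2
    rw [extFun_mul Q φ (Subgroup.commutator_mem_commutator (inv_mem hz) hu) (Subgroup.commutator_mem_commutator hz hu),
      h1 u hu, mul_one, extFun_of_mem Q φ (one_mem _)] at h3
    exact h3.symm.trans (map_one φ)

theorem mem_rad {φ : ↥⁅Q, Q⁆ →* ℂˣ} {z : G} :
    z ∈ rad Q hcen φ ↔ z ∈ Q ∧ ∀ u ∈ Q, extFun Q φ ⁅z, u⁆ = 1 := Iff.rfl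

theorem derived_le_rad (φ : ↥⁅Q, Q⁆ →* ℂˣ) : ⁅Q, Q⁆ ≤ rad Q hcen φ := fun z hz =>
  ⟨Subgroup.commutator_le_left Q Q hz, fun u hu => by
    rw [commutatorElement_eq_one_iff_mul_comm.2 (central Q hcen hz hu).symm, extFun_of_mem Q φ (one_mem _)]
    exact map_one φ⟩

omit hcen in
/-- A character of `Q` lies over a linear character of the derived group. -/
def Over (θ : Q → ℂ) (φ : ↥⁅Q, Q⁆ →* ℂˣ) : Prop :=
  ∀ z : Q, (z : G) ∈ ⁅Q, Q⁆ → θ z = θ 1 * (extFun Q φ z : ℂ)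

/-- Values of a character over `φ`. -/
theorem over_spec {θ : Q → ℂ} (hθ : IsIrrCharacter Q θ) {φ : ↥⁅Q, Q⁆ →* ℂˣ} (ho : Over Q θ φ) :
    ∃ ω : ↥((rad Q hcen φ).subgroupOf Q) →* ℂˣ,
      (∀ z : ↥((rad Q hcen φ).subgroupOf Q), ∀ u : Q, θ ((z : Q) * u) = (ω z : ℂ) * θ u) ∧
      (∀ z : ↥((rad Q hcen φ).subgroupOf Q), ((z : Q) : G) ∈ ⁅Q, Q⁆ → ω z = extFun Q φ ((z : Q) : G)) ∧
      ∀ u : Q, (u : G) ∉ rad Q hcen φ → θ u = 0 := by
  classical
  haveI := Fintype.ofFinite Q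
  have hd := (charDegree_spec' hθ)
  have hne : θ 1 ≠ 0 := irr_ne_zero hθ
  obtain ⟨n, ρ, hρ, rfl⟩ := hθ
  obtain ⟨ω₁, hω₁⟩ := central_hom ρ ((⁅Q, Q⁆).subgroupOf Q) fun z hz k => by
    rw [← map_mul, ← map_mul]
    exact congrArg ρ (Subtype.ext (central Q hcen (Subgroup.mem_subgroupOf.1 hz) k.2).symm)
  have hω₁φ : ∀ z : ↥((⁅Q, Q⁆).subgroupOf Q), (ω₁ z : ℂ) = extFun Q φ ((z : Q) : G) := fun z => by
    have h1 := hω₁ z 1
    rw [mul_one, ho (z : Q) (Subgroup.mem_subgroupOf.1 z.2), mul_comm (ω₁ z : ℂ)] at h1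
    exact (mul_left_cancel₀ hne h1).symm
  have hscal : ∀ c : Q, (c : G) ∈ ⁅Q, Q⁆ → extFun Q φ (c : G) = 1 → ρ c = 1 := by
    intro c hc h1
    refine rep_apply_eq_one_of_char_eq ρ ?_
    have h2 := hω₁ ⟨c, Subgroup.mem_subgroupOf.2 hc⟩ 1
    rw [mul_one, hω₁φ, h1, Units.val_one, one_mul] at h2
    exact h2
  obtain ⟨ω, hω⟩ := central_hom ρ ((rad Q hcen φ).subgroupOf Q) fun z hz k => by
    obtain ⟨-, hzr⟩ := (mem_rad Q hcen).1 (Subgroup.mem_subgroupOf.1 hz)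
    have hc : ((⁅z, k⁆ : Q) : G) = ⁅(z : G), (k : G)⁆ := map_commutatorElement Q.subtype z k
    have h1 := hscal ⁅z, k⁆ (hc ▸ Subgroup.commutator_mem_commutator z.2 k.2) (hc ▸ hzr k k.2)
    rw [← map_mul, ← map_mul, show z * k = ⁅z, k⁆ * (k * z) by rw [commutatorElement_def]; group, map_mul, h1,
      one_mul]
  refine ⟨ω, hω, fun z hz => ?_, fun u hu => ?_⟩
  · have h1 := hω z 1
    have h2 := ho (z : Q) hz
    rw [mul_one] at h1
    rw [h1, mul_comm] at h2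
    exact Units.ext (mul_left_cancel₀ hne h2)
  · obtain ⟨v, hv, hne1⟩ : ∃ v ∈ Q, extFun Q φ ⁅(u : G), v⁆ ≠ 1 := by
      by_contra hh
      push Not at hh
      exact hu ((mem_rad Q hcen).2 ⟨u.2, hh⟩)
    set w : Q := ⟨v, hv⟩
    have hc : ((⁅u, w⁆ : Q) : G) = ⁅(u : G), v⁆ := map_commutatorElement Q.subtype u w
    have hmem : ((⁅u, w⁆ : Q) : G) ∈ ⁅Q, Q⁆ := hc ▸ Subgroup.commutator_mem_commutator u.2 hv
    have h1 : ρ.character (⁅u, w⁆ * (w * u * w⁻¹)) = ρ.character u := by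
      congr 1
      rw [commutatorElement_def]
      group
    have h2 : ρ.character (w * u * w⁻¹) = ρ.character u := ρ.char_conj u w
    have h3 := hω₁ ⟨⁅u, w⁆, Subgroup.mem_subgroupOf.2 hmem⟩ (w * u * w⁻¹)
    rw [h1, h2, hω₁φ] at h3
    by_contra h0
    refine hne1 (Units.ext ?_)
    rw [← hc, Units.val_one]
    exact (mul_left_eq_self₀.mp h3.symm).resolve_right h0

/-- Extensions of `φ` to the radical have characters of `Q` over them. -/
theorem exists_over {φ : ↥⁅Q, Q⁆ →* ℂˣ} (ν : ↥((rad Q hcen φ).subgroupOf Q) →* ℂˣ)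
    (hν : ∀ z : ↥((rad Q hcen φ).subgroupOf Q), ((z : Q) : G) ∈ ⁅Q, Q⁆ → ν z = extFun Q φ ((z : Q) : G)) :
    ∃ θ : Q → ℂ, IsIrrCharacter Q θ ∧ Over Q θ φ ∧
      ∀ z : ↥((rad Q hcen φ).subgroupOf Q), θ (z : Q) = θ 1 * (ν z : ℂ) := by
  classical
  haveI := Fintype.ofFinite Q
  haveI := Fintype.ofFinite ↥((rad Q hcen φ).subgroupOf Q)
  obtain ⟨θ, hθ, hne⟩ := exists_irr_above (isIrr_hom ν)
  have ho : Over Q θ φ := by
    obtain ⟨n, ρ, hρ, rfl⟩ := id hθ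
    intro z hz
    obtain ⟨ω₁, hω₁⟩ := central_hom ρ ((⁅Q, Q⁆).subgroupOf Q) fun c hc k => by
      rw [← map_mul, ← map_mul]
      exact congrArg ρ (Subtype.ext (central Q hcen (Subgroup.mem_subgroupOf.1 hc) k.2).symm)
    have hz' : z ∈ (rad Q hcen φ).subgroupOf Q := Subgroup.mem_subgroupOf.2 (derived_le_rad Q hcen φ hz)
    have h1 := inner_shift (a := (⟨z, hz'⟩ : ↥((rad Q hcen φ).subgroupOf Q)))
      (c := (ω₁ ⟨z, Subgroup.mem_subgroupOf.2 hz⟩ : ℂ))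
      (fun x => hω₁ ⟨z, Subgroup.mem_subgroupOf.2 hz⟩ (x : Q)) hne
    have h2 := hω₁ ⟨z, Subgroup.mem_subgroupOf.2 hz⟩ 1
    rw [mul_one, h1, hν _ hz, mul_comm] at h2
    exact h2
  obtain ⟨ω, hω, -, -⟩ := over_spec Q hcen hθ ho
  refine ⟨θ, hθ, ho, fun z => ?_⟩
  have h1 := inner_shift (a := z) (c := (ω z : ℂ)) (fun x => hω z (x : Q)) hne
  rw [← h1, mul_comm, ← hω z 1, mul_one]

/-- An invariant character. -/
theorem exists_invariant {q : ℕ} [Fact q.Prime] (hQ : IsPGroup q Q) (hidx : ¬ q ∣ Q.index)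
    (hexp : ∀ x ∈ ⁅Q, Q⁆, x ^ q = 1) (φ : ↥⁅Q, Q⁆ →* ℂˣ) :
    ∃ θ : Q → ℂ, IsIrrCharacter Q θ ∧ Over Q θ φ ∧ inertia Q θ = stab (dualAct ⁅Q, Q⁆) φ := by
  classical
  haveI := Fintype.ofFinite Q
  set T := stab (dualAct ⁅Q, Q⁆) φ
  set Z := rad Q hcen φ
  obtain ⟨i, hi⟩ := IsPGroup.iff_card.1 hQ
  obtain ⟨R, hR⟩ := Subgroup.exists_right_complement'_of_coprime (N := Q)
    (hi ▸ ((Fact.out : q.Prime).coprime_iff_not_dvd.2 hidx).pow_left i)
  have hTinv : ∀ g ∈ T, ∀ c ∈ ⁅Q, Q⁆, extFun Q φ (g * c * g⁻¹) = extFun Q φ c := by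
    intro g hg c hc
    rw [extFun_of_mem Q φ hc, extFun_of_mem Q φ ((inferInstance : (⁅Q, Q⁆).Normal).conj_mem c hc g)]
    have h1 := DFunLike.congr_fun (mem_stab.1 hg) (⟨g * c * g⁻¹,
      (inferInstance : (⁅Q, Q⁆).Normal).conj_mem c hc g⟩ : ↥⁅Q, Q⁆)
    rw [dualAct_apply] at h1
    rw [← h1]
    exact congrArg φ (Subtype.ext (by simp [mul_assoc]))
  have hZinv : ∀ g ∈ T, ∀ z ∈ Z, g * z * g⁻¹ ∈ Z := by
    intro g hg z hz
    obtain ⟨hzQ, hzr⟩ := (mem_rad Q hcen).1 hz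
    refine (mem_rad Q hcen).2 ⟨hQn.conj_mem z hzQ g, fun u hu => ?_⟩
    have hu' : g⁻¹ * u * g ∈ Q := by simpa using hQn.conj_mem u hu g⁻¹
    rw [show ⁅g * z * g⁻¹, u⁆ = g * ⁅z, g⁻¹ * u * g⁆ * g⁻¹ by simp only [commutatorElement_def]; group,
      hTinv g hg _ (Subgroup.commutator_mem_commutator hzQ hu'), hzr _ hu']
  -- a first extension
  obtain ⟨θ₀, hθ₀, hne₀⟩ : ∃ θ : Q → ℂ, IsIrrCharacter Q θ ∧ Over Q θ φ := by
    haveI := Fintype.ofFinite ↥((⁅Q, Q⁆).subgroupOf Q)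
    let φ' : ↥((⁅Q, Q⁆).subgroupOf Q) →* ℂˣ :=
      φ.comp (Subgroup.subgroupOfEquivOfLe (Subgroup.commutator_le_left Q Q)).toMonoidHom
    obtain ⟨θ, hθ, hne⟩ := exists_irr_above (isIrr_hom φ')
    refine ⟨θ, hθ, fun z hz => ?_⟩
    obtain ⟨n, ρ, hρ, rfl⟩ := hθ
    obtain ⟨ω₁, hω₁⟩ := central_hom ρ ((⁅Q, Q⁆).subgroupOf Q) fun c hc k => by
      rw [← map_mul, ← map_mul]
      exact congrArg ρ (Subtype.ext (central Q hcen (Subgroup.mem_subgroupOf.1 hc) k.2).symm)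
    have h1 := inner_shift (a := (⟨z, Subgroup.mem_subgroupOf.2 hz⟩ : ↥((⁅Q, Q⁆).subgroupOf Q)))
      (fun x => hω₁ ⟨z, Subgroup.mem_subgroupOf.2 hz⟩ (x : Q)) hne
    have h2 := hω₁ ⟨z, Subgroup.mem_subgroupOf.2 hz⟩ 1
    rw [mul_one, h1, mul_comm] at h2
    rw [h2, extFun_of_mem Q φ hz]
    rfl
  obtain ⟨ω₀, -, hω₀, -⟩ := over_spec Q hcen hθ₀ hne₀
  -- averaging
  set RT : Subgroup G := R ⊓ T
  haveI := Fintype.ofFinite RT
  let Zs := Z.subgroupOf Q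
  let cj : RT → (Zs →* Zs) := fun r =>
    { toFun := fun z => ⟨⟨(r : G) * ((z : Q) : G) * (r : G)⁻¹, hQn.conj_mem _ (z : Q).2 (r : G)⟩,
        Subgroup.mem_subgroupOf.2 (hZinv r r.2.2 _ (Subgroup.mem_subgroupOf.1 z.2))⟩
      map_one' := Subtype.ext (Subtype.ext (by simp))
      map_mul' := fun x y => Subtype.ext (Subtype.ext (by simp [mul_assoc])) }
  have hco : (Nat.card RT).Coprime q := by
    refine Nat.Coprime.coprime_dvd_left (Subgroup.card_dvd_of_le inf_le_left) ?_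
    rw [← hR.symm.index_eq_card]
    exact ((Fact.out : q.Prime).coprime_iff_not_dvd.2 hidx).symm
  obtain ⟨e, he⟩ : ∃ e : ℕ, Nat.card RT * e ≡ 1 [MOD q] := by
    obtain ⟨e, -, he⟩ := Nat.exists_mul_mod_eq_one_of_coprime hco (Fact.out : q.Prime).one_lt
    exact ⟨e, he.trans (Nat.mod_eq_of_lt (Fact.out : q.Prime).one_lt).symm⟩
  let ν : Zs →* ℂˣ := (∏ r : RT, ω₀.comp (cj r)) ^ e
  have hνN : ∀ z : Zs, ((z : Q) : G) ∈ ⁅Q, Q⁆ → ν z = extFun Q φ ((z : Q) : G) := by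
    intro z hz
    show ((∏ r : RT, ω₀.comp (cj r)) ^ e) z = _
    rw [MonoidHom.pow_apply, MonoidHom.finsetProd_apply]
    have hr : ∀ r : RT, (ω₀.comp (cj r)) z = extFun Q φ ((z : Q) : G) := fun r => by
      show ω₀ (cj r z) = _
      rw [hω₀ (cj r z) ((inferInstance : (⁅Q, Q⁆).Normal).conj_mem _ hz (r : G))]
      exact hTinv r r.2.2 _ hz
    rw [Finset.prod_congr rfl fun r _ => hr r, Finset.prod_const, Finset.card_univ, ← pow_mul,
      ← Nat.card_eq_fintype_card, extFun_of_mem Q φ hz]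
    have hq1 : (φ ⟨_, hz⟩) ^ q = 1 := by
      rw [← map_pow, show (⟨_, hz⟩ : ↥⁅Q, Q⁆) ^ q = 1 from Subtype.ext (hexp _ hz), map_one]
    rw [← pow_mod_orderOf, he.of_dvd (orderOf_dvd_of_pow_eq_one hq1), pow_mod_orderOf, pow_one]
  obtain ⟨θ, hθ, ho, hval⟩ := exists_over Q hcen ν hνN
  obtain ⟨-, -, -, hvan⟩ := over_spec Q hcen hθ ho
  refine ⟨θ, hθ, ho, le_antisymm (fun g hg => ?_) fun g hg => ?_⟩
  · rw [mem_stab]
    ext c
    have hcQ : (c : G) ∈ Q := Subgroup.commutator_le_left Q Q c.2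
    have h1 := congrFun ((mem_inertia Q).1 (inv_mem hg)) ⟨c, hcQ⟩
    have h2 : θ ⟨g⁻¹ * c * (g⁻¹)⁻¹, hQn.conj_mem _ hcQ g⁻¹⟩ = θ ⟨c, hcQ⟩ := h1
    rw [ho ⟨g⁻¹ * c * (g⁻¹)⁻¹, hQn.conj_mem _ hcQ g⁻¹⟩ ((inferInstance : (⁅Q, Q⁆).Normal).conj_mem _ c.2 g⁻¹),
      ho ⟨c, hcQ⟩ c.2] at h2
    have h3 := mul_left_cancel₀ (irr_ne_zero hθ) h2
    rw [extFun_of_mem Q φ ((inferInstance : (⁅Q, Q⁆).Normal).conj_mem _ c.2 g⁻¹),
      extFun_of_mem Q φ c.2] at h3
    rw [dualAct_apply]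
    refine Eq.trans ?_ h3
    exact congrArg (fun z => ((φ z : ℂˣ) : ℂ)) (Subtype.ext (by simp))
  · rw [mem_inertia]
    funext u
    show θ ⟨g * u * g⁻¹, _⟩ = θ u
    by_cases hu : (u : G) ∈ Z
    · have hgu := hZinv g hg _ hu
      rw [hval ⟨u, Subgroup.mem_subgroupOf.2 hu⟩, hval ⟨⟨g * u * g⁻¹, hQn.conj_mem _ u.2 g⟩,
        Subgroup.mem_subgroupOf.2 hgu⟩]
      congr 2
      -- decompose `g`
      obtain ⟨⟨⟨a, ha⟩, ⟨r, hr⟩⟩, e1⟩ := hR.2 g
      have e1' : a * r = g := e1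
      have hQT : Q ≤ T := fun b hb => mem_stab.2 (MonoidHom.ext fun m => by
        rw [dualAct_apply]
        refine congrArg φ (Subtype.ext ?_)
        show b⁻¹ * (m : G) * b = m
        rw [mul_assoc, ← central Q hcen m.2 hb, inv_mul_cancel_left])
      have hrT : r ∈ T := by
        rw [show r = a⁻¹ * g by rw [← e1', inv_mul_cancel_left]]
        exact mul_mem (inv_mem (hQT ha)) hg
      set z0 : Zs := ⟨u, Subgroup.mem_subgroupOf.2 hu⟩
      have hreindex : ν (cj ⟨r, hr, hrT⟩ z0) = ν z0 := by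
        show ((∏ s : RT, ω₀.comp (cj s)) ^ e) _ = ((∏ s : RT, ω₀.comp (cj s)) ^ e) _
        rw [MonoidHom.pow_apply, MonoidHom.pow_apply, MonoidHom.finsetProd_apply, MonoidHom.finsetProd_apply]
        congr 1
        refine Fintype.prod_equiv (Equiv.mulRight (⟨r, hr, hrT⟩ : RT)) _ _ fun s => ?_
        refine congrArg ω₀ (Subtype.ext (Subtype.ext ?_))
        show (s : G) * (r * (u : G) * r⁻¹) * (s : G)⁻¹ = (s : G) * r * u * ((s : G) * r)⁻¹
        group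
      set w : Zs := cj ⟨r, hr, hrT⟩ z0
      have hw : ((w : Q) : G) = r * u * r⁻¹ := rfl
      have hcw : ⁅a, r * u * r⁻¹⁆ ∈ ⁅Q, Q⁆ := Subgroup.commutator_mem_commutator ha (hQn.conj_mem _ u.2 r)
      let c0 : Zs := ⟨⟨⁅a, r * u * r⁻¹⁆, Subgroup.commutator_le_left Q Q hcw⟩,
        Subgroup.mem_subgroupOf.2 (derived_le_rad Q hcen φ hcw)⟩
      rw [show (⟨⟨g * u * g⁻¹, hQn.conj_mem _ u.2 g⟩, Subgroup.mem_subgroupOf.2 hgu⟩ : Zs) = c0 * w from
        Subtype.ext (Subtype.ext (by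
          show g * (u : G) * g⁻¹ = ⁅a, r * u * r⁻¹⁆ * (r * u * r⁻¹)
          rw [← e1', commutatorElement_def]
          group)), map_mul, hνN c0 hcw, hreindex]
      have hwZ := (mem_rad Q hcen).1 (Subgroup.mem_subgroupOf.1 w.2)
      have h4 : extFun Q φ ⁅a, r * (u : G) * r⁻¹⁆ = 1 := by
        have h5 : ⁅a, r * (u : G) * r⁻¹⁆ = ⁅r * (u : G) * r⁻¹, a⁆⁻¹ := (commutatorElement_inv _ _).symm
        have h6 := hwZ.2 a ha
        rw [hw] at h6
        rw [h5, extFun_of_mem Q φ (inv_mem (Subgroup.commutator_mem_commutator (hQn.conj_mem _ u.2 r) ha))]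
        rw [extFun_of_mem Q φ (Subgroup.commutator_mem_commutator (hQn.conj_mem _ u.2 r) ha)] at h6
        show φ (⟨_, Subgroup.commutator_mem_commutator (hQn.conj_mem _ u.2 r) ha⟩⁻¹) = 1
        rw [map_inv, h6, inv_one]
      show extFun Q φ ⁅a, r * (u : G) * r⁻¹⁆ * ν z0 = ν z0
      rw [h4, one_mul]
    · rw [hvan u hu, hvan]
      intro hgu
      have := hZinv g⁻¹ (inv_mem hg) _ hgu
      exact hu (by simpa [mul_assoc] using this)

variable {Q}

/-- A nontrivial character of the derived group forces a degree divisible by `q`. -/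
theorem dvd_theta {q : ℕ} [Fact q.Prime] (hQ : IsPGroup q Q) {φ : ↥⁅Q, Q⁆ →* ℂˣ} (hφ : φ ≠ 1) {θ : Q → ℂ}
    (hθ : IsIrrCharacter Q θ) (ho : Over Q θ φ) : q ∣ charDegree θ := by
  obtain ⟨n, ρ, hρ, hρθ⟩ := id hθ
  have hd := (charDegree_spec' hθ).1
  have hdvd : charDegree θ ∣ Nat.card Q := by
    have h1 := degree_dvd_index_of_abelian_normal ρ ⊥ fun a ha b hb => by
      rw [Subgroup.mem_bot.1 ha, Subgroup.mem_bot.1 hb]
    have hn : Module.finrank ℂ (Fin n → ℂ) = charDegree θ := by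
      rw [← hρθ, ρ.char_one, Nat.cast_inj] at hd
      rw [hd, hρθ]
    rwa [hn, Subgroup.index_bot] at h1
  obtain ⟨i, hi⟩ := IsPGroup.iff_card.1 hQ
  obtain ⟨j, -, hj⟩ := (Nat.dvd_prime_pow (Fact.out : q.Prime)).1 (hi ▸ hdvd)
  rcases Nat.eq_zero_or_pos j with rfl | hpos
  · exfalso
    rw [pow_zero] at hj
    have h1 : θ 1 = 1 := by rw [hd, hj, Nat.cast_one]
    obtain ⟨f, hf⟩ := exists_hom_of_degree_one (isCharacter_of_irr hθ) h1
    refine hφ (MonoidHom.ext fun c => Units.ext ?_)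
    have hker : ⁅Q, Q⁆ ≤ f.ker.map Q.subtype := by
      rw [Subgroup.commutator_le]
      intro a ha b hb
      refine ⟨⁅(⟨a, ha⟩ : Q), ⟨b, hb⟩⁆, ?_, by simp [commutatorElement_def]⟩
      rw [SetLike.mem_coe, MonoidHom.mem_ker, map_commutatorElement, commutatorElement_eq_one_iff_mul_comm]
      exact mul_comm _ _
    obtain ⟨c', hc', e⟩ := hker c.2
    have e' : (c' : G) = c := e
    have h2 := ho c' (e' ▸ c.2)
    rw [h1, one_mul, hf] at h2
    beta_reduce at h2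
    rw [show f c' = 1 from MonoidHom.mem_ker.1 hc', Units.val_one] at h2
    rw [MonoidHom.one_apply, Units.val_one, h2, extFun_of_mem Q φ (e' ▸ c.2)]
    exact congrArg (fun z => ((φ z : ℂˣ) : ℂ)) (Subtype.ext e'.symm)
  · exact hj ▸ dvd_pow_self q hpos.ne'

omit hcen in
/-- The degree of a character over a character of `Q`. -/
theorem dvd_over [Fintype G] [Fintype Q] {θ : Q → ℂ} (hθ : IsIrrCharacter Q θ) {χ : G → ℂ}
    (hχ : IsIrrCharacter G χ) (hne : classInner (fun n : Q => χ n) θ ≠ 0) : charDegree θ ∣ charDegree χ := by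
  obtain ⟨e, he, -⟩ := degree_ratio_dvd hχ hθ hne
  refine Dvd.intro_left e ?_
  rw [(charDegree_spec' hχ).1, (charDegree_spec' hθ).1, ← Nat.cast_mul, Nat.cast_inj] at he
  exact he.symm

/-- The stabiliser of a nontrivial character of the derived group. -/
theorem good_stab [Group.IsSolvable G] {q c : ℕ} [Fact q.Prime] (hc : c.Prime) (hQ : IsPGroup q Q)
    (hidx : ¬ q ∣ Q.index) (hexp : ∀ x ∈ ⁅Q, Q⁆, x ^ q = 1)
    (hqc : ∀ χ : G → ℂ, IsIrrCharacter G χ → q ∣ charDegree χ → ¬ c ∣ charDegree χ) {φ : ↥⁅Q, Q⁆ →* ℂˣ}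
    (hφ : φ ≠ 1) :
    ¬ c ∣ (stab (dualAct ⁅Q, Q⁆) φ).index ∧
      NA c (↥(stab (dualAct ⁅Q, Q⁆) φ) ⧸ Q.subgroupOf (stab (dualAct ⁅Q, Q⁆) φ)) := by
  classical
  haveI := Fintype.ofFinite G
  haveI := Fintype.ofFinite Q
  obtain ⟨θ, hθ, ho, hin⟩ := exists_invariant Q hcen hQ hidx hexp φ
  set T := stab (dualAct ⁅Q, Q⁆) φ
  have hQT : Q ≤ T := hin ▸ le_inertia Q (isClassFunction_irr hθ)
  haveI := Fintype.ofFinite T
  have hθ' := isIrr_subgroupOf Q hQT hθ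
  have hd1 := (charDegree_spec' hθ).1
  obtain ⟨i, hi⟩ := IsPGroup.iff_card.1 hQ
  have hcop : Nat.Coprime (Q.subgroupOf T).index (q ^ i) := by
    refine Nat.Coprime.coprime_dvd_left (Subgroup.relIndex_dvd_index_of_le hQT) ?_
    exact ((Fact.out : q.Prime).coprime_iff_not_dvd.2 hidx).symm.pow_right i
  have hdegQ : charDegree θ ∣ q ^ i := by
    obtain ⟨n, ρ, hρ, hρθ⟩ := id hθ
    have h1 := degree_dvd_index_of_abelian_normal ρ ⊥ fun a ha b hb => by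
      rw [Subgroup.mem_bot.1 ha, Subgroup.mem_bot.1 hb]
    have hn : Module.finrank ℂ (Fin n → ℂ) = charDegree θ := by
      have hd := hd1
      rw [← hρθ, ρ.char_one, Nat.cast_inj] at hd
      rw [hd, hρθ]
    rwa [hn, Subgroup.index_bot, hi] at h1
  obtain ⟨η, hη, hext, -⟩ := PSolvableLinear.exists_fixed_extension_all hθ' (fun t => by
      funext x
      exact congrFun ((mem_inertia Q).1 (show (t : G) ∈ inertia Q θ by rw [hin]; exact t.2))
        ⟨((x : T) : G), Subgroup.mem_subgroupOf.mp x.2⟩) (d := charDegree θ) hd1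
    (hcop.coprime_dvd_right hdegQ)
    (hcop.coprime_dvd_right ((PSolvableLinear.detOrder_dvd_card hθ').trans
      (dvd_of_eq ((Nat.card_congr (Subgroup.subgroupOfEquivOfLe hQT).toEquiv).trans hi))))
  exact inertia_of_not_dvd hc hθ hQT hin.symm (isCharacter_of_irr hη)
    (fun n => hext ⟨⟨n, hQT n.2⟩, Subgroup.mem_subgroupOf.mpr n.2⟩) fun χ hχ hne =>
      hqc χ hχ ((dvd_theta hcen hQ hφ hθ ho).trans (dvd_over hθ hχ hne))

/-- The inertia group of any character over a nontrivial character of the derived group. -/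
theorem inertia_index {q c : ℕ} [Fact q.Prime] (hQ : IsPGroup q Q)
    (hqc : ∀ χ : G → ℂ, IsIrrCharacter G χ → q ∣ charDegree χ → ¬ c ∣ charDegree χ) {φ : ↥⁅Q, Q⁆ →* ℂˣ}
    (hφ : φ ≠ 1) {θ : Q → ℂ} (hθ : IsIrrCharacter Q θ) (ho : Over Q θ φ) : ¬ c ∣ (inertia Q θ).index := by
  classical
  haveI := Fintype.ofFinite G
  haveI := Fintype.ofFinite Q
  obtain ⟨χ, hχ, hne⟩ := exists_irr_above hθ
  refine fun hd => hqc χ hχ ((dvd_theta hcen hQ hφ hθ ho).trans (dvd_over hθ hχ hne)) (hd.trans ?_)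
  obtain ⟨e, he⟩ := classInner_char_nat (isCharacter_restrict (isCharacter_of_irr hχ) Q) (isCharacter_of_irr hθ)
  have h := clifford_degree Q hχ hθ hne
  rw [he, (charDegree_spec' hχ).1, (charDegree_spec' hθ).1, ← Nat.cast_mul, ← Nat.cast_mul, Nat.cast_inj] at h
  exact h ▸ ⟨e * charDegree θ, by ring⟩

end CfsgLib.Palfy
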