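import Cfsg.Agent.Lib.Palfy.Deg

/-!
Pálfy's three prime theorem, part 2: the partition of a module given by the Sylow subgroups of the stabilisers,
and semilinear groups.
-/

set_option autoImplicit false
set_option linter.unusedSectionVars false
set_option linter.style.haveILetI false

namespace CfsgLib.Palfy

open Cfsg CfsgLib
open scoped commutatorElement

universe u v

variable {H : Type u} [Group H] [Finite H] {M : Type v} [CommGroup M] [Finite M]

/-- The stabiliser of a point. -/
def stab (act : H →* MulAut M) (m : M) : Subgroup H where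
  carrier := {h | act h m = m}
  one_mem' := by show act 1 m = m; rw [map_one]; rfl
  mul_mem' := fun {x y} (hx : act x m = m) (hy : act y m = m) => by
    show act (x * y) m = m
    rw [map_mul, MulAut.mul_apply, hy, hx]
  inv_mem' := fun {x} (hx : act x m = m) => by
    show act x⁻¹ m = m
    rw [map_inv, MulAut.inv_def, MulEquiv.symm_apply_eq, hx]

theorem mem_stab {act : H →* MulAut M} {m : M} {h : H} : h ∈ stab act m ↔ act h m = m := Iff.rfl

/-- The points fixed by a subgroup. -/
def fixC (act : H →* MulAut M) (R : Subgroup H) : Subgroup M where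
  carrier := {m | R ≤ stab act m}
  one_mem' := fun h _ => map_one (act h)
  mul_mem' := fun {x y} hx hy h hh => by
    show act h (x * y) = x * y
    rw [map_mul, mem_stab.1 (hx hh), mem_stab.1 (hy hh)]
  inv_mem' := fun {x} hx h hh => by
    show act h x⁻¹ = x⁻¹
    rw [map_inv, mem_stab.1 (hx hh)]

theorem mem_fixC {act : H →* MulAut M} {R : Subgroup H} {m : M} : m ∈ fixC act R ↔ R ≤ stab act m := Iff.rfl

/-- Every point other than the identity has a stabiliser of index prime to `a` with a normal abelian Sylow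
`a`-subgroup. -/
def Good (act : H →* MulAut M) (a : ℕ) : Prop :=
  ∀ m : M, m ≠ 1 → ¬ a ∣ (stab act m).index ∧ NA a (stab act m)

/-- An `a`-subgroup lies in a normal `a`-subgroup of index prime to `a`. -/
theorem le_of_index {G : Type u} [Group G] [Finite G] {a : ℕ} [Fact a.Prime] {P R : Subgroup G} [P.Normal]
    (hPi : ¬ a ∣ P.index) (hR : IsPGroup a R) : R ≤ P := by
  intro r hr
  obtain ⟨k, hk⟩ := hR ⟨r, hr⟩
  have hk' : r ^ a ^ k = 1 := congrArg Subtype.val hk
  rw [← QuotientGroup.eq_one_iff, ← orderOf_eq_one_iff]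
  refine Nat.eq_one_of_dvd_coprimes (Nat.Coprime.pow_left k ((Fact.out : a.Prime).coprime_iff_not_dvd.2 hPi))
    (orderOf_dvd_of_pow_eq_one ?_) ?_
  · rw [← QuotientGroup.mk_pow, hk']
    rfl
  · exact P.index_eq_card ▸ orderOf_dvd_natCard _

variable {act : H →* MulAut M} {a : ℕ} [Fact a.Prime]

theorem exists_sylow_le (hg : Good act a) {m : M} (hm : m ≠ 1) : ∃ R : Sylow a H, (R : Subgroup H) ≤ stab act m := by
  obtain ⟨P, -, -, hPp, hPi⟩ := (hg m hm).2
  have hidx : ¬ a ∣ (P.map (stab act m).subtype).index := by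
    rw [Subgroup.index_map_subtype]
    exact (Fact.out : a.Prime).not_dvd_mul hPi (hg m hm).1
  have hp : IsPGroup a (P.map (stab act m).subtype) := hPp.map _
  exact ⟨hp.toSylow hidx, Subgroup.map_subtype_le P⟩

theorem sylow_eq (hg : Good act a) {m : M} (hm : m ≠ 1) {R R' : Sylow a H} (h : (R : Subgroup H) ≤ stab act m)
    (h' : (R' : Subgroup H) ≤ stab act m) : R = R' := by
  obtain ⟨P, hPn, -, hPp, hPi⟩ := (hg m hm).2
  haveI := hPn
  have key : ∀ X : Sylow a H, (X : Subgroup H) ≤ stab act m → (X : Subgroup H) = P.map (stab act m).subtype := by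
    intro X hX
    refine (X.is_maximal' (hPp.map _) fun x hx => ?_).symm
    exact ⟨⟨x, hX hx⟩, le_of_index hPi (X.isPGroup'.comap_subtype (K := stab act m)) (Subgroup.mem_subgroupOf.2 hx),
      rfl⟩
  exact Sylow.ext ((key R h).trans (key R' h').symm)

theorem comm_of_fix (hg : Good act a) {m : M} (hm : m ≠ 1) {R : Sylow a H} (h : (R : Subgroup H) ≤ stab act m) :
    ∀ x ∈ (R : Subgroup H), ∀ y ∈ (R : Subgroup H), x * y = y * x := by
  obtain ⟨P, hPn, hPc, -, hPi⟩ := (hg m hm).2
  haveI := hPn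
  intro x hx y hy
  have hle := le_of_index hPi (R.isPGroup'.comap_subtype (K := stab act m))
  exact congrArg Subtype.val (hPc ⟨x, h hx⟩ (hle (Subgroup.mem_subgroupOf.2 hx)) ⟨y, h hy⟩
    (hle (Subgroup.mem_subgroupOf.2 hy)))

open Pointwise in
theorem mem_fixC_smul (R : Subgroup H) (g : H) (m : M) :
    act g m ∈ fixC act (MulAut.conj g • R) ↔ m ∈ fixC act R := by
  constructor
  · intro hm h hh
    have h1 := hm (Subgroup.smul_mem_pointwise_smul h (MulAut.conj g) R hh)
    have h2 : act (g * h * g⁻¹) (act g m) = act g m := h1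
    rw [← MulAut.mul_apply, ← map_mul, inv_mul_cancel_right, map_mul, MulAut.mul_apply] at h2
    exact (act g).injective h2
  · intro hm x hx
    rw [Subgroup.mem_pointwise_smul_iff_inv_smul_mem] at hx
    have h2 : act (g⁻¹ * x * g) m = m := hm (by simpa [MulAut.smul_def] using hx)
    have h3 := congrArg (act g) h2
    rw [← MulAut.mul_apply, ← map_mul, mul_assoc, mul_inv_cancel_left, map_mul, MulAut.mul_apply] at h3
    exact h3

open Pointwise in
theorem card_fixC_eq (R R' : Sylow a H) :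
    Nat.card (fixC act (R : Subgroup H)) = Nat.card (fixC act (R' : Subgroup H)) := by
  obtain ⟨g, rfl⟩ := MulAction.exists_smul_eq H R R'
  refine Nat.card_congr ((act g).toEquiv.subtypeEquiv fun m => ?_)
  rw [Sylow.smul_def, Sylow.pointwise_smul_def]
  exact (mem_fixC_smul _ g m).symm

theorem card_spread (hg : Good act a) (R : Sylow a H) :
    Nat.card (Sylow a H) * (Nat.card (fixC act (R : Subgroup H)) - 1) = Nat.card M - 1 := by
  classical
  haveI := Fintype.ofFinite M
  haveI := Fintype.ofFinite (Sylow a H)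
  let C : Sylow a H → Finset M := fun X => Finset.univ.filter fun m => m ≠ 1 ∧ (X : Subgroup H) ≤ stab act m
  have hdisj : ((Finset.univ : Finset (Sylow a H)) : Set (Sylow a H)).PairwiseDisjoint C := by
    intro X _ Y _ hXY
    refine Finset.disjoint_left.2 fun m hX hY => hXY ?_
    simp only [C, Finset.mem_filter, Finset.mem_univ, true_and] at hX hY
    exact sylow_eq hg hX.1 hX.2 hY.2
  have hun : (Finset.univ : Finset (Sylow a H)).biUnion C = Finset.univ.erase (1 : M) := by
    ext m
    simp only [C, Finset.mem_biUnion, Finset.mem_filter, Finset.mem_univ, true_and, Finset.mem_erase, and_true]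
    exact ⟨fun ⟨_, h, _⟩ => h, fun h => (exists_sylow_le hg h).imp fun X hX => ⟨h, hX⟩⟩
  have hC : ∀ X : Sylow a H, (C X).card = Nat.card (fixC act (R : Subgroup H)) - 1 := by
    intro X
    have e : C X = (Finset.univ.filter fun m : M => m ∈ fixC act (X : Subgroup H)).erase 1 := by
      ext m
      simp [C, mem_fixC]
    rw [card_fixC_eq R X, e, Finset.card_erase_of_mem (by simp [one_mem]), ← Fintype.card_subtype,
      ← Nat.card_eq_fintype_card]
  have h := Finset.card_biUnion hdisj
  rw [hun, Finset.card_erase_of_mem (Finset.mem_univ _), Finset.card_univ, Finset.sum_congr rfl fun X _ => hC X,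
    Finset.sum_const, Finset.card_univ, smul_eq_mul, ← Nat.card_eq_fintype_card, ← Nat.card_eq_fintype_card] at h
  exact h.symm

/-- Every Sylow subgroup fixes some point. -/
theorem exists_fix (hg : Good act a) [Nontrivial M] (R : Sylow a H) :
    ∃ m : M, m ≠ 1 ∧ (R : Subgroup H) ≤ stab act m := by
  obtain ⟨m₀, hm₀⟩ := exists_ne (1 : M)
  obtain ⟨R₀, hR₀⟩ := exists_sylow_le hg hm₀
  have h : 1 < Nat.card (fixC act (R : Subgroup H)) := by
    rw [card_fixC_eq R R₀, Subgroup.one_lt_card_iff_ne_bot]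
    exact fun e => hm₀ (Subgroup.mem_bot.1 (e ▸ hR₀ : m₀ ∈ (⊥ : Subgroup M)))
  obtain ⟨⟨m, hm⟩, hm1⟩ := Subgroup.ne_bot_iff_exists_ne_one.1 (Subgroup.one_lt_card_iff_ne_bot _ |>.1 h)
  exact ⟨m, fun e => hm1 (Subtype.ext e), hm⟩

section Faithful

variable (hinj : Function.Injective act) (hg : Good act a) [Nontrivial M] (hdiv : a ∣ Nat.card H)
include hinj hg hdiv

theorem sylow_ne_bot (R : Sylow a H) : (R : Subgroup H) ≠ ⊥ := by
  intro e
  have h := R.dvd_card_of_dvd_card hdiv
  rw [e, Subgroup.card_bot, Nat.dvd_one] at h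
  exact (Fact.out : a.Prime).one_lt.ne' h

theorem fixC_ne_top (R : Sylow a H) : fixC act (R : Subgroup H) ≠ ⊤ := by
  intro e
  refine sylow_ne_bot hinj hg hdiv R ((Subgroup.eq_bot_iff_forall _).2 fun x hx => hinj (MulEquiv.ext fun m => ?_))
  rw [map_one]
  exact (e ▸ Subgroup.mem_top m : m ∈ fixC act (R : Subgroup H)) hx

theorem sylow_not_normal (R : Sylow a H) : ¬ (R : Subgroup H).Normal := by
  intro hn
  refine fixC_ne_top hinj hg hdiv R (eq_top_iff.2 fun m _ => ?_)
  by_cases hm : m = 1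
  · exact hm ▸ one_mem _
  obtain ⟨R', hR'⟩ := exists_sylow_le hg hm
  haveI := hn
  have e : (R' : Subgroup H) = R :=
    (R'.is_maximal' R.isPGroup' (le_of_index R.not_dvd_index R'.isPGroup')).symm
  exact e ▸ hR'

/-- A Sylow subgroup meets a semiregular subgroup trivially, and is not centralised by it. -/
theorem commutator_semiregular (C : Subgroup H) [hC : C.Normal] (hCc : ∀ x ∈ C, ∀ y ∈ C, x * y = y * x)
    (hfree : ∀ c ∈ C, ∀ m : M, m ≠ 1 → act c m = m → c = 1) (hK : commutator H ≤ C) (R : Sylow a H) :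
    ((C ⊔ (R : Subgroup H)).Normal) ∧ (∃ i, C.relIndex (C ⊔ (R : Subgroup H)) = a ^ i) ∧
      ∃ c ∈ C, c ∈ ⁅C ⊔ (R : Subgroup H), C ⊔ (R : Subgroup H)⁆ ∧ c ≠ 1 := by
  have hCX : ∀ X : Sylow a H, ∀ x ∈ (X : Subgroup H), x ∈ C → x = 1 := by
    intro X x hx hxC
    obtain ⟨m, hm, hXm⟩ := exists_fix hg X
    exact hfree x hxC m hm (hXm hx)
  have hS : (C ⊔ (R : Subgroup H)).Normal := ⟨fun x hx g => by
    have h1 : ⁅g, x⁆ ∈ C ⊔ (R : Subgroup H) := Subgroup.mem_sup_left
      (hK (Subgroup.commutator_mem_commutator (Subgroup.mem_top g) (Subgroup.mem_top x)))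
    have h2 := mul_mem h1 hx
    rwa [commutatorElement_def, inv_mul_cancel_right] at h2⟩
  refine ⟨hS, ?_, ?_⟩
  · obtain ⟨i, hi⟩ := IsPGroup.iff_card.1 R.isPGroup'
    have h1 : C.relIndex (C ⊔ (R : Subgroup H)) ∣ a ^ i := by
      rw [Subgroup.relIndex_sup_left, ← hi]
      exact Subgroup.relIndex_dvd_card _ _
    obtain ⟨j, -, hj⟩ := (Nat.dvd_prime_pow (Fact.out : a.Prime)).1 h1
    exact ⟨j, hj⟩
  · by_contra hall
    push Not at hall
    have hcomm : ∀ c ∈ C, ∀ x ∈ (R : Subgroup H), x * c = c * x := by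
      intro c hc x hx
      refine (commutatorElement_eq_one_iff_mul_comm.1 (hall ⁅c, x⁆ ?_ ?_)).symm
      · rw [commutatorElement_def, mul_assoc (c * x), mul_assoc c]
        refine mul_mem hc ?_
        rw [← mul_assoc]
        exact hC.conj_mem _ (inv_mem hc) x
      · exact Subgroup.commutator_mem_commutator (Subgroup.mem_sup_left hc) (Subgroup.mem_sup_right hx)
    refine sylow_not_normal hinj hg hdiv R ⟨fun x hx g => ?_⟩
    obtain ⟨c, hc, y, hy, e⟩ := Subgroup.mem_sup_of_normal_left.1 (hS.conj_mem x (Subgroup.mem_sup_right hx) g)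
    have e' : c * y = g * x * g⁻¹ := e
    obtain ⟨k, hk⟩ := R.isPGroup' ⟨x, hx⟩
    obtain ⟨l, hl⟩ := R.isPGroup' ⟨y, hy⟩
    have hk' : x ^ a ^ k = 1 := congrArg Subtype.val hk
    have hl' : y ^ a ^ l = 1 := congrArg Subtype.val hl
    have hc1 : c ^ (a ^ (k + l)) = 1 := by
      have h3 : (c * y) ^ (a ^ (k + l)) = 1 := by
        rw [e', conj_pow, pow_add, pow_mul, hk', one_pow, mul_one, mul_inv_cancel]
      rwa [(show Commute c y from (hcomm c hc y hy).symm).mul_pow, pow_add, mul_comm (a ^ k), pow_mul y, hl',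
        one_pow, mul_one, mul_comm (a ^ l), ← pow_add] at h3
    obtain ⟨X, hX⟩ := (IsPGroup.exists_le_sylow (P := Subgroup.zpowers c) (p := a) (fun z => ⟨k + l, by
      obtain ⟨z, j, rfl⟩ := z
      refine Subtype.ext ?_
      show (c ^ j) ^ a ^ (k + l) = 1
      rw [← zpow_natCast, ← zpow_mul, mul_comm, zpow_mul, zpow_natCast, hc1, one_zpow]⟩))
    rw [← e', hCX X c (hX (Subgroup.mem_zpowers c)) hc, one_mul]
    exact hy

end Faithful

/-- Two Sylow partitions and a semiregular abelian subgroup with abelian factor group. -/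
theorem deg_of_semiregular [Nontrivial M] {b : ℕ} [Fact b.Prime] (hab : a ≠ b) (hinj : Function.Injective act)
    (hga : Good act a) (hgb : Good act b) (hda : a ∣ Nat.card H) (hdb : b ∣ Nat.card H) (C : Subgroup H)
    [hC : C.Normal] (hCc : ∀ x ∈ C, ∀ y ∈ C, x * y = y * x)
    (hfree : ∀ c ∈ C, ∀ m : M, m ≠ 1 → act c m = m → c = 1) (hK : commutator H ≤ C) : Deg (a * b) H := by
  obtain ⟨hS1, hr1, c1, hc1, hc1', h1⟩ :=
    commutator_semiregular hinj hga hda C hCc hfree hK (default : Sylow a H)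
  obtain ⟨hS2, hr2, c2, hc2, hc2', h2⟩ :=
    commutator_semiregular hinj hgb hdb C hCc hfree hK (default : Sylow b H)
  exact two_primes Fact.out Fact.out hab C hCc _ _ le_sup_left le_sup_left hr1 hr2 hc1 hc2 hc1' hc2' h1 h2

end CfsgLib.Palfy
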